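import Groth.Agent.EtAcycX.CompBC
import Groth.Agent.EtMV.HenselVanish
import Groth.Agent.EtStalk.Pullback
import Mathlib

/-! Descending classes in the image of pullback along a surjective base change. -/

set_option autoImplicit false
set_option backward.isDefEq.respectTransparency false
set_option backward.isDefEq.respectTransparency.types false
set_option linter.unusedSectionVars false
set_option linter.auxLemma false
set_option linter.overlappingInstances false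
set_option linter.style.haveILetI false
set_option maxHeartbeats 1000000

universe u w v

open CategoryTheory CategoryTheory.Limits CategoryTheory.Abelian AlgebraicGeometry Opposite

noncomputable section

namespace Groth.Agent.EtAcycX

open EtMV (T)

attribute [local instance 100000] EtCoh.H._proof_1 Groth.Agent.EtMV.hext
attribute [local instance 200000] Groth.Agent.EtMV.hextAb
attribute [local instance 300000] CategoryTheory.Preadditive.preadditiveHasZeroMorphisms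
  CategoryTheory.Abelian.toPreadditive

theorem isLTorsion_pull {S S' : Scheme.{u}} (g : S' ⟶ S) {L : Set ℕ} {F : EtCoh.Ab S} (hF : EtAcyc.IsLTorsion L F) :
    EtAcyc.IsLTorsion L ((EtCoh.pull g).obj F) := by
  rw [Groth.Agent.S8525.result]
  intro Ω _ _ ξ t
  let e := (EtStalk.stalkPullIso g ξ).app F
  obtain ⟨m, hm, h0⟩ := (Groth.Agent.S8525.result L F).1 hF Ω (ξ ≫ g) (e.inv t)
  refine ⟨m, hm, ?_⟩
  have ht : e.hom (e.inv t) = t := by
    show (e.inv ≫ e.hom) t = t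
    rw [e.inv_hom_id]
    rfl
  rw [← ht]
  exact (map_nsmul e.hom.hom m (e.inv t)).symm.trans ((congrArg e.hom.hom h0).trans (map_zero e.hom.hom))

theorem Hpull_HpullVia {S S₁ S₂ : Scheme.{u}} (f : S₂ ⟶ S₁) (t : S₁ ⟶ S) (f₀ : S₂ ⟶ S) (w : f ≫ t = f₀)
    [PreservesFiniteLimits (EtCoh.pull f)] [PreservesFiniteLimits (EtCoh.pull t)]
    [PreservesFiniteLimits (EtCoh.pull f₀)] (G : EtCoh.Ab S) (q : ℕ) (x : EtCoh.H S G q) :
    EtCore.HpullVia f t f₀ w G q (EtCore.Hpull t G q x) = EtCore.Hpull f₀ G q x :=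
  EtMV.T_T_pull f t f₀ (EtMV.ψ f t f₀ w) (EtCore.pullConst t ℤ).inv (EtCore.pullConst f ℤ).inv
    (EtCore.pullConst f₀ ℤ).inv (EtLimit.pullConst_comp f t f₀ w) q G x

theorem HpullVia_eq {S S₁ S₂ : Scheme.{u}} (f : S₂ ⟶ S₁) (t : S₁ ⟶ S) (f₀ : S₂ ⟶ S) (w : f ≫ t = f₀)
    [PreservesFiniteLimits (EtCoh.pull f)] (G : EtCoh.Ab S) (q : ℕ) (x : EtCoh.H S₁ ((EtCoh.pull t).obj G) q) :
    EtCore.HpullVia f t f₀ w G q x =
      Ext.comp (EtCore.Hpull f ((EtCoh.pull t).obj G) q x) (Ext.mk₀ (EtLimit.ψh f t f₀ w G)) (add_zero q) := rfl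

section Gen

variable {C : Type w} [Category.{v} C] [Abelian C] [HasExt.{v} C]

theorem transport {P A A' M B B' Z : C} {q : ℕ} (a : Ext P A q) (b : Ext P A' q) (i : A ⟶ M) (j : A' ⟶ M)
    (j' : M ⟶ A') (hj : j ≫ j' = 𝟙 A') (hab : b.comp (Ext.mk₀ j) (add_zero q) = a.comp (Ext.mk₀ i) (add_zero q))
    (u' : A' ⟶ B') (c' : B' ⟶ Z) (u : A ⟶ B) (c : B ⟶ Z) (h : i ≫ j' ≫ u' ≫ c' = u ≫ c) :
    (b.comp (Ext.mk₀ u') (add_zero q)).comp (Ext.mk₀ c') (add_zero q) =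
      (a.comp (Ext.mk₀ u) (add_zero q)).comp (Ext.mk₀ c) (add_zero q) := by
  have hb : b = b.comp (Ext.mk₀ (j ≫ j')) (add_zero q) := by rw [hj, Ext.comp_mk₀_id]
  simp only [Ext.comp_assoc_of_second_deg_zero, Ext.mk₀_comp_mk₀]
  rw [← h, hb, ← Ext.mk₀_comp_mk₀ j, ← Ext.comp_assoc_of_second_deg_zero, hab]
  simp only [Ext.comp_assoc_of_second_deg_zero, Ext.mk₀_comp_mk₀, Category.assoc]

end Gen

variable {X Y Xb Yb : Scheme.{u}} (h : Y ⟶ X) (p : Xb ⟶ X) (hb : Yb ⟶ Xb) (pY : Yb ⟶ Y)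
  (w : hb ≫ p = pY ≫ h)

theorem ψ_swap_natural {F G : EtCoh.Ab X} (u : F ⟶ G) :
    (EtCoh.pull hb).map ((EtCoh.pull p).map u) ≫ EtLimit.ψh hb p (pY ≫ h) w G ≫ ψhi pY h (pY ≫ h) rfl G =
      EtLimit.ψh hb p (pY ≫ h) w F ≫ ψhi pY h (pY ≫ h) rfl F ≫ (EtCoh.pull pY).map ((EtCoh.pull h).map u) := by
  rw [← Category.assoc, EtLimit.ψh_natural, Category.assoc]
  exact congrArg (_ ≫ ·) ((EtMV.ψ pY h (pY ≫ h) rfl).inv.naturality u)

theorem chase_map {F : EtCoh.Ab X} {T₀ : EtCoh.Ab Xb} (u : F ⟶ (EtCoh.push p).obj T₀) :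
    EtLimit.ψh hb p (pY ≫ h) w F ≫ ψhi pY h (pY ≫ h) rfl F ≫
        (EtCoh.pull pY).map ((EtCoh.pull h).map u ≫ EtCoh.baseChange0 p h pY hb w T₀) ≫
        (EtCoh.pullPushAdj pY).counit.app ((EtCoh.pull hb).obj T₀) =
      (EtCoh.pull hb).map ((EtCoh.pull p).map u) ≫ (EtCoh.pull hb).map ((EtCoh.pullPushAdj p).counit.app T₀) := by
  have key := congrArg ((EtCoh.pull hb).map ((EtCoh.pull p).map u) ≫ ·) (bc0_counit p h pY hb w T₀)
  refine Eq.trans ?_ key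
  have e := congrArg (· ≫ (EtCoh.pull pY).map (EtCoh.baseChange0 p h pY hb w T₀) ≫
      (EtCoh.pullPushAdj pY).counit.app ((EtCoh.pull hb).obj T₀)) (ψ_swap_natural h p hb pY w u)
  simp only [Category.assoc] at e
  rw [Functor.map_comp, Category.assoc]
  exact e.symm

variable [PreservesFiniteLimits (EtCoh.pull h)] [PreservesFiniteLimits (EtCoh.pull p)]
  [PreservesFiniteLimits (EtCoh.pull hb)] [PreservesFiniteLimits (EtCoh.pull pY)]

theorem HofPush_bc0_eq {F : EtCoh.Ab X} {T₀ : EtCoh.Ab Xb} (u : F ⟶ (EtCoh.push p).obj T₀) (q : ℕ)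
    (ξ : EtCoh.H Y ((EtCoh.pull h).obj F) q) (y : EtCoh.H Xb ((EtCoh.pull p).obj F) q)
    (hξy : EtCore.HpullVia pY h (pY ≫ h) rfl F q ξ = EtCore.HpullVia hb p (pY ≫ h) w F q y) :
    EtLim.HofPush pY ((EtCoh.pull hb).obj T₀) q (((EtCoh.HF Y q).map (EtCoh.baseChange0 p h pY hb w T₀)).hom
        (Ext.comp ξ (Ext.mk₀ ((EtCoh.pull h).map u)) (add_zero q))) =
      EtCore.Hpull hb T₀ q (Ext.comp y
        (Ext.mk₀ ((EtCoh.pull p).map u ≫ (EtCoh.pullPushAdj p).counit.app T₀)) (add_zero q)) := by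
  have e₁ : Ext.comp (Ext.comp ξ (Ext.mk₀ ((EtCoh.pull h).map u)) (add_zero q))
      (Ext.mk₀ (EtCoh.baseChange0 p h pY hb w T₀)) (add_zero q) =
      Ext.comp ξ (Ext.mk₀ ((EtCoh.pull h).map u ≫ EtCoh.baseChange0 p h pY hb w T₀)) (add_zero q) := by
    rw [Ext.comp_assoc_of_second_deg_zero, Ext.mk₀_comp_mk₀]
  show Ext.comp (EtCore.Hpull pY _ q (Ext.comp (Ext.comp ξ (Ext.mk₀ ((EtCoh.pull h).map u)) (add_zero q))
      (Ext.mk₀ (EtCoh.baseChange0 p h pY hb w T₀)) (add_zero q)))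
    (Ext.mk₀ ((EtCoh.pullPushAdj pY).counit.app ((EtCoh.pull hb).obj T₀))) (add_zero q) = _
  rw [e₁]
  have l₁ := Hpull_comp_mk₀ pY ξ ((EtCoh.pull h).map u ≫ EtCoh.baseChange0 p h pY hb w T₀)
  have l₂ := Hpull_comp_mk₀ hb y ((EtCoh.pull p).map u ≫ (EtCoh.pullPushAdj p).counit.app T₀)
  refine (congrArg (fun t => Ext.comp t (Ext.mk₀ ((EtCoh.pullPushAdj pY).counit.app ((EtCoh.pull hb).obj T₀)))
    (add_zero q)) l₁).trans (Eq.trans ?_ l₂.symm)
  have hab := ((HpullVia_eq pY h (pY ≫ h) rfl F q ξ).symm.trans hξy).trans (HpullVia_eq hb p (pY ≫ h) w F q y)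
  refine (transport _ _ (EtLimit.ψh hb p (pY ≫ h) w F) (EtLimit.ψh pY h (pY ≫ h) rfl F) (ψhi pY h (pY ≫ h) rfl F)
    (ψh_ψhi pY h (pY ≫ h) rfl F) hab _ _ _ _ (chase_map h p hb pY w u)).trans ?_
  rw [Ext.comp_assoc_of_second_deg_zero, Ext.mk₀_comp_mk₀, Functor.map_comp]

variable [CompactSpace X] [QuasiSeparatedSpace X] [CompactSpace Xb] [QuasiSeparatedSpace Xb]
  {L : Set ℕ} {n : ℕ}

variable {h p hb pY w} in
theorem mem_range_of_mem_range [Surjective p] (hh : EtAcyc.CompN h L n)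
    (hbc : ∀ F : EtCoh.Ab Xb, EtAcyc.IsLTorsion L F → BCN h p hb pY w n F) {F : EtCoh.Ab X}
    (hF : EtAcyc.IsLTorsion L F) (ξ : EtCoh.H Y ((EtCoh.pull h).obj F) (n + 1))
    (y : EtCoh.H Xb ((EtCoh.pull p).obj F) (n + 1))
    (hξy : EtCore.HpullVia pY h (pY ≫ h) rfl F (n + 1) ξ = EtCore.HpullVia hb p (pY ≫ h) w F (n + 1) y) :
    ξ ∈ Set.range (EtCore.Hpull h F (n + 1)) := by
  obtain ⟨T₀, e, he, hcT, hT⟩ := exists_hullL L (isLTorsion_pull p hF)
  haveI := EtMV.mono_unit_of_surjective p F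
  haveI : PreservesFiniteLimits (EtCoh.push p) :=
    haveI := (EtCoh.pullPushAdj p).rightAdjoint_preservesLimits
    PreservesLimits.preservesFiniteLimits _
  let u : F ⟶ (EtCoh.push p).obj T₀ := (EtCoh.pullPushAdj p).unit.app F ≫ (EtCoh.push p).map e
  haveI : Mono u := mono_comp _ _
  let S : ShortComplex (EtCoh.Ab X) := ShortComplex.mk u (cokernel.π u) (cokernel.condition u)
  have hS : S.ShortExact := { exact := ShortComplex.exact_of_g_is_cokernel _ (cokernelIsCokernel _) }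
  have hR : EtAcyc.IsLTorsion L S.X₃ := isLTorsion_of_epi L (cokernel.π u) (isLTorsion_push hT)
  haveI := (hbc T₀ hT).isIso_bc0
  have hi := (HofPush_bounded pY ((EtCoh.pull hb).obj T₀) n
    fun q hq => (hbc T₀ hT).isZero_rpush hq (EtColimH.isZero_rpush_of_cac p q T₀ hcT)).2
  have hbcH : Function.Bijective ((EtCoh.HF Y (n + 1)).map (EtCoh.baseChange0 p h pY hb w T₀)).hom :=
    (ConcreteCategory.isIso_iff_bijective ((EtCoh.HF Y (n + 1)).map (EtCoh.baseChange0 p h pY hb w T₀))).1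
      inferInstance
  have hz : Subsingleton (EtCoh.H Xb T₀ (n + 1)) := subsingleton_H_of_cac T₀ hcT n
  have hξ : Ext.comp ξ (Ext.mk₀ (S.map (EtCoh.pull h)).f) (add_zero (n + 1)) = 0 := by
    refine hbcH.1 (hi ?_)
    refine (HofPush_bc0_eq h p hb pY w u (n + 1) ξ y hξy).trans ?_
    rw [map_zero, map_zero, @Subsingleton.elim _ hz (Ext.comp y _ _) 0, map_zero]
  obtain ⟨z, hz'⟩ := Ext.covariant_sequence_exact₁ (EtCoh.const Y ℤ) (hS.map_of_exact (EtCoh.pull h)) ξ hξ rfl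
  obtain ⟨z₀, rfl⟩ := ((hh S.X₃ hR).1 n le_rfl).2 z
  exact ⟨Ext.comp z₀ hS.extClass rfl, (Hpull_comp_extClass h hS z₀ rfl).trans hz'⟩

theorem mem_range_iff [Surjective p] (hh : EtAcyc.CompN h L n)
    (hbc : ∀ F : EtCoh.Ab Xb, EtAcyc.IsLTorsion L F → BCN h p hb pY w n F) {F : EtCoh.Ab X}
    (hF : EtAcyc.IsLTorsion L F) (ξ : EtCoh.H Y ((EtCoh.pull h).obj F) (n + 1)) :
    ξ ∈ Set.range (EtCore.Hpull h F (n + 1)) ↔
      EtCore.HpullVia pY h (pY ≫ h) rfl F (n + 1) ξ ∈ Set.range (EtCore.HpullVia hb p (pY ≫ h) w F (n + 1)) := by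
  refine ⟨?_, fun ⟨y, hy⟩ => mem_range_of_mem_range hh hbc hF ξ y hy.symm⟩
  rintro ⟨x, rfl⟩
  haveI := EtCohDesc.pull_preservesFiniteLimits (pY ≫ h)
  exact ⟨EtCore.Hpull p F (n + 1) x,
    (Hpull_HpullVia hb p (pY ≫ h) w F (n + 1) x).trans (Hpull_HpullVia pY h (pY ≫ h) rfl F (n + 1) x).symm⟩

end Groth.Agent.EtAcycX
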