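import Groth.Agent.EtAcycX.PointAcyc
import Groth.Agent.EtFLC.Triv
import Mathlib

/-! Constant and locally constant sheaves on spectra of strictly henselian rings. -/

set_option autoImplicit false
set_option backward.isDefEq.respectTransparency false
set_option backward.isDefEq.respectTransparency.types false
set_option linter.unusedSectionVars false
set_option linter.auxLemma false
set_option linter.overlappingInstances false
set_option linter.style.haveILetI false
set_option maxHeartbeats 1000000

universe u

open CategoryTheory CategoryTheory.Limits CategoryTheory.Abelian AlgebraicGeometry Opposite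

noncomputable section

namespace Groth.Agent.EtAcycX

attribute [local instance 100000] EtCoh.H._proof_1 Groth.Agent.EtMV.hext
attribute [local instance 200000] Groth.Agent.EtMV.hextAb
attribute [local instance 300000] CategoryTheory.Preadditive.preadditiveHasZeroMorphisms
  CategoryTheory.Abelian.toPreadditive

/-- the constant sheaf on a big group -/
abbrev constB (X : Scheme.{u}) (M : AddCommGrpCat.{u + 1}) : EtCoh.Ab X :=
  (constantSheaf X.smallEtaleTopology AddCommGrpCat.{u + 1}).obj M

/-- constants give all global sections of constant sheaves -/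
def ConstTop (X : Scheme.{u}) : Prop :=
  ∀ M : AddCommGrpCat.{u + 1}, Function.Bijective ((EtCore.constAdj X).unit.app M).hom

section Hens

variable (R : Type u) [CommRing R] [HenselianLocalRing R] [IsSepClosed (IsLocalRing.ResidueField R)]

theorem constTop_henselian : ConstTop (Spec (CommRingCat.of R)) := by
  intro M
  let X := Spec (CommRingCat.of R)
  let Φ := Scheme.pointSmallEtale (EtHens.pt R)
  let cP : X.Etaleᵒᵖ ⥤ AddCommGrpCat.{u + 1} := (Functor.const _).obj M
  let ι := toSheafify X.smallEtaleTopology cP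
  haveI : IsIso (Φ.presheafFiber.map ι) := Φ.W_isInvertedBy_presheafFiber _ (X.smallEtaleTopology.W_toSheafify cP)
  have hι : Function.Bijective (Φ.presheafFiber.map ι) := (ConcreteCategory.isIso_iff_bijective _).1 inferInstance
  have hg : Function.Bijective (Φ.toPresheafFiber (EtCoh.top X) (EtHens.pt₀ R) cP) := by
    refine ⟨fun a b h => ?_, fun p => ?_⟩
    · obtain ⟨W, g, w, -, he⟩ := (Φ.toPresheafFiber_eq_iff' (P := cP) (EtCoh.top X) (EtHens.pt₀ R) a b).mp h
      exact he
    · obtain ⟨W, w, t, rfl⟩ := Φ.toPresheafFiber_jointly_surjective (P := cP) p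
      obtain ⟨a, ha⟩ := EtHens.exists_factor R W w
      refine ⟨t, ?_⟩
      have h1 := GrothendieckTopology.Point.toPresheafFiber_w_apply Φ a (EtHens.pt₀ R) cP t
      refine Eq.trans ?_ (h1.trans ?_)
      · rfl
      · exact congrArg (fun z => Φ.toPresheafFiber W z cP t) ha
  have e : (fun m => Φ.toPresheafFiber (EtCoh.top X) (EtHens.pt₀ R) (constB X M).obj
      ((EtCore.constAdj X).unit.app M m)) = fun m => Φ.presheafFiber.map ι
        (Φ.toPresheafFiber (EtCoh.top X) (EtHens.pt₀ R) cP m) := by
    funext m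
    refine Eq.trans ?_ (GrothendieckTopology.Point.toPresheafFiber_naturality_apply Φ ι _ (EtHens.pt₀ R) m).symm
    refine congrArg _ ?_
    rw [EtCore.constAdj]
    rfl
  have hb : Function.Bijective fun m => Φ.toPresheafFiber (EtCoh.top X) (EtHens.pt₀ R) (constB X M).obj
      ((EtCore.constAdj X).unit.app M m) := by
    rw [e]; exact hι.comp hg
  exact (Function.Bijective.of_comp_iff' (EtHens.bijective_germ R (constB X M)) _).1 hb

/-- locally constant sheaves on strictly henselian spectra are constant -/
theorem exists_iso_constB (F : EtCoh.Ab (Spec (CommRingCat.of R))) (hF : EtRest.IsLocallyConstant F) :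
    ∃ M : AddCommGrpCat.{u + 1}, Nonempty (F ≅ constB (Spec (CommRingCat.of R)) M) := by
  let X := Spec (CommRingCat.of R)
  obtain ⟨U, u₀, M, _, σ, hu, hσ⟩ := (EtFLC.isLC_iff F).1 hF (IsLocalRing.closedPoint R)
  obtain ⟨y, -⟩ := Scheme.pointSmallEtaleFiberObjToPreimage_surjective (EtHens.pt R)
    (EtBCQ.Spec_closedPoint' (IsLocalRing.residue R) ▸ by
      rw [Subsingleton.elim (α := Spec (CommRingCat.of (IsLocalRing.ResidueField R))) default
        (IsLocalRing.closedPoint (IsLocalRing.ResidueField R))]) U ⟨u₀, hu⟩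
  obtain ⟨a, -⟩ := EtHens.exists_factor R U y
  have h := hσ.comap a
  let M' := AddCommGrpCat.of M
  let τ : M →+ EtCoh.sect F (EtCoh.top X) := (EtFLC.res F a).comp σ
  let toT : ∀ V : X.Etale, V ⟶ EtCoh.top X := fun V => (EtCore.topIsTerminal X).from V
  let ψ : (Functor.const X.Etaleᵒᵖ).obj M' ⟶ F.obj :=
    { app := fun V => AddCommGrpCat.ofHom ((EtFLC.res F (toT V.unop)).comp τ)
      naturality := fun V W k => by
        ext m
        show EtFLC.res F (toT W.unop) (τ m) = EtFLC.res F k.unop (EtFLC.res F (toT V.unop) (τ m))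
        rw [EtFLC.res_res, (EtCore.topIsTerminal X).hom_ext (k.unop ≫ toT V.unop) (toT W.unop)] }
  haveI hinj : Presheaf.IsLocallyInjective X.smallEtaleTopology ψ := ⟨fun {V} x y hxy =>
    (EtFLC.mem_iff _).2 fun v => ⟨V.unop, 𝟙 _, v, by
      have h0 : (x : M) - y = 0 := by
        refine h.inj (toT V.unop) ((x : M) - y) ?_ v
        show EtFLC.res F (toT V.unop) (τ ((x : M) - y)) = 0
        rw [map_sub, map_sub]
        exact sub_eq_zero.2 hxy
      exact congrArg _ (sub_eq_zero.1 h0), rfl⟩⟩
  haveI hsurj : Presheaf.IsLocallySurjective X.smallEtaleTopology ψ := ⟨fun {V} s => (EtFLC.mem_iff _).2 fun v => by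
    obtain ⟨W, k, w, m, hw, hm⟩ := h.surj (toT V) s v
    refine ⟨W, k, w, ⟨m, ?_⟩, hw⟩
    show EtFLC.res F (toT W) (τ m) = EtFLC.res F k s
    rw [hm, (EtCore.topIsTerminal X).hom_ext (k ≫ toT V) (toT W)]⟩
  have hW : X.smallEtaleTopology.W ψ := X.smallEtaleTopology.W_of_isLocallyBijective _
  haveI : IsIso ((presheafToSheaf X.smallEtaleTopology AddCommGrpCat.{u + 1}).map ψ) :=
    (X.smallEtaleTopology.W_iff _).1 hW
  exact ⟨M', ⟨(asIso ((presheafToSheaf X.smallEtaleTopology AddCommGrpCat.{u + 1}).map ψ) ≪≫
    (asIso ((sheafificationAdjunction X.smallEtaleTopology AddCommGrpCat.{u + 1}).counit.app F))).symm⟩⟩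

end Hens

section Pull

variable {X Y : Scheme.{u}} (f : X ⟶ Y) [PreservesFiniteLimits (EtCoh.pull f)]

theorem const_map_bijective (hX : ConstTop X) (A M : AddCommGrpCat.{u + 1}) :
    Function.Bijective (fun g : A ⟶ M => (constantSheaf X.smallEtaleTopology AddCommGrpCat.{u + 1}).map g) := by
  haveI : IsIso ((EtCore.constAdj X).unit.app M) := (ConcreteCategory.isIso_iff_bijective _).2 (hX M)
  have e : (fun g : A ⟶ M => ((EtCore.constAdj X).homEquiv A (constB X M))
      ((constantSheaf X.smallEtaleTopology AddCommGrpCat.{u + 1}).map g)) = fun g => g ≫ (EtCore.constAdj X).unit.app M := by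
    funext g
    rw [Adjunction.homEquiv_unit]
    exact ((EtCore.constAdj X).unit.naturality g).symm
  refine (Function.Bijective.of_comp_iff' ((EtCore.constAdj X).homEquiv A (constB X M)).bijective _).1 ?_
  show Function.Bijective (fun g : A ⟶ M => ((EtCore.constAdj X).homEquiv A (constB X M))
      ((constantSheaf X.smallEtaleTopology AddCommGrpCat.{u + 1}).map g))
  rw [e]
  exact ⟨fun a b h => (cancel_mono ((EtCore.constAdj X).unit.app M)).1 h,
    fun b => ⟨b ≫ inv ((EtCore.constAdj X).unit.app M), by simp⟩⟩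

/-- degree zero pullback of constant sheaves in terms of maps of constant sheaves -/
theorem bijective_Hpull_constB_iff (hY : ConstTop Y) (M : AddCommGrpCat.{u + 1}) :
    Function.Bijective (EtCore.Hpull f (constB Y M) 0) ↔
      Function.Bijective (fun g : AddCommGrpCat.of (ULift.{u + 1} ℤ) ⟶ M =>
        (constantSheaf X.smallEtaleTopology AddCommGrpCat.{u + 1}).map g) := by
  let A := AddCommGrpCat.of (ULift.{u + 1} ℤ)
  let cY := fun g : A ⟶ M => (Ext.mk₀ ((constantSheaf Y.smallEtaleTopology AddCommGrpCat.{u + 1}).map g) :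
    EtCoh.H Y (constB Y M) 0)
  have hcY : Function.Bijective cY := (Ext.mk₀_bijective _ _).comp (const_map_bijective hY A M)
  refine (Function.Bijective.of_comp_iff _ hcY).symm.trans ?_
  let e := (EtCore.pullConstIso f).app M
  let c : (constB X A ⟶ constB X M) → EtCoh.H X ((EtCoh.pull f).obj (constB Y M)) 0 := fun ψ => Ext.mk₀ (ψ ≫ e.inv)
  have hc : Function.Bijective c :=
    (Ext.mk₀_bijective _ _).comp ⟨fun a b h => (cancel_mono e.inv).1 h, fun b => ⟨b ≫ e.hom, by simp⟩⟩
  have he : EtCore.Hpull f (constB Y M) 0 ∘ cY =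
      c ∘ fun g : A ⟶ M => (constantSheaf X.smallEtaleTopology AddCommGrpCat.{u + 1}).map g := by
    funext g
    show (Ext.mk₀ (EtCore.pullConst f ℤ).inv).comp ((Ext.mk₀ _).mapExactFunctor (EtCoh.pull f)) (zero_add 0) = _
    rw [Ext.mapExactFunctor_mk₀, Ext.mk₀_comp_mk₀]
    exact congrArg Ext.mk₀ ((EtCore.pullConstIso f).inv.naturality g).symm
  rw [he]
  exact Function.Bijective.of_comp_iff' hc _

/-- degree zero cohomology of constant sheaves is unchanged between such schemes -/
theorem bijective_Hpull_constB (hX : ConstTop X) (hY : ConstTop Y) (M : AddCommGrpCat.{u + 1}) :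
    Function.Bijective (EtCore.Hpull f (constB Y M) 0) :=
  (bijective_Hpull_constB_iff f hY M).2 (const_map_bijective hX _ M)

end Pull

end Groth.Agent.EtAcycX
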