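import Groth.Agent.EtAcycX.Edge
import Groth.Agent.EtBCQ.DegZero
import Groth.Prelude.Def_EtAcyc
import Mathlib

/-! The comparison condition `CompN` along a base change. -/

set_option autoImplicit false
set_option backward.isDefEq.respectTransparency false
set_option backward.isDefEq.respectTransparency.types false
set_option linter.unusedSectionVars false
set_option linter.auxLemma false
set_option linter.overlappingInstances false
set_option linter.style.haveILetI false
set_option maxHeartbeats 1000000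

universe u

open CategoryTheory CategoryTheory.Limits CategoryTheory.Abelian AlgebraicGeometry Opposite

noncomputable section

namespace Groth.Agent.EtAcycX

attribute [local instance 100000] EtCoh.H._proof_1 Groth.Agent.EtMV.hext
attribute [local instance 200000] Groth.Agent.EtMV.hextAb
attribute [local instance 300000] CategoryTheory.Preadditive.preadditiveHasZeroMorphisms
  CategoryTheory.Abelian.toPreadditive

variable {X Y Xb Yb : Scheme.{u}} (h : Y ⟶ X) (p : Xb ⟶ X) (hb : Yb ⟶ Xb) (pY : Yb ⟶ Y)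
  (w : hb ≫ p = pY ≫ h) (L : Set ℕ) (n : ℕ)
  [PreservesFiniteLimits (EtCoh.pull hb)]

/-- the base change hypothesis at a sheaf -/
def BCN (F : EtCoh.Ab Xb) : Prop :=
  (∀ i : ℕ, i ≤ n → IsIso (EtBC.bcQ p h pY hb w i F)) ∧ Mono (EtBC.bcQ p h pY hb w (n + 1) F)

variable {h p hb pY w L n}

theorem BCN.isIso_bc0 {F : EtCoh.Ab Xb} (hF : BCN h p hb pY w n F) : IsIso (EtCoh.baseChange0 p h pY hb w F) := by
  haveI := hF.1 0 (Nat.zero_le n)
  exact EtBCQ.isIso_baseChange0_of_bcQ p h pY hb w F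

theorem BCN.isZero_rpush {F : EtCoh.Ab Xb} (hF : BCN h p hb pY w n F) {q : ℕ} (hq : q < n)
    (hz : IsZero ((EtCoh.Rpush p (q + 1)).obj F)) :
    IsZero ((EtCoh.Rpush pY (q + 1)).obj ((EtCoh.pull hb).obj F)) := by
  haveI := hF.1 (q + 1) hq
  exact IsZero.of_iso ((EtCoh.pull h).map_isZero hz) (asIso (EtBC.bcQ p h pY hb w (q + 1) F)).symm

variable [PreservesFiniteLimits (EtCoh.pull h)] [PreservesFiniteLimits (EtCoh.pull p)]
  [PreservesFiniteLimits (EtCoh.pull pY)]

variable (h p hb pY w) in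
theorem Hpull_bijective_of_edge (F : EtCoh.Ab Xb) (k : ℕ) [IsIso (EtCoh.baseChange0 p h pY hb w F)]
    (h₁ : Function.Bijective (EtLim.HofPush p F k))
    (h₂ : Function.Bijective (EtLim.HofPush pY ((EtCoh.pull hb).obj F) k))
    (h₃ : Function.Bijective (EtCore.Hpull h ((EtCoh.push p).obj F) k)) :
    Function.Bijective (EtCore.Hpull hb F k) := by
  refine (Function.Bijective.of_comp_iff _ h₁).1 ?_
  have e : (EtCore.Hpull hb F k) ∘ (EtLim.HofPush p F k) = (EtLim.HofPush pY ((EtCoh.pull hb).obj F) k) ∘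
      (((EtCoh.HF Y k).map (EtCoh.baseChange0 p h pY hb w F)).hom ∘ EtCore.Hpull h ((EtCoh.push p).obj F) k) :=
    funext (Hpull_HofPush p h pY hb w F k)
  rw [e]
  exact h₂.comp (((ConcreteCategory.isIso_iff_bijective ((EtCoh.HF Y k).map (EtCoh.baseChange0 p h pY hb w F))).1
    inferInstance).comp h₃)

variable [CompactSpace X] [QuasiSeparatedSpace X] [CompactSpace Xb] [QuasiSeparatedSpace Xb]

theorem isLTorsion_push {F : EtCoh.Ab Xb} (hF : EtAcyc.IsLTorsion L F) :
    EtAcyc.IsLTorsion L ((EtCoh.push p).obj F) :=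
  EtColimH.locKilled_push (exponents L) p hF

theorem bijective_zero (hh : EtAcyc.CompN h L n) {F : EtCoh.Ab Xb} (hF : EtAcyc.IsLTorsion L F)
    (hb' : BCN h p hb pY w n F) : Function.Bijective (EtCore.Hpull hb F 0) :=
  haveI := hb'.isIso_bc0
  Hpull_bijective_of_edge h p hb pY w F 0 (HofPush_zero_bijective p F) (HofPush_zero_bijective pY _)
    ((hh _ (isLTorsion_push hF)).1 0 (Nat.zero_le n))

theorem bijective_of_cac (hh : EtAcyc.CompN h L n) {F : EtCoh.Ab Xb} (hF : EtAcyc.IsLTorsion L F)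
    (hc : EtColimH.CAc F) (hb' : BCN h p hb pY w n F) {k : ℕ} (hk : k ≤ n) :
    Function.Bijective (EtCore.Hpull hb F k) :=
  haveI := hb'.isIso_bc0
  Hpull_bijective_of_edge h p hb pY w F k
    (EtMV.HofPush_bijective p F (fun q => EtColimH.isZero_rpush_of_cac p q F hc) k)
    ((HofPush_bounded pY _ n fun q hq => hb'.isZero_rpush hq (EtColimH.isZero_rpush_of_cac p q F hc)).1 k hk)
    ((hh _ (isLTorsion_push hF)).1 k hk)

theorem Hpull_zero_or (hh : EtAcyc.CompN h L n)
    (hbc : ∀ F : EtCoh.Ab Xb, EtAcyc.IsLTorsion L F → BCN h p hb pY w n F) :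
    ∀ (k : ℕ) (F : EtCoh.Ab Xb), EtAcyc.IsLTorsion L F →
      (k ≤ n → Function.Bijective (EtCore.Hpull hb F k)) ∧ (k ≤ n + 1 → Function.Injective (EtCore.Hpull hb F k)) := by
  intro k
  induction k with
  | zero => exact fun F hF => ⟨fun _ => bijective_zero hh hF (hbc F hF), fun _ => (bijective_zero hh hF (hbc F hF)).1⟩
  | succ k ih =>
    intro F hF
    obtain ⟨T, e, he, hcT, hT⟩ := exists_hullL L hF
    let S : ShortComplex (EtCoh.Ab Xb) := ShortComplex.mk e (cokernel.π e) (cokernel.condition e)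
    have hS : S.ShortExact := { exact := ShortComplex.exact_of_g_is_cokernel _ (cokernelIsCokernel _) }
    have hQ : EtAcyc.IsLTorsion L S.X₃ := isLTorsion_of_epi L (cokernel.π e) hT
    have hvan : Subsingleton (EtCoh.H Xb S.X₂ (k + 1)) := subsingleton_H_of_cac T hcT k
    have hinj : k + 1 ≤ n + 1 → Function.Injective (EtCore.Hpull hb F (k + 1)) := by
      intro hk
      refine (injective_iff_map_eq_zero _).2 fun x hx => ?_
      obtain ⟨z, hz⟩ := Ext.covariant_sequence_exact₁ (EtCoh.const Xb ℤ) hS x (@Subsingleton.elim _ hvan _ _) rfl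
      subst hz
      have hx' := (Hpull_comp_extClass hb hS z rfl).symm.trans hx
      obtain ⟨v, hv⟩ := Ext.covariant_sequence_exact₃ (EtCoh.const Yb ℤ) (hS.map_of_exact (EtCoh.pull hb))
        (EtCore.Hpull hb S.X₃ k z) rfl hx'
      obtain ⟨v', rfl⟩ := (bijective_of_cac hh hT hcT (hbc T hT) (k := k) (by omega)).2 v
      have hzv : Ext.comp v' (Ext.mk₀ S.g) (add_zero k) = z :=
        ((ih S.X₃ hQ).2 (by omega)) ((Hpull_comp_mk₀ hb v' S.g).trans hv)
      rw [← hzv]
      exact (Ext.comp_assoc _ _ _ (add_zero k) (zero_add 1) (by omega)).trans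
        ((congrArg (fun t => Ext.comp v' t rfl) hS.comp_extClass).trans (Ext.comp_zero _ _ _ _ _))
    refine ⟨fun hk => ⟨hinj (by omega), fun y => ?_⟩, hinj⟩
    obtain ⟨x', hx'⟩ := (bijective_of_cac hh hT hcT (hbc T hT) (k := k + 1) hk).2
      (Ext.comp y (Ext.mk₀ (S.map (EtCoh.pull hb)).f) (add_zero (k + 1)))
    have h0 : Ext.comp y (Ext.mk₀ (S.map (EtCoh.pull hb)).f) (add_zero (k + 1)) = 0 :=
      hx'.symm.trans ((congrArg (EtCore.Hpull hb S.X₂ (k + 1)) (@Subsingleton.elim _ hvan x' 0)).trans (map_zero _))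
    obtain ⟨z', hz'⟩ := Ext.covariant_sequence_exact₁ (EtCoh.const Yb ℤ) (hS.map_of_exact (EtCoh.pull hb)) y h0 rfl
    obtain ⟨z, rfl⟩ := ((ih S.X₃ hQ).1 (by omega)).2 z'
    exact ⟨Ext.comp z hS.extClass rfl, (Hpull_comp_extClass hb hS z rfl).trans hz'⟩

theorem compN_bc (hh : EtAcyc.CompN h L n)
    (hbc : ∀ F : EtCoh.Ab Xb, EtAcyc.IsLTorsion L F → BCN h p hb pY w n F) : EtAcyc.CompN hb L n :=
  fun F hF _ => ⟨fun q hq => (Hpull_zero_or hh hbc q F hF).1 hq, (Hpull_zero_or hh hbc (n + 1) F hF).2 le_rfl⟩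

end Groth.Agent.EtAcycX
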