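import Groth.Agent.EtAcycX.Restrict
import Groth.Agent.EtIntegral.Push
import Mathlib

/-! `n`-acyclicity in terms of the unit and higher direct images. -/

set_option autoImplicit false
set_option backward.isDefEq.respectTransparency false
set_option backward.isDefEq.respectTransparency.types false
set_option linter.unusedSectionVars false
set_option linter.auxLemma false
set_option linter.overlappingInstances false
set_option linter.style.haveILetI false
set_option maxHeartbeats 1000000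

universe u

open CategoryTheory CategoryTheory.Limits CategoryTheory.Abelian AlgebraicGeometry Opposite

noncomputable section

namespace Groth.Agent.EtAcycX

open EtMV (T T_mk₀ T_comp P σ σ_comp σ_map σ_eq uel injSeq injSeq_shortExact isZero_rightDerived_X₃)

attribute [local instance 100000] EtCoh.H._proof_1 Groth.Agent.EtMV.hext
attribute [local instance 200000] Groth.Agent.EtMV.hextAb
attribute [local instance 300000] CategoryTheory.Preadditive.preadditiveHasZeroMorphisms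
  CategoryTheory.Abelian.toPreadditive

section LocKill

variable {X : Scheme.{u}}

/-- a class killed locally -/
def LocZero {G : EtCoh.Ab X} {W : X.Etale} {q : ℕ} (x : Ext ((P X).obj W) G q) : Prop :=
  ∀ w : W.left, ∃ (W' : X.Etale) (a : W' ⟶ W), w ∈ Set.range a.left ∧
    (Ext.mk₀ ((P X).map a)).comp x (zero_add q) = 0

theorem σ_zero (o : X.Etale) (G : EtCoh.Ab X) : σ (0 : (P X).obj o ⟶ G) = 0 := by
  have h := EtMV.σ_add (0 : (P X).obj o ⟶ G) 0
  rw [add_zero] at h
  exact add_eq_left.1 h.symm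

theorem locZero_all : ∀ (q : ℕ) (F : EtCoh.Ab X) (W : X.Etale) (x : Ext ((P X).obj W) F (q + 1)), LocZero x := by
  intro q
  induction q with
  | zero =>
    intro F W x w
    obtain ⟨z, hz⟩ := Ext.covariant_sequence_exact₁ _ (injSeq_shortExact F) x (Ext.eq_zero_of_injective _) rfl
    obtain ⟨φ, rfl⟩ := (Ext.mk₀_bijective _ _).2 z
    haveI := (injSeq_shortExact F).epi_g
    obtain ⟨W', a, y, hw, hy⟩ := EtIntegral.exists_lift_family (injSeq F).g W (σ φ)
    refine ⟨W' w, a w, hw w, ?_⟩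
    have e : (P X).map (a w) ≫ φ = σ.symm (y w) ≫ (injSeq F).g := by
      refine σ.injective ?_
      rw [σ_map, σ_comp, Equiv.apply_symm_apply, hy]
    rw [← hz, ← Ext.comp_assoc (a₁₂ := 0) _ _ _ (zero_add 0) rfl (show 0 + 0 + 1 = 0 + 1 by omega),
      Ext.mk₀_comp_mk₀, e, ← Ext.mk₀_comp_mk₀,
      Ext.comp_assoc (a₁₂ := 0) _ _ _ (zero_add 0) (zero_add 1) (show 0 + 0 + 1 = 0 + 1 by omega)]
    exact (congrArg (fun t => (Ext.mk₀ _).comp t rfl) (injSeq_shortExact F).comp_extClass).trans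
      (Ext.comp_zero _ _ _ _ _)
  | succ q ih =>
    intro F W x w
    obtain ⟨z, hz⟩ := Ext.covariant_sequence_exact₁ _ (injSeq_shortExact F) x (Ext.eq_zero_of_injective _) rfl
    obtain ⟨W', a, hw, ha⟩ := ih _ W z w
    exact ⟨W', a, hw, by
      rw [← hz, ← Ext.comp_assoc (a₁₂ := q + 1) _ _ _ (zero_add (q + 1)) rfl
        (show 0 + (q + 1) + 1 = q + 1 + 1 by omega), ha, Ext.zero_comp]⟩

end LocKill

section Rpush

variable {Z X : Scheme.{u}} (g' : Z ⟶ X)

theorem isZero_rpush_of_locZero (n : ℕ) : ∀ (G : EtCoh.Ab Z),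
    (∀ q : ℕ, q < n → ∀ (W : X.Etale) (x : Ext ((P Z).obj ((EtCoh.bc g').obj W)) G (q + 1)) (w : W.left),
      ∃ (W' : X.Etale) (a : W' ⟶ W), w ∈ Set.range a.left ∧
        (Ext.mk₀ ((P Z).map ((EtCoh.bc g').map a))).comp x (zero_add (q + 1)) = 0) →
    ∀ q : ℕ, q < n → IsZero ((EtCoh.Rpush g' (q + 1)).obj G) := by
  haveI : PreservesFiniteLimits (EtCoh.push g') :=
    haveI := (EtCoh.pullPushAdj g').rightAdjoint_preservesLimits
    PreservesLimits.preservesFiniteLimits _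
  induction n with
  | zero => exact fun G _ q hq => absurd hq (Nat.not_lt_zero q)
  | succ n ih =>
    intro G hG q hq
    have hS := injSeq_shortExact G
    rcases q with _ | q
    · refine EtColimH.isZero_succ (EtCoh.push g') hS 0 (Functor.isZero_rightDerived_obj_injective_succ _ _ _)
        (EtColimH.epi_rightDerived_zero _ _ ?_)
      refine (Sheaf.isLocallySurjective_iff_epi' AddCommGrpCat.{u + 1} ((EtCoh.push g').map (injSeq G).g)).1
        ⟨fun {W} s => (EtFLC.mem_iff _).2 fun w => ?_⟩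
      let s' : EtCoh.sect (injSeq G).X₃ ((EtCoh.bc g').obj W) := s
      obtain ⟨W', a, hw, ha⟩ := hG 0 (Nat.succ_pos n) W ((Ext.mk₀ (σ.symm s')).comp hS.extClass rfl) w
      rw [Ext.mk₀_comp_mk₀_assoc] at ha
      obtain ⟨v, hv⟩ := Ext.covariant_sequence_exact₃ _ hS _ rfl ha
      obtain ⟨v₀, rfl⟩ := (Ext.mk₀_bijective _ _).2 v
      rw [Ext.mk₀_comp_mk₀] at hv
      have e := congrArg σ ((Ext.mk₀_bijective _ _).1 hv)
      rw [σ_comp, σ_map, Equiv.apply_symm_apply] at e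
      let t : EtCoh.sect (injSeq G).X₂ ((EtCoh.bc g').obj W') := σ v₀
      obtain ⟨w', hw'⟩ := hw
      exact ⟨W', a, w', ⟨t, e⟩, hw'⟩
    · have hX : ∀ q : ℕ, q < n → ∀ (W : X.Etale) (x : Ext ((P Z).obj ((EtCoh.bc g').obj W)) (injSeq G).X₃ (q + 1))
          (w : W.left), ∃ (W' : X.Etale) (a : W' ⟶ W), w ∈ Set.range a.left ∧
            (Ext.mk₀ ((P Z).map ((EtCoh.bc g').map a))).comp x (zero_add (q + 1)) = 0 := by
        intro q hq W x w
        obtain ⟨W', a, hw, ha⟩ := hG (q + 1) (Nat.succ_lt_succ hq) W (x.comp hS.extClass rfl) w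
        rw [← Ext.comp_assoc (a₁₂ := q + 1) _ _ _ (zero_add (q + 1)) rfl
          (show 0 + (q + 1) + 1 = q + 1 + 1 by omega)] at ha
        obtain ⟨v, hv⟩ := Ext.covariant_sequence_exact₃ _ hS _ rfl ha
        refine ⟨W', a, hw, hv.symm.trans ?_⟩
        rw [Ext.eq_zero_of_injective v, Ext.zero_comp]
      exact EtColimH.isZero_succ (EtCoh.push g') hS (q + 1) (Functor.isZero_rightDerived_obj_injective_succ _ _ _)
        ⟨fun a b _ => (ih _ hX q (Nat.lt_of_succ_lt_succ hq)).eq_of_src a b⟩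

theorem cW_natural {W' W : X.Etale} (a : W' ⟶ W) :
    (P Z).map ((EtCoh.bc g').map a) ≫ cW g' W = cW g' W' ≫ (EtCoh.pull g').map ((P X).map a) := by
  refine σ.injective ?_
  have e : σ ((P X).map a) = ((P X).obj W).obj.map a.op (uel W) := by
    conv_lhs => rw [← Category.comp_id ((P X).map a)]
    exact σ_map a (𝟙 _)
  rw [σ_map, σ_comp, σ_cW, σ_cW, EtMV.r_natural, ← σ_eq, e, EtLimit.r_map, Category.id_comp]
  exact (map_r g' _ (𝟙 _) ((EtCoh.bc g').map a) (uel W)).trans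
    (congrArg (fun q => EtMV.r g' q _ (uel W)) (Category.comp_id _))

variable [PreservesFiniteLimits (EtCoh.pull g')]

theorem Θ_natural {W' W : X.Etale} (a : W' ⟶ W) (G : EtCoh.Ab X) (k : ℕ) (x : Ext ((P X).obj W) G k) :
    (Ext.mk₀ ((P Z).map ((EtCoh.bc g').map a))).comp (Θ g' W G k x) (zero_add k) =
      Θ g' W' G k ((Ext.mk₀ ((P X).map a)).comp x (zero_add k)) := by
  rw [EtMV.precomp_T, EtMV.T_precomp, cW_natural]

theorem isIso_unit_of_Θ (F : EtCoh.Ab X) (h : ∀ W : X.Etale, Function.Bijective (Θ g' W F 0)) :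
    IsIso ((EtCoh.pullPushAdj g').unit.app F) := by
  let η := (EtCoh.pullPushAdj g').unit.app F
  have key : ∀ (W : X.Etale) (φ : (P X).obj W ⟶ F),
      σ (cW g' W ≫ (EtCoh.pull g').map φ) = η.hom.app (op W) (σ φ) := fun W φ => by
    rw [σ_comp, σ_cW, EtMV.r_natural, ← σ_eq, EtMV.r, op_id, CategoryTheory.Functor.map_id]
    rfl
  have hbij : ∀ W : X.Etale, Function.Bijective (η.hom.app (op W)) := by
    intro W
    refine ⟨fun s t hst => ?_, fun y => ?_⟩
    · obtain ⟨φ, rfl⟩ := σ.surjective s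
      obtain ⟨φ', rfl⟩ := σ.surjective t
      rw [← key, ← key] at hst
      refine congrArg σ ((Ext.mk₀_bijective _ _).1 ((h W).1 ?_))
      rw [T_mk₀, T_mk₀, σ.injective hst]
    · obtain ⟨x, hx⟩ := (h W).2 (Ext.mk₀ (σ.symm y))
      obtain ⟨φ, rfl⟩ := (Ext.mk₀_bijective _ _).2 x
      rw [T_mk₀] at hx
      refine ⟨σ φ, ?_⟩
      rw [← key, (Ext.mk₀_bijective _ _).1 hx, Equiv.apply_symm_apply]
  haveI : IsIso η.hom := by
    haveI : ∀ o, IsIso (η.hom.app o) := fun o => (ConcreteCategory.isIso_iff_bijective _).2 (hbij o.unop)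
    exact NatIso.isIso_of_isIso_app _
  haveI : IsIso ((sheafToPresheaf X.smallEtaleTopology AddCommGrpCat.{u + 1}).map η) := ‹IsIso η.hom›
  exact isIso_of_reflects_iso η (sheafToPresheaf X.smallEtaleTopology AddCommGrpCat.{u + 1})

theorem compN_of_unit (F : EtCoh.Ab X) (n : ℕ) [IsIso ((EtCoh.pullPushAdj g').unit.app F)]
    (hR : ∀ q : ℕ, q < n → IsZero ((EtCoh.Rpush g' (q + 1)).obj ((EtCoh.pull g').obj F))) :
    (∀ q : ℕ, q ≤ n → Function.Bijective (EtCore.Hpull g' F q)) ∧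
      Function.Injective (EtCore.Hpull g' F (n + 1)) := by
  obtain ⟨hb, hi⟩ := HofPush_bounded g' ((EtCoh.pull g').obj F) n hR
  have e : ∀ q, ⇑(EtCore.Hpull g' F q) = ⇑(EtLim.HofPush g' ((EtCoh.pull g').obj F) q) ∘
      fun x => Ext.comp x (Ext.mk₀ ((EtCoh.pullPushAdj g').unit.app F)) (add_zero q) := fun q => funext fun x => by
    show _ = EtLim.HofPush g' ((EtCoh.pull g').obj F) q _
    rw [EtMV.HofPush_eq]
    exact ((EtMV.toH _ _ q).apply_symm_apply _).symm.trans (congrArg _ (EtMV.U_unit g' F q x).symm)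
  have hu := fun q : ℕ => bijective_comp_iso (X := EtCoh.const X ℤ) ((EtCoh.pullPushAdj g').unit.app F) q
  refine ⟨fun q hq => ?_, ?_⟩
  · rw [e]; exact (hb q hq).comp (hu q)
  · rw [e]; exact hi.comp (hu (n + 1)).1

end Rpush

theorem isAcyclicN_iff {X Y : Scheme.{u}} (g : X ⟶ Y) (L : Set ℕ) (n : ℕ) :
    EtAcyc.IsAcyclicN g L n ↔
      ∀ (V : Y.Etale) (F : EtCoh.Ab V.left), EtAcyc.IsLTorsion L F →
        IsIso ((EtCoh.pullPushAdj (EtAcyc.prj g V)).unit.app F) ∧
        ∀ q : ℕ, 1 ≤ q → q ≤ n →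
          IsZero ((EtCoh.Rpush (EtAcyc.prj g V) q).obj ((EtCoh.pull (EtAcyc.prj g V)).obj F)) := by
  refine ⟨fun h V F hF => ?_, fun h V F hF _ => ?_⟩
  · haveI := EtCohDesc.pull_preservesFiniteLimits (EtAcyc.prj g V)
    have hΘ := fun W : V.left.Etale => Θ_bijective_of_compN (EtAcyc.prj g V) W (compN_fstE g V W h) F hF
    refine ⟨isIso_unit_of_Θ _ F fun W => (hΘ W).1 0 (Nat.zero_le n), fun q hq hqn => ?_⟩
    obtain ⟨q, rfl⟩ : ∃ k, q = k + 1 := ⟨q - 1, by omega⟩
    refine isZero_rpush_of_locZero (EtAcyc.prj g V) n _ (fun k hk W x w => ?_) q hqn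
    obtain ⟨x', rfl⟩ := ((hΘ W).1 (k + 1) hk).2 x
    obtain ⟨W', a, hw, ha⟩ := locZero_all k F W x' w
    exact ⟨W', a, hw, by rw [Θ_natural, ha, map_zero]⟩
  · obtain ⟨hu, hR⟩ := h V F hF
    haveI := hu
    exact compN_of_unit _ F n fun q hq => hR (q + 1) (Nat.succ_pos q) hq

end Groth.Agent.EtAcycX
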