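import Groth.Agent.EtAcycX.ConstPt
import Groth.Agent.EtAcycX.UnitIso
import Groth.Agent.EtCohDesc.Retract
import Groth.Agent.EtIntegralBC.Counit
import Groth.Agent.EtPushStalk.UnivInj
import Groth.Agent.EtCons.ExtZeroConst
import Groth.Agent.EtBCQ.StrictSys
import Groth.Agent.EtStalk.Pullback
import Groth.Agent.RedSepLib.Basic
import Groth.Agent.Hensel.HenselizationProps
import Groth.Agent.S0620
import Groth.Agent.S0642
import Groth.Agent.S0631
import Groth.Agent.S14451
import Mathlib

/-! The geometric fibres of an `n`-acyclic morphism are `n`-acyclic. -/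

set_option autoImplicit false
set_option backward.isDefEq.respectTransparency false
set_option backward.isDefEq.respectTransparency.types false
set_option linter.unusedSectionVars false
set_option linter.auxLemma false
set_option linter.overlappingInstances false
set_option linter.style.haveILetI false
set_option maxHeartbeats 1000000

universe u

open CategoryTheory CategoryTheory.Limits CategoryTheory.Abelian AlgebraicGeometry Opposite IsLocalRing

noncomputable section

namespace Groth.Agent.EtAcycX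

attribute [local instance 100000] EtCoh.H._proof_1 Groth.Agent.EtMV.hext
attribute [local instance 200000] Groth.Agent.EtMV.hextAb
attribute [local instance 300000] CategoryTheory.Preadditive.preadditiveHasZeroMorphisms
  CategoryTheory.Abelian.toPreadditive

/-- an isomorphism of sheaves gives a bijection in cohomology -/
theorem card_H_of_iso {X : Scheme.{u}} {F G : EtCoh.Ab X} (φ : F ≅ G) (q : ℕ) :
    Nat.card (EtCoh.H X F q) = Nat.card (EtCoh.H X G q) :=
  Nat.card_congr (((EtCoh.HF X q).mapIso φ).addCommGroupIsoToAddEquiv.toEquiv)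

theorem subsingleton_H_of_iso {X : Scheme.{u}} {F G : EtCoh.Ab X} (φ : F ≅ G) (q : ℕ)
    (h : Subsingleton (EtCoh.H X F q)) : Subsingleton (EtCoh.H X G q) :=
  haveI : Subsingleton ((EtCoh.HF X q).obj F) := h
  (((EtCoh.HF X q).mapIso φ).addCommGroupIsoToAddEquiv.toEquiv).symm.subsingleton

theorem nsmul_id_app {X : Scheme.{u}} (F : EtCoh.Ab X) (U : X.Etale) (x : EtCoh.sect F U) (k : ℕ) :
    (k • 𝟙 F : F ⟶ F).hom.app (op U) x = k • x := by
  induction k with
  | zero => simp
  | succ k ih => rw [succ_nsmul, succ_nsmul, ← ih]; rfl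

/-- `ℓ`-torsion of sheaves made from `ℤ/ℓ` -/
theorem isLTorsion_push_const {Z Y : Scheme.{u}} (i : Z ⟶ Y) {L : Set ℕ} {ℓ : ℕ} (hℓ : ℓ.Prime) (hL : ℓ ∈ L) :
    EtAcyc.IsLTorsion L ((EtCoh.push i).obj (EtCoh.const Z (ZMod ℓ))) := by
  intro U s x
  refine ⟨U, 𝟙 U, ℓ, ⟨x, rfl⟩, ⟨hℓ.pos, fun p hp hd => ((Nat.prime_dvd_prime_iff_eq hp hℓ).1 hd) ▸ hL⟩, ?_⟩
  have hA : ℓ • 𝟙 (AddCommGrpCat.of (ULift.{u + 1} (ZMod ℓ))) = 0 := by
    ext ⟨a⟩
    simp
  have hC : ℓ • 𝟙 (EtCoh.const Z (ZMod ℓ)) = 0 := by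
    have := congrArg (fun m => (constantSheaf Z.smallEtaleTopology AddCommGrpCat.{u + 1}).map m) hA
    simpa [Functor.map_nsmul] using this
  have hF : ℓ • 𝟙 ((EtCoh.push i).obj (EtCoh.const Z (ZMod ℓ))) = 0 := by
    have := congrArg (fun m => (EtCoh.push i).map m) hC
    simpa [Functor.map_nsmul] using this
  rw [← nsmul_id_app _ U, hF]
  rfl

/-- purely inseparable extensions are universally injective -/
theorem universallyInjective_specMap (K Ω : Type u) [Field K] [Field Ω] [Algebra K Ω]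
    [IsPurelyInseparable K Ω] : UniversallyInjective (Spec.map (CommRingCat.ofHom (algebraMap K Ω))) := by
  refine (List.TFAE.out (tfae_universallyInjective (Spec.map (CommRingCat.ofHom (algebraMap K Ω)))) 0 1).mpr ?_
  intro L _ g₁ g₂ h
  obtain ⟨a, rfl⟩ := Spec.map_surjective g₁
  obtain ⟨b, rfl⟩ := Spec.map_surjective g₂
  simp only [← Spec.map_comp] at h
  have h' := congrArg CommRingCat.Hom.hom (Spec.map_injective h)
  letI : Algebra K L := (a.hom.comp (algebraMap K Ω)).toAlgebra
  let a' : Ω →ₐ[K] L := ⟨a.hom, fun r => rfl⟩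
  let b' : Ω →ₐ[K] L := ⟨b.hom, fun r => (RingHom.congr_fun h' r).symm⟩
  rw [show a = b from CommRingCat.hom_ext (congrArg AlgHom.toRingHom (Subsingleton.elim a' b'))]

section Fibre

variable {X Y : Scheme.{u}} (p : X ⟶ Y) (y : Y) (Ω : Type u) [Field Ω] [IsSepClosed Ω]
  [Algebra (Y.residueField y) Ω] [Algebra.IsAlgebraic (Y.residueField y) Ω]

/-- the residue field of the strict localisation inside `Ω` -/
theorem exists_residue_hom (P : EtBCQ.SH Y y) : ∃ τ : ResidueField P.R →+* Ω,
    τ.IsIntegral ∧ Spec.map (CommRingCat.ofHom τ) ≫ Hens2.geomPt Y y P.R = EtAcyc.geomPt Y y Ω := by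
  let i : ResidueField (Y.presheaf.stalk y) →+* ResidueField P.R := algebraMap _ _
  let b : ResidueField (Y.presheaf.stalk y) →+* Ω := algebraMap (Y.residueField y) Ω
  letI : Algebra (ResidueField (Y.presheaf.stalk y)) Ω := b.toAlgebra
  haveI : Algebra.IsSeparable (ResidueField (Y.presheaf.stalk y)) (ResidueField P.R) := by
    have h := P.sh.isSepClosure.separable
    exact h
  let τ : ResidueField P.R →ₐ[ResidueField (Y.presheaf.stalk y)] Ω := IsSepClosed.lift
  refine ⟨τ.toRingHom, ?_, ?_⟩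
  · refine RingHom.IsIntegral.tower_top i τ.toRingHom ?_
    rw [show τ.toRingHom.comp i = b from τ.comp_algebraMap]
    haveI : Algebra.IsIntegral (Y.residueField y) Ω := inferInstance
    exact Algebra.IsIntegral.isIntegral (R := Y.residueField y) (A := Ω)
  · have h : CommRingCat.ofHom (algebraMap (Y.presheaf.stalk y) P.R) ≫ CommRingCat.ofHom (IsLocalRing.residue P.R) ≫
        CommRingCat.ofHom τ.toRingHom = Y.residue y ≫ CommRingCat.ofHom (algebraMap (Y.residueField y) Ω) := by
      apply CommRingCat.hom_ext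
      refine RingHom.ext fun r => ?_
      exact RingHom.congr_fun τ.comp_algebraMap (IsLocalRing.residue _ r)
    show _ ≫ _ ≫ _ ≫ Y.fromSpecStalk y = Spec.map _ ≫ Spec.map (Y.residue y) ≫ Y.fromSpecStalk y
    rw [← Spec.map_comp_assoc, ← Spec.map_comp_assoc, ← Spec.map_comp_assoc, ← h]

variable [QuasiCompact p] [QuasiSeparated p] {ℓ : ℕ} {W' : Scheme.{u}} {a' : W' ⟶ X}
  {b' : W' ⟶ Spec (CommRingCat.of Ω)}

/-- The two computations: stalks of the direct images and the cohomology of the geometric fibre. -/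
theorem fibre_cohomology (sqF : IsPullback a' b' p (EtAcyc.geomPt Y y Ω)) :
    ∃ (Z : Scheme.{u}) (i : Z ⟶ Y) (_ : IsClosedImmersion i) (Ω₁ : Type u) (_ : Field Ω₁) (_ : IsSepClosed Ω₁)
      (η : Spec (CommRingCat.of Ω₁) ⟶ Y), Set.range η.base = {y} ∧
      (∃ ζ : Spec (CommRingCat.of Ω₁) ⟶ Z, ζ ≫ i = η) ∧
      ∀ q : ℕ, Nonempty ((EtCoh.stalk η).obj ((EtCoh.Rpush p q).obj ((EtCoh.pull p).obj
          ((EtCoh.push i).obj (EtCoh.const Z (ZMod ℓ))))) ≃ EtCoh.H W' (EtCoh.const W' (ZMod ℓ)) q) := by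
  let P := EtBCQ.mkSH Y y
  obtain ⟨τ, hτ, hτw⟩ := exists_residue_hom y Ω P
  let Zc : TopologicalSpace.Closeds Y := ⟨closure {y}, isClosed_closure⟩
  let I := Scheme.IdealSheafData.vanishingIdeal Zc
  let Z := I.subscheme
  let i : Z ⟶ Y := I.subschemeι
  have hrange : Set.range i.base = closure {y} := by
    rw [Scheme.IdealSheafData.range_subschemeι, Scheme.IdealSheafData.coe_support_vanishingIdeal]
    rfl
  have hlift : ∀ (K : Type u) [Field K] (f : Spec (CommRingCat.of K) ⟶ Y),
      (∀ t, f.base t = y) → ∃ l : Spec (CommRingCat.of K) ⟶ Z, l ≫ i = f := by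
    intro K _ f hf
    refine RedSepLib.exists_lift_of_isReduced f i ?_
    rintro - ⟨t, rfl⟩
    rw [hrange, hf t]
    exact subset_closure rfl
  have hgeo : ∀ t, (Hens2.geomPt Y y P.R).base t = y := by
    intro t
    have ht : (Spec.map (CommRingCat.ofHom (IsLocalRing.residue P.R))).base t = closedPoint P.R := by
      rw [Subsingleton.elim t (closedPoint (ResidueField P.R))]
      exact EtBCQ.Spec_closedPoint' (IsLocalRing.residue P.R)
    rw [Hens2.geomPt, Scheme.Hom.comp_apply, ht]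
    exact P.spec_closed
  obtain ⟨ζ, hζ⟩ := hlift _ (Hens2.geomPt Y y P.R) hgeo
  refine ⟨Z, i, inferInstance, ResidueField P.R, inferInstance, inferInstance, Hens2.geomPt Y y P.R,
    Set.ext fun t => ⟨?_, fun ht => ⟨default, (hgeo default).trans ht.symm⟩⟩, ⟨ζ, hζ⟩, fun q => ?_⟩
  · rintro ⟨s, rfl⟩; exact hgeo s
  -- the closed subscheme of the strict localisation over `closure {y}`
  let ZA := pullback i P.spec
  let zA : ZA ⟶ Spec (CommRingCat.of P.R) := pullback.snd i P.spec
  let k : ZA ⟶ Y := zA ≫ P.spec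
  let W := pullback p k
  let PX := pullback p P.spec
  let a : PX ⟶ X := pullback.fst p P.spec
  let u : W ⟶ PX := pullback.lift (pullback.fst p k) (pullback.snd p k ≫ zA) (by
    rw [Category.assoc]; exact pullback.condition)
  let v : W ⟶ Z := pullback.snd p k ≫ pullback.fst i P.spec
  have hua : u ≫ a = pullback.fst p k := pullback.lift_fst _ _ _
  have hus : u ≫ pullback.snd p P.spec = pullback.snd p k ≫ zA := pullback.lift_snd _ _ _
  have sq1 : IsPullback u (pullback.snd p k) (pullback.snd p P.spec) zA := by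
    refine IsPullback.of_right (h₁₂ := a) (v₁₃ := p) (h₂₂ := P.spec) ?_ hus (IsPullback.of_hasPullback p P.spec)
    rw [hua]
    exact IsPullback.of_hasPullback p k
  have sq : IsPullback v u i (a ≫ p) := by
    have h := (sq1.paste_vert (IsPullback.of_hasPullback i P.spec).flip).flip
    rwa [← pullback.condition] at h
  -- the geometric point of the closed subscheme
  have hsZ : (Spec.map (CommRingCat.ofHom τ) ≫ ζ) ≫ i =
      Spec.map (CommRingCat.ofHom τ ) ≫ Spec.map (CommRingCat.ofHom (IsLocalRing.residue P.R)) ≫ P.spec := by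
    rw [Category.assoc, hζ]
  let s : Spec (CommRingCat.of Ω) ⟶ ZA := pullback.lift (Spec.map (CommRingCat.ofHom τ) ≫ ζ)
    (Spec.map (CommRingCat.ofHom τ) ≫ Spec.map (CommRingCat.ofHom (IsLocalRing.residue P.R)))
    (by rw [hsZ, Category.assoc])
  have hszA : s ≫ zA = Spec.map (CommRingCat.ofHom τ) ≫ Spec.map (CommRingCat.ofHom (IsLocalRing.residue P.R)) :=
    pullback.lift_snd _ _ _
  have hsk : s ≫ k = EtAcyc.geomPt Y y Ω := by
    rw [← hτw, ← Category.assoc, hszA, Category.assoc]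
  haveI : IsClosedImmersion zA := inferInstanceAs (IsClosedImmersion (pullback.snd i P.spec))
  haveI : IsClosedImmersion (Spec.map (CommRingCat.ofHom (IsLocalRing.residue P.R))) :=
    IsClosedImmersion.spec_of_surjective _ IsLocalRing.residue_surjective
  haveI : IsIntegralHom s := by
    haveI : IsIntegralHom (Spec.map (CommRingCat.ofHom τ)) := IsIntegralHom.SpecMap_iff.mpr hτ
    haveI : IsIntegralHom (s ≫ zA) := by rw [hszA]; infer_instance
    exact IsIntegralHom.of_comp s zA
  haveI : UniversallyInjective s := by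
    letI := τ.toAlgebra
    haveI : Algebra.IsAlgebraic (ResidueField P.R) Ω := by
      haveI : Algebra.IsIntegral (ResidueField P.R) Ω := ⟨hτ⟩
      infer_instance
    haveI := universallyInjective_specMap (ResidueField P.R) Ω
    have h1 : UniversallyInjective (s ≫ zA) := by
      rw [hszA]
      exact MorphismProperty.comp_mem _ _ _ (universallyInjective_specMap (ResidueField P.R) Ω) inferInstance
    refine (List.TFAE.out (tfae_universallyInjective s) 0 1).mpr fun K hK g₁ g₂ hg => ?_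
    have h2 : ∀ (K : Type u) [Field K], Function.Injective fun g : Spec (CommRingCat.of K) ⟶ _ => g ≫ s ≫ zA :=
      (List.TFAE.out (tfae_universallyInjective (s ≫ zA)) 0 1).mp h1
    exact @h2 K hK _ _
      (show g₁ ≫ s ≫ zA = g₂ ≫ s ≫ zA by
        rw [← Category.assoc, show g₁ ≫ s = g₂ ≫ s from hg, Category.assoc])
  have hpt : ∀ z : ZA, zA.base z = closedPoint P.R := by
    intro z
    have h1 : P.spec.base (zA.base z) ∈ closure {y} := by
      rw [← hrange, ← Scheme.Hom.comp_apply, ← pullback.condition, Scheme.Hom.comp_apply]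
      exact ⟨_, rfl⟩
    have h2 : P.spec.base (zA.base z) ⤳ y := by
      have h2' := (IsLocalRing.specializes_closedPoint (zA.base z)).map P.spec.continuous
      exact h2'.trans (specializes_of_eq (P.spec_closed))
    have h3 : P.spec.base (zA.base z) = y := (h2.antisymm (specializes_iff_mem_closure.2 h1)).eq
    replace h3 : P.spec.base (zA.base z) = Y.fromSpecStalk y (closedPoint (Y.presheaf.stalk y)) :=
      h3.trans Scheme.fromSpecStalk_closedPoint.symm
    have h4 : (Spec.map (CommRingCat.ofHom (algebraMap (Y.presheaf.stalk y) P.R))).base (zA.base z) =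
        closedPoint (Y.presheaf.stalk y) := (Y.fromSpecStalk y).isEmbedding.injective h3
    refine PrimeSpectrum.ext (IsLocalRing.eq_maximalIdeal ?_)
    have hle : maximalIdeal P.R ≤ (zA.base z).asIdeal := by
      rw [← Hensel.strictHenselization_map_maximalIdeal (Y.presheaf.stalk y) P.R, Ideal.map_le_iff_le_comap]
      exact (congrArg PrimeSpectrum.asIdeal h4).ge
    exact (maximalIdeal.isMaximal P.R).eq_of_le (zA.base z).2.ne_top hle ▸ maximalIdeal.isMaximal P.R
  haveI : Surjective s := ⟨fun z => ⟨default, zA.isClosedEmbedding.injective ((hpt _).trans (hpt z).symm)⟩⟩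
  -- the geometric fibre over the closed point
  let h : W' ⟶ W := pullback.lift a' (b' ≫ s) (by rw [Category.assoc, hsk, sqF.w])
  have sqh : IsPullback h b' (pullback.snd p k) s := by
    refine IsPullback.of_right (h₁₂ := pullback.fst p k) (v₁₃ := p) (h₂₂ := k) ?_ (pullback.lift_snd _ _ _)
      (IsPullback.of_hasPullback p k)
    rw [pullback.lift_fst, hsk]
    exact sqF
  haveI : IsIntegralHom h := MorphismProperty.of_isPullback sqh.flip ‹IsIntegralHom s›
  haveI : UniversallyInjective h := MorphismProperty.of_isPullback sqh.flip ‹UniversallyInjective s›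
  haveI : Surjective h := MorphismProperty.of_isPullback sqh.flip ‹Surjective s›
  haveI : IsIntegralHom u := MorphismProperty.of_isPullback sq (inferInstance : IsIntegralHom i)
  haveI := EtCohDesc.pull_preservesFiniteLimits h
  haveI := EtCohDesc.pull_preservesFiniteLimits u
  let C := EtCoh.const Z (ZMod ℓ)
  let F := (EtCoh.push i).obj C
  have e₁ : (EtCoh.stalk (Hens2.geomPt Y y P.R)).obj ((EtCoh.Rpush p q).obj ((EtCoh.pull p).obj F)) ≃
      EtCoh.H PX ((EtCoh.pull a).obj ((EtCoh.pull p).obj F)) q :=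
    (Groth.Agent.S0620.result p ((EtCoh.pull p).obj F) y P.R q).some.addCommGroupIsoToAddEquiv.toEquiv
  haveI := EtIntegralBC.isIso_baseChange0 (f := i) (g := a ≫ p) (f' := u) (g' := v) sq C
  let φ : (EtCoh.pull a).obj ((EtCoh.pull p).obj F) ≅ (EtCoh.push u).obj (EtCoh.const W (ZMod ℓ)) :=
    (EtMV.ψ a p (a ≫ p) rfl).app F ≪≫ asIso (EtCoh.baseChange0 i (a ≫ p) u v sq.w C) ≪≫
      (EtCoh.push u).mapIso (EtCons.pullConstM v (ZMod ℓ))
  have e₂ : EtCoh.H PX ((EtCoh.pull a).obj ((EtCoh.pull p).obj F)) q ≃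
      EtCoh.H PX ((EtCoh.push u).obj (EtCoh.const W (ZMod ℓ))) q :=
    ((EtCoh.HF PX q).mapIso φ).addCommGroupIsoToAddEquiv.toEquiv
  have e₃ := Equiv.ofBijective _ (Groth.Agent.S14451.result u (EtCoh.const W (ZMod ℓ)) (fun m hm => by
    obtain ⟨m, rfl⟩ := Nat.exists_eq_succ_of_ne_zero hm.ne'
    exact EtIntegral.Rpush_succ_isZero u _ m) q)
  have e₄ := Equiv.ofBijective _ (Groth.Agent.S0642.result h (EtCoh.const W (ZMod ℓ)) q)
  have e₅ : EtCoh.H W' ((EtCoh.pull h).obj (EtCoh.const W (ZMod ℓ))) q ≃ EtCoh.H W' (EtCoh.const W' (ZMod ℓ)) q :=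
    ((EtCoh.HF W' q).mapIso (EtCons.pullConstM h (ZMod ℓ))).addCommGroupIsoToAddEquiv.toEquiv
  exact ⟨e₁.trans (e₂.trans (e₃.trans (e₄.trans e₅)))⟩

end Fibre

theorem geomFibresAcyclicN {X Y : Scheme.{u}} (g : X ⟶ Y) [QuasiCompact g] [QuasiSeparated g] (L : Set ℕ)
    (hL : ∃ ℓ ∈ L, ℓ.Prime) (n : ℕ) (hg : EtAcyc.IsAcyclicN g L n) : EtAcyc.GeomFibresAcyclicN L n g := by
  intro y Ω _ _ _ _
  let γ := EtAcyc.geomPt Y y Ω
  let p := EtAcyc.prj g (EtCoh.top Y)
  haveI : QuasiCompact p := MorphismProperty.pullback_fst _ _ inferInstance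
  haveI : QuasiSeparated p := MorphismProperty.pullback_fst _ _ inferInstance
  let a' : pullback g γ ⟶ pullback (EtCoh.top Y).hom g :=
    pullback.lift (pullback.snd g γ ≫ γ) (pullback.fst g γ) (by
      show (pullback.snd g γ ≫ γ) ≫ 𝟙 Y = _
      rw [Category.comp_id, pullback.condition])
  have sqF : IsPullback a' (pullback.snd g γ) p γ := by
    refine IsPullback.of_right (h₁₂ := pullback.snd (EtCoh.top Y).hom g) (v₁₃ := g) (h₂₂ := (EtCoh.top Y).hom) ?_
      (pullback.lift_fst _ _ _) (IsPullback.of_hasPullback _ _).flip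
    rw [pullback.lift_snd, show γ ≫ (EtCoh.top Y).hom = γ from Category.comp_id γ]
    exact IsPullback.of_hasPullback g γ
  have key : ∀ (ℓ : ℕ), ℓ.Prime → ℓ ∈ L →
      Nat.card (EtCoh.H (pullback g γ) (EtCoh.const (pullback g γ) (ZMod ℓ)) 0) = ℓ ∧
      ∀ q, 1 ≤ q → q ≤ n → Subsingleton (EtCoh.H (pullback g γ) (EtCoh.const (pullback g γ) (ZMod ℓ)) q) := by
    intro ℓ hℓ hℓL
    obtain ⟨Z, i, _, Ω₁, _, _, η, -, ⟨ζ, hζ⟩, he⟩ := fibre_cohomology (Y := Y) (ℓ := ℓ) p y Ω sqF
    obtain ⟨hu, hR⟩ := (isAcyclicN_iff g L n).1 hg (EtCoh.top Y)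
      ((EtCoh.push i).obj (EtCoh.const Z (ZMod ℓ))) (isLTorsion_push_const i hℓ hℓL)
    refine ⟨?_, fun q hq hq' => ?_⟩
    · haveI := hu
      haveI := (Groth.Agent.S0631.result i).2.2.2 (EtCoh.const Z (ZMod ℓ))
      haveI := EtCohDesc.pull_preservesFiniteLimits i
      let R := (EtCoh.push p).rightDerivedZeroIsoSelf.app
        ((EtCoh.pull p).obj ((EtCoh.push i).obj (EtCoh.const Z (ZMod ℓ))))
      refine (Nat.card_congr (he 0).some).symm.trans ((Nat.card_congr ((EtCoh.stalk η).mapIso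
        (R ≪≫ (asIso ((EtCoh.pullPushAdj p).unit.app ((EtCoh.push i).obj (EtCoh.const Z (ZMod ℓ))))).symm)
          ).addCommGroupIsoToAddEquiv.toEquiv).trans ?_)
      subst hζ
      refine Eq.trans (Nat.card_congr ((EtStalk.stalkPullIso i ζ).app _ ≪≫ (EtCoh.stalk ζ).mapIso
        (asIso ((EtCoh.pullPushAdj i).counit.app (EtCoh.const Z (ZMod ℓ))))).addCommGroupIsoToAddEquiv.toEquiv) ?_
      exact (card_stalk_const ζ).trans (Nat.card_zmod ℓ)
    · have hsub : Subsingleton ((EtCoh.stalk η).obj ((EtCoh.Rpush p q).obj ((EtCoh.pull p).obj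
          ((EtCoh.push i).obj (EtCoh.const Z (ZMod ℓ)))))) :=
        AddCommGrpCat.subsingleton_of_isZero ((EtCoh.stalk η).map_isZero (hR q hq hq'))
      exact @Equiv.subsingleton _ _ (he q).some.symm hsub
  obtain ⟨ℓ, hℓL, hℓ⟩ := hL
  have hc : Nat.card (EtCoh.sect (EtCoh.const (pullback g γ) (ZMod ℓ)) (EtCoh.top (pullback g γ))) =
      Nat.card (ZMod ℓ) := by rw [← card_H_zero, (key ℓ hℓ hℓL).1, Nat.card_zmod]
  have h1 : 1 < Nat.card (ZMod ℓ) := by rw [Nat.card_zmod]; exact hℓ.one_lt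
  exact ⟨nonempty_of_card h1 hc, connectedSpace_of_card h1 hc, fun ℓ hℓ hℓL => (key ℓ hℓ hℓL).2⟩

end Groth.Agent.EtAcycX
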