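import Groth.Agent.EtAcycX.Killed
import Groth.Agent.EtColimH.Main
import Groth.Agent.EtCohDesc.Retract
import Mathlib

/-! Comparison of cohomology for torsion sheaves from sheaves killed by an integer. -/

set_option autoImplicit false
set_option backward.isDefEq.respectTransparency false
set_option backward.isDefEq.respectTransparency.types false
set_option linter.unusedSectionVars false
set_option linter.overlappingInstances false
set_option linter.style.haveILetI false
set_option linter.auxLemma false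
set_option maxHeartbeats 1000000

universe u

open CategoryTheory CategoryTheory.Limits CategoryTheory.Abelian AlgebraicGeometry Opposite

noncomputable section

namespace Groth.Agent.EtAcycX

attribute [local instance 100000] EtCoh.H._proof_1 Groth.Agent.EtMV.hext
attribute [local instance 200000] Groth.Agent.EtMV.hextAb
attribute [local instance 300000] CategoryTheory.Preadditive.preadditiveHasZeroMorphisms
  CategoryTheory.Abelian.toPreadditive

open EtColimH (Expo tor exists_local_rep)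

variable {X Y : Scheme.{u}}

theorem injective_app {F G : EtCoh.Ab X} (φ : F ⟶ G) [Mono φ] (U : X.Etale) :
    Function.Injective (φ.hom.app (op U)) := by
  haveI : Mono φ.hom := (sheafToPresheaf _ _).map_mono φ
  exact (AddCommGrpCat.mono_iff_injective _).1 inferInstance

section Diagram

variable (L : Set ℕ) (F : EtCoh.Ab X)

theorem kernel_trans {a b : Expo.{u} (EtAcyc.PrimesIn L)} (h : a ≤ b) :
    kernel.ι (a.down.down.1 • 𝟙 F) ≫ (b.down.down.1 • 𝟙 F) = 0 := by
  obtain ⟨d, hd⟩ := h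
  rw [hd, mul_comm, mul_nsmul', Preadditive.comp_nsmul, kernel.condition, smul_zero]

/-- the kernels of the admissible integers -/
def kdDiag : Expo.{u} (EtAcyc.PrimesIn L) ⥤ EtCoh.Ab X where
  obj a := tor F a.down.down.1
  map {a b} h := kernel.lift _ (kernel.ι (a.down.down.1 • 𝟙 F)) (kernel_trans L F h.le)
  map_id a := equalizer.hom_ext (by simp)
  map_comp h h' := equalizer.hom_ext (by simp)

/-- the inclusions of the kernels -/
def kdCocone : Cocone (kdDiag L F) where
  pt := F
  ι := { app := fun a => kernel.ι (a.down.down.1 • 𝟙 F)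
         naturality := fun a b h => by simp [kdDiag] }

instance : Nonempty (Expo.{u} (EtAcyc.PrimesIn L)) := ⟨⟨⟨⟨1, (exponents L).one⟩⟩⟩⟩

instance : IsDirectedOrder (Expo.{u} (EtAcyc.PrimesIn L)) :=
  ⟨fun a b => ⟨⟨⟨⟨_, (exponents L).mul a.down.down.2 b.down.down.2⟩⟩⟩, dvd_mul_right a.down.down.1 b.down.down.1,
    dvd_mul_left b.down.down.1 a.down.down.1⟩⟩

theorem nonempty_isColimit_kdCocone (hF : EtAcyc.IsLTorsion L F) : Nonempty (IsColimit (kdCocone L F)) := by
  let c := colimit.cocone (kdDiag L F)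
  let hc : IsColimit c := colimit.isColimit (kdDiag L F)
  let j : c.pt ⟶ F := hc.desc (kdCocone L F)
  have hj : ∀ a, c.ι.app a ≫ j = kernel.ι (a.down.down.1 • 𝟙 F) := fun a => hc.fac _ a
  haveI : Sheaf.IsLocallyInjective j := by
    refine ⟨fun {U} s t hst => (EtFLC.mem_iff _).2 fun x => ?_⟩
    obtain ⟨U⟩ := U
    obtain ⟨W, g, ⟨w, hw⟩, a, r, hr⟩ := exists_local_rep hc (s - t) x
    refine ⟨W, g, w, ?_, hw⟩
    show c.pt.obj.map g.op s = c.pt.obj.map g.op t
    rw [← sub_eq_zero, ← map_sub, ← hr]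
    have h0 : (kernel.ι (a.down.down.1 • 𝟙 F)).hom.app (op W) r = 0 := by
      rw [← hj a]
      show j.hom.app (op W) ((c.ι.app a).hom.app (op W) r) = 0
      rw [hr, NatTrans.naturality_apply, map_sub, hst, sub_self, map_zero]
    rw [injective_app (kernel.ι (a.down.down.1 • 𝟙 F)) W (a₁ := r) (a₂ := 0) (h0.trans (map_zero _).symm), map_zero]
  haveI : Mono j := Sheaf.mono_of_isLocallyInjective j
  haveI : Sheaf.IsLocallySurjective j := ⟨fun {U} t => (EtFLC.mem_iff _).2 fun x => by
    obtain ⟨W, g, m, ⟨w, hw⟩, hm, h0⟩ := hF U t x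
    let a : Expo.{u} (EtAcyc.PrimesIn L) := ⟨⟨⟨m, hm⟩⟩⟩
    let φ : (EtMV.P X).obj W ⟶ F := EtMV.σ.symm (F.obj.map g.op t)
    have hφ : φ ≫ (m • 𝟙 F) = 0 := by
      apply EtMV.σ.injective
      rw [EtMV.σ_comp, Equiv.apply_symm_apply, nsmulId_app, h0]
      exact (map_zero (AddMonoidHom.mk' (EtMV.σ (o := W) (G := F)) EtMV.σ_add)).symm
    refine ⟨W, g, w, ⟨(c.ι.app a).hom.app (op W) (EtMV.σ (kernel.lift (m • 𝟙 F) φ hφ)), ?_⟩, hw⟩
    refine (ConcreteCategory.congr_hom (congrArg (fun q => q.hom.app (op W)) (hj a))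
      (EtMV.σ (kernel.lift (m • 𝟙 F) φ hφ))).trans ?_
    rw [← EtMV.σ_comp, kernel.lift_ι, Equiv.apply_symm_apply]⟩
  haveI : Epi j := Sheaf.epi_of_isLocallySurjective j
  haveI : IsIso j := isIso_of_mono_of_epi j
  exact ⟨hc.ofIsoColimit (Cocone.ext (asIso j) hj)⟩

end Diagram

theorem HF_map (q : ℕ) {F G : EtCoh.Ab X} (φ : F ⟶ G) (x : EtCoh.H X F q) :
    (EtCoh.HF X q).map φ x = Ext.comp x (Ext.mk₀ φ) (add_zero q) := rfl

/-- the comparison condition only has to be checked on sheaves killed by admissible integers -/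
theorem compN_of_killed (h : Y ⟶ X) [CompactSpace X] [QuasiSeparatedSpace X] [CompactSpace Y] [QuasiSeparatedSpace Y]
    [PreservesFiniteLimits (EtCoh.pull h)] (L : Set ℕ) (n : ℕ)
    (H : ∀ m, EtAcyc.PrimesIn L m → ∀ F : EtCoh.Ab X, Kd m F →
      (∀ q : ℕ, q ≤ n → Function.Bijective (EtCore.Hpull h F q)) ∧ Function.Injective (EtCore.Hpull h F (n + 1))) :
    EtAcyc.CompN h L n := by
  intro F hF _
  obtain ⟨hc⟩ := nonempty_isColimit_kdCocone L F hF
  haveI := (EtCoh.pullPushAdj h).leftAdjoint_preservesColimits.{u + 1, u + 1}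
  have key : ∀ q, (∀ a, Function.Surjective (EtCore.Hpull h ((kdDiag L F).obj a) q) →
      ∀ y, y ∈ Set.range ((EtCoh.HF Y q).map ((EtCoh.pull h).map ((kdCocone L F).ι.app a))) →
        y ∈ Set.range (EtCore.Hpull h F q)) := fun q a ha y ⟨z, hz⟩ => by
    obtain ⟨x, rfl⟩ := ha z
    exact ⟨(EtCoh.HF X q).map ((kdCocone L F).ι.app a) x, (Hpull_comp_mk₀ h x _).trans hz⟩
  have hinj : ∀ q, (∀ a, Function.Injective (EtCore.Hpull h ((kdDiag L F).obj a) q)) →
      Function.Injective (EtCore.Hpull h F q) := fun q ha => by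
    haveI := EtColimH.preservesColimitsOfShape_HF (X := X) q (Expo.{u} (EtAcyc.PrimesIn L))
    haveI := EtColimH.preservesColimitsOfShape_HF (X := Y) q (Expo.{u} (EtAcyc.PrimesIn L))
    refine (injective_iff_map_eq_zero _).2 fun x hx => ?_
    obtain ⟨a, xa, rfl⟩ := Concrete.isColimit_exists_rep _ (isColimitOfPreserves (EtCoh.HF X q) hc) x
    have h1 : (EtCoh.HF Y q).map ((EtCoh.pull h).map ((kdCocone L F).ι.app a)) (EtCore.Hpull h _ q xa) =
        (EtCoh.HF Y q).map ((EtCoh.pull h).map ((kdCocone L F).ι.app a)) 0 :=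
      ((Hpull_comp_mk₀ h xa ((kdCocone L F).ι.app a)).symm.trans hx).trans (map_zero _).symm
    obtain ⟨b, i, i', hb⟩ := Concrete.isColimit_exists_of_rep_eq _
      (isColimitOfPreserves (EtCoh.HF Y q) (isColimitOfPreserves (EtCoh.pull h) hc))
      (i := a) (j := a) (EtCore.Hpull h _ q xa) 0 h1
    have h2 : EtCore.Hpull h ((kdDiag L F).obj b) q ((EtCoh.HF X q).map ((kdDiag L F).map i) xa) = 0 :=
      (Hpull_comp_mk₀ h xa _).trans (hb.trans (map_zero _))
    have h3 := (injective_iff_map_eq_zero _).1 (ha b) _ h2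
    show (EtCoh.HF X q).map ((kdCocone L F).ι.app a) xa = 0
    rw [← (kdCocone L F).w i]
    rw [Functor.map_comp, ConcreteCategory.comp_apply, h3, map_zero]
  have hsurj : ∀ q, (∀ a, Function.Surjective (EtCore.Hpull h ((kdDiag L F).obj a) q)) →
      Function.Surjective (EtCore.Hpull h F q) := fun q ha y => by
    haveI := EtColimH.preservesColimitsOfShape_HF (X := Y) q (Expo.{u} (EtAcyc.PrimesIn L))
    obtain ⟨a, ya, hy⟩ := Concrete.isColimit_exists_rep _
      (isColimitOfPreserves (EtCoh.HF Y q) (isColimitOfPreserves (EtCoh.pull h) hc)) y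
    exact key q a (ha a) y ⟨ya, hy⟩
  have hk : ∀ a : Expo.{u} (EtAcyc.PrimesIn L), Kd a.down.down.1 ((kdDiag L F).obj a) := fun a => kd_tor F _
  exact ⟨fun q hq => ⟨hinj q fun a => ((H _ a.down.down.2 _ (hk a)).1 q hq).1,
      hsurj q fun a => ((H _ a.down.down.2 _ (hk a)).1 q hq).2⟩,
    hinj (n + 1) fun a => (H _ a.down.down.2 _ (hk a)).2⟩

end Groth.Agent.EtAcycX
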