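import Groth.Agent.WeakEt.Basic
import Groth.Agent.WeakEt.Stalk
import Groth.Agent.WeakEt.StrictHens
import Groth.Agent.WeakEt.Scheme
import Groth.Prelude.Def_EtBase
import Mathlib

/-! A universally injective zero dimensional reduced cover of an affine scheme. -/

set_option autoImplicit false
set_option linter.unusedSectionVars false
set_option linter.style.haveILetI false

universe u

open CategoryTheory CategoryTheory.Limits AlgebraicGeometry Opposite

noncomputable section

namespace Groth.Agent.EtAcycX

/-- all local rings are fields -/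
def ZDim (P : Scheme.{u}) : Prop := ∀ z : P, IsField (P.presheaf.stalk z)

theorem isField_of_absFlat {R : Type*} [CommRing R] [IsLocalRing R] (h : ∀ a : R, ∃ b, a * a * b = a) :
    IsField R := by
  refine ⟨exists_pair_ne R, mul_comm, fun {a} ha => ?_⟩
  obtain ⟨b, hb⟩ := h a
  by_contra hinv
  have hnu : ¬ IsUnit a := fun ⟨v, hv⟩ => hinv ⟨↑v⁻¹, by rw [← hv]; exact v.mul_inv⟩
  rcases IsLocalRing.isUnit_or_isUnit_one_sub_self (a * b) with hu | hu
  · exact hnu (isUnit_of_mul_isUnit_left hu)
  · refine ha ((hu.mul_left_eq_zero).1 ?_)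
    rw [mul_sub, mul_one, ← mul_assoc, hb, sub_self]

theorem absFlat_of_isField {R : Type*} [CommRing R] (h : IsField R) (a : R) : ∃ b, a * a * b = a := by
  by_cases ha : a = 0
  · exact ⟨0, by simp [ha]⟩
  · obtain ⟨b, hb⟩ := h.mul_inv_cancel ha
    exact ⟨b, by rw [mul_assoc, hb, mul_one]⟩

theorem zdim_spec (C : CommRingCat.{u}) (h : ∀ a : C, ∃ b, a * a * b = a) : ZDim (Spec C) := by
  intro q
  haveI : q.asIdeal.IsPrime := PrimeSpectrum.isPrime q
  let L := (Spec C).presheaf.stalk q
  letI : Algebra C L := (StructureSheaf.toStalk C q).hom.toAlgebra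
  haveI : IsLocalization.AtPrime L q.asIdeal := StructureSheaf.IsLocalization.to_stalk C q
  refine isField_of_absFlat fun x => ?_
  obtain ⟨a, s, rfl⟩ := IsLocalization.exists_mk'_eq q.asIdeal.primeCompl x
  obtain ⟨b, hb⟩ := h a
  refine ⟨algebraMap C L (b * s), ?_⟩
  rw [mul_assoc (IsLocalization.mk' L a s), map_mul, mul_left_comm (IsLocalization.mk' L a s) (algebraMap C L b),
    IsLocalization.mk'_spec, ← map_mul, mul_comm, IsLocalization.mul_mk'_eq_mk'_of_mul]
  rw [mul_comm b a, mul_comm (a * b) a, ← mul_assoc, hb]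

theorem zdim_of_weaklyEtale {P Q : Scheme.{u}} (f : P ⟶ Q) [WeaklyEtale f] (h : ZDim Q) : ZDim P := by
  intro x
  letI := (f.stalkMap x).hom.toAlgebra
  haveI : Algebra.WeaklyEtale (Q.presheaf.stalk (f x)) (P.presheaf.stalk x) :=
    { flat := Flat.stalkMap f x
      flat_lmul' := Groth.Agent.WeakEt.flat_lmul_stalk f x }
  exact isField_of_absFlat fun a =>
    Groth.Agent.WeakEt.exists_sq_mul_of_weaklyEtale (absFlat_of_isField (h (f x))) a

/-- the strict localisation is weakly étale -/
theorem weaklyEtale_specOf {S : Scheme.{u}} (s : S) (R : Type u) [CommRing R] [IsLocalRing R]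
    [Algebra (S.presheaf.stalk s) R] [IsLocalHom (algebraMap (S.presheaf.stalk s) R)]
    [_root_.Hensel.IsStrictHenselization (S.presheaf.stalk s) R] :
    WeaklyEtale (Spec.map (CommRingCat.ofHom (algebraMap (S.presheaf.stalk s) R)) ≫ S.fromSpecStalk s) := by
  have h := Groth.Agent.WeakEt.weaklyEtale_strictHenselization (S.presheaf.stalk s) R
  haveI : WeaklyEtale (Spec.map (CommRingCat.ofHom (algebraMap (S.presheaf.stalk s) R))) := by
    refine (Groth.Agent.WeakEt.specMap_iff _).2 ?_
    show @Algebra.WeaklyEtale (S.presheaf.stalk s) R _ _ (algebraMap (S.presheaf.stalk s) R).toAlgebra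
    have e : ∀ I : Algebra (S.presheaf.stalk s) R, (@algebraMap _ _ _ _ I).toAlgebra = I :=
      fun I => Algebra.algebra_ext _ _ fun _ => rfl
    rw [e]
    exact h
  haveI : Flat (S.fromSpecStalk s) := GrpField.flat_fromSpecStalk _
  haveI : IsIso (pullback.diagonal (S.fromSpecStalk s)) := (pullback.isIso_diagonal_iff _).2 inferInstance
  haveI : WeaklyEtale (S.fromSpecStalk s) := ⟨inferInstance, inferInstance⟩
  infer_instance

section Cons

variable (A : CommRingCat.{u})

/-- the product of all residue fields -/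
abbrev KPi : Type u := ∀ y : PrimeSpectrum A, y.asIdeal.ResidueField

/-- evaluation at all points -/
def evalPi : A →+* KPi A := RingHom.pi fun y => algebraMap A y.asIdeal.ResidueField

/-- pointwise quasi inverse -/
def qinv (x : KPi A) : KPi A := fun y => (x y)⁻¹

/-- subrings closed under quasi inverse -/
def ConsSubrings : Set (Subring (KPi A)) := {D | (evalPi A).range ≤ D ∧ ∀ x ∈ D, qinv A x ∈ D}

/-- the absolutely flat ring of the constructible topology -/
def consRing : Subring (KPi A) := sInf (ConsSubrings A)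

theorem evalPi_mem (a : A) : evalPi A a ∈ consRing A := by
  rw [consRing, Subring.mem_sInf]
  exact fun D hD => hD.1 ⟨a, rfl⟩

theorem qinv_mem {x : KPi A} (hx : x ∈ consRing A) : qinv A x ∈ consRing A := by
  rw [consRing, Subring.mem_sInf] at hx ⊢
  exact fun D hD => hD.2 x (hx D hD)

theorem mul_qinv (x : KPi A) : x * x * qinv A x = x := by
  funext y
  show x y * x y * (x y)⁻¹ = x y
  by_cases h : x y = 0
  · simp [h]
  · field_simp

/-- the map from the original ring -/
def toCons : A →+* consRing A := (evalPi A).codRestrict _ (evalPi_mem A)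

/-- homomorphisms to fields are determined on the original ring -/
theorem cons_hom_ext {K : Type*} [Field K] (f g : consRing A →+* K) (h : f.comp (toCons A) = g.comp (toCons A)) :
    f = g := by
  let E : Subring (KPi A) := (RingHom.eqLocus f g).map (consRing A).subtype
  have hE : E ∈ ConsSubrings A := by
    refine ⟨?_, ?_⟩
    · rintro _ ⟨a, rfl⟩
      exact ⟨⟨_, evalPi_mem A a⟩, RingHom.congr_fun h a, rfl⟩
    · rintro _ ⟨⟨x, hx⟩, hfx, rfl⟩
      refine ⟨⟨_, qinv_mem A hx⟩, ?_, rfl⟩
      have key : ∀ φ : consRing A →+* K, φ ⟨qinv A x, qinv_mem A hx⟩ = (φ ⟨x, hx⟩)⁻¹ := fun φ => by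
        let a : consRing A := ⟨x, hx⟩
        let b : consRing A := ⟨qinv A x, qinv_mem A hx⟩
        have e1 : φ a * φ a * φ b = φ a := by rw [← map_mul, ← map_mul]; exact congrArg φ (Subtype.ext (mul_qinv A x))
        have e2 : φ b * φ b * φ a = φ b := by
          rw [← map_mul, ← map_mul]
          refine congrArg φ (Subtype.ext ?_)
          funext y
          show (x y)⁻¹ * (x y)⁻¹ * x y = (x y)⁻¹
          by_cases h0 : x y = 0
          · simp [h0]
          · field_simp
        by_cases h0 : φ a = 0
        · show φ b = (φ a)⁻¹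
          rw [h0, inv_zero]
          rw [h0, mul_zero] at e2
          exact e2.symm
        · refine eq_inv_of_mul_eq_one_left (mul_left_cancel₀ h0 ?_)
          rw [mul_one, mul_comm (φ b), ← mul_assoc]
          exact e1
      show f _ = g _
      rw [key f, key g]
      exact congrArg (·⁻¹) hfx
  refine RingHom.ext fun x => ?_
  have hx : (x : KPi A) ∈ E := Subring.mem_sInf.1 x.2 E hE
  obtain ⟨x', hx', he⟩ := hx
  obtain rfl : x' = x := Subtype.ext he
  exact hx'

/-- the cover -/
def consMap : Spec (CommRingCat.of (consRing A)) ⟶ Spec A := Spec.map (CommRingCat.ofHom (toCons A))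

theorem zdim_cons : ZDim (Spec (CommRingCat.of (consRing A))) :=
  zdim_spec _ fun a => ⟨⟨_, qinv_mem A a.2⟩, Subtype.ext (mul_qinv A _)⟩

theorem surjective_consMap : Surjective (consMap A) := by
  refine ⟨fun y => ?_⟩
  haveI : y.asIdeal.IsPrime := PrimeSpectrum.isPrime y
  let π : consRing A →+* y.asIdeal.ResidueField := (Pi.evalRingHom _ y).comp (consRing A).subtype
  refine ⟨⟨RingHom.ker π, RingHom.ker_isPrime π⟩, PrimeSpectrum.ext ?_⟩
  show (RingHom.ker π).comap (toCons A) = y.asIdeal
  rw [RingHom.comap_ker]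
  exact y.asIdeal.ker_algebraMap_residueField

theorem universallyInjective_consMap : UniversallyInjective (consMap A) := by
  refine (List.TFAE.out (tfae_universallyInjective (consMap A)) 0 1).mpr ?_
  intro K _ g₁ g₂ hg
  obtain ⟨a, rfl⟩ := Spec.map_surjective g₁
  obtain ⟨b, rfl⟩ := Spec.map_surjective g₂
  have e : CommRingCat.ofHom (toCons A) ≫ a = CommRingCat.ofHom (toCons A) ≫ b :=
    Spec.map_injective (by rw [Spec.map_comp, Spec.map_comp]; exact hg)
  exact congrArg Spec.map (CommRingCat.hom_ext (cons_hom_ext A a.hom b.hom (congrArg (fun m => m.hom) e)))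

end Cons

/-- every affine scheme has a zero dimensional universally injective cover -/
theorem exists_zdim_cover (S : Scheme.{u}) [IsAffine S] :
    ∃ (Z : Scheme.{u}) (p : Z ⟶ S), IsAffine Z ∧ ZDim Z ∧ Surjective p ∧ UniversallyInjective p := by
  haveI := surjective_consMap Γ(S, ⊤)
  haveI := universallyInjective_consMap Γ(S, ⊤)
  refine ⟨_, consMap Γ(S, ⊤) ≫ S.isoSpec.inv, inferInstance, zdim_cons _, inferInstance, ?_⟩
  exact MorphismProperty.comp_mem _ _ _ ‹_› inferInstance

end Groth.Agent.EtAcycX
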