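import Groth.Agent.EtAcycX.PointAcyc
import Groth.Agent.EtAcycX.ZCover
import Groth.Agent.EtAcycX.KilledColim
import Groth.Agent.EtAcycX.UnitIso
import Groth.Agent.EtBCQ.StrictSys
import Groth.Agent.EtBCQ.Crit
import Groth.Agent.EtCons.IndCons
import Groth.Agent.EtCons.FlcNear
import Groth.Agent.Hensel.HenselizationProps
import Groth.Agent.S0620
import Groth.Agent.S0642
import Mathlib

/-! The comparison condition over a zero dimensional reduced base with acyclic geometric fibres. -/

set_option autoImplicit false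
set_option backward.isDefEq.respectTransparency false
set_option backward.isDefEq.respectTransparency.types false
set_option linter.unusedSectionVars false
set_option linter.auxLemma false
set_option linter.overlappingInstances false
set_option linter.style.haveILetI false
set_option maxHeartbeats 1000000

universe u

open CategoryTheory CategoryTheory.Limits CategoryTheory.Abelian AlgebraicGeometry Opposite IsLocalRing

noncomputable section

namespace Groth.Agent.EtAcycX

attribute [local instance 100000] EtCoh.H._proof_1 Groth.Agent.EtMV.hext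
attribute [local instance 200000] Groth.Agent.EtMV.hextAb
attribute [local instance 300000] CategoryTheory.Preadditive.preadditiveHasZeroMorphisms
  CategoryTheory.Abelian.toPreadditive

theorem kd_obj_of_group {A : Type} [AddCommGroup A] {m : ℕ} (hA : ∀ a : A, m • a = 0) {X : Scheme.{u}}
    (Φ : AddCommGrpCat.{u + 1} ⥤ EtCoh.Ab X) [Φ.Additive] :
    Kd m (Φ.obj (AddCommGrpCat.of (ULift.{u + 1} A))) := by
  have hid : m • 𝟙 (AddCommGrpCat.of (ULift.{u + 1} A)) = 0 := by
    ext ⟨a⟩
    simp [hA]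
  unfold Kd
  rw [← Φ.map_id, ← Functor.map_nsmul, hid, Φ.map_zero]

theorem kd_extConst {X : Scheme.{u}} (U : X.Etale) (m : ℕ) : Kd m (EtPBC.extZeroConst U (ZMod m)) := by
  haveI : (constantSheaf (X.smallEtaleTopology.over U) AddCommGrpCat.{u + 1} ⋙ EtPBC.extZero U).IsLeftAdjoint :=
    (EtCons.extHomAdj U).isLeftAdjoint
  haveI : (constantSheaf (X.smallEtaleTopology.over U) AddCommGrpCat.{u + 1} ⋙ EtPBC.extZero U).Additive :=
    haveI := preservesBinaryBiproducts_of_preservesBinaryCoproducts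
      (constantSheaf (X.smallEtaleTopology.over U) AddCommGrpCat.{u + 1} ⋙ EtPBC.extZero U)
    Functor.additive_of_preservesBinaryBiproducts _
  exact kd_obj_of_group (fun a => by simp) (constantSheaf (X.smallEtaleTopology.over U) AddCommGrpCat.{u + 1} ⋙
    EtPBC.extZero U)

theorem isTorsion_of_kd {X : Scheme.{u}} {m : ℕ} (hm : 0 < m) {F : EtCoh.Ab X} (hF : Kd m F) : EtCoh.IsTorsion F :=
  fun V r v => ⟨V, 𝟙 V, ⟨v, rfl⟩, isOfFinAddOrder_iff_nsmul_eq_zero.2 ⟨m, hm, by
    rw [← nsmulId_app F V _ m, hF]; rfl⟩⟩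

/-- sheaves killed by `m` are filtered colimits of constructible ones killed by `m` -/
theorem exists_colimit_constructible {X : Scheme.{u}} [CompactSpace X] [QuasiSeparatedSpace X] {m : ℕ} (hm : 0 < m)
    (F : EtCoh.Ab X) (hF : Kd m F) :
    ∃ (J : Type (u + 1)) (_ : SmallCategory J) (_ : IsFiltered J) (D : J ⥤ EtCoh.Ab X) (c : Cocone D)
      (_ : c.pt = F) (_ : IsColimit c), ∀ j, EtPBC.IsConstructible (D.obj j) ∧ Kd m (D.obj j) := by
  have hbi : ∀ {A B : EtCoh.Ab X}, Kd m A → Kd m B → Kd m (A ⊞ B) := fun {A B} hA hB => by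
    unfold Kd at *
    apply biprod.hom_ext'
    · rw [Preadditive.comp_nsmul, Category.comp_id, comp_zero, ← Category.id_comp biprod.inl,
        ← Preadditive.nsmul_comp, hA, zero_comp]
    · rw [Preadditive.comp_nsmul, Category.comp_id, comp_zero, ← Category.id_comp biprod.inr,
        ← Preadditive.nsmul_comp, hB, zero_comp]
  obtain ⟨hfil, ⟨hc⟩, hD⟩ := EtCons.nonempty_isColimit_consCocone (Kd m) F
    (fun {A B} i h => h.of_epi i.hom) (fun _ _ h h' => hbi h h')
    (fun φ _ _ h => h.of_epi (cokernel.π φ))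
    ⟨_, EtCons.isConstructible_of_isFLC (EtCons.isFLC_const (W := X) (ZMod 1)),
      haveI : (constantSheaf X.smallEtaleTopology AddCommGrpCat.{u + 1}).Additive :=
        haveI := (EtCore.constAdj X).isLeftAdjoint
        Functor.additive_of_preserves_binary_products _
      kd_obj_of_group (fun a => Subsingleton.elim _ _) (constantSheaf X.smallEtaleTopology AddCommGrpCat.{u + 1})⟩
    (isTorsion_of_kd hm hF) (fun U t x => by
      obtain ⟨W, g, w, n, hW, hw, -, -⟩ := EtCons.exists_affine_killed_nhd (isTorsion_of_kd hm hF) U t x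
      haveI := hW
      have hms : m • F.obj.map g.op t = 0 := by rw [← nsmulId_app F W _ m, hF]; rfl
      obtain ⟨φ, z, hz⟩ := EtCons.exists_extHom W m (F.obj.map g.op t) hms
      exact ⟨W, g, ⟨w, hw⟩, _, EtCons.isConstructible_extConst W m hm, kd_extConst W m, φ, z, hz⟩)
  exact ⟨_, inferInstance, hfil, _, _, rfl, hc, hD⟩

/-- the comparison passes to filtered colimits -/
theorem comp_of_colimit {X Y : Scheme.{u}} (h : Y ⟶ X) [CompactSpace X] [QuasiSeparatedSpace X] [CompactSpace Y]
    [QuasiSeparatedSpace Y] [PreservesFiniteLimits (EtCoh.pull h)] {J : Type (u + 1)} [SmallCategory J]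
    [IsFiltered J] {D : J ⥤ EtCoh.Ab X} {c : Cocone D} (hc : IsColimit c) (q : ℕ) :
    ((∀ j, Function.Injective (EtCore.Hpull h (D.obj j) q)) → Function.Injective (EtCore.Hpull h c.pt q)) ∧
      ((∀ j, Function.Surjective (EtCore.Hpull h (D.obj j) q)) → Function.Surjective (EtCore.Hpull h c.pt q)) := by
  haveI := (EtCoh.pullPushAdj h).leftAdjoint_preservesColimits.{u + 1, u + 1}
  haveI := EtColimH.preservesColimitsOfShape_HF (X := X) q J
  haveI := EtColimH.preservesColimitsOfShape_HF (X := Y) q J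
  refine ⟨fun hj => (injective_iff_map_eq_zero _).2 fun x hx => ?_, fun hj y => ?_⟩
  · obtain ⟨a, xa, rfl⟩ := Concrete.isColimit_exists_rep _ (isColimitOfPreserves (EtCoh.HF X q) hc) x
    have h1 : (EtCoh.HF Y q).map ((EtCoh.pull h).map (c.ι.app a)) (EtCore.Hpull h _ q xa) =
        (EtCoh.HF Y q).map ((EtCoh.pull h).map (c.ι.app a)) 0 :=
      ((Hpull_comp_mk₀ h xa (c.ι.app a)).symm.trans hx).trans (map_zero _).symm
    obtain ⟨b, i, i', hb⟩ := Concrete.isColimit_exists_of_rep_eq _
      (isColimitOfPreserves (EtCoh.HF Y q) (isColimitOfPreserves (EtCoh.pull h) hc))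
      (i := a) (j := a) (EtCore.Hpull h _ q xa) 0 h1
    have h2 : EtCore.Hpull h (D.obj b) q ((EtCoh.HF X q).map (D.map i) xa) = 0 :=
      (Hpull_comp_mk₀ h xa _).trans (hb.trans (map_zero _))
    have h3 := (injective_iff_map_eq_zero _).1 (hj b) _ h2
    show (EtCoh.HF X q).map (c.ι.app a) xa = 0
    rw [← c.w i]
    rw [Functor.map_comp, ConcreteCategory.comp_apply, h3, map_zero]
  · obtain ⟨a, ya, rfl⟩ := Concrete.isColimit_exists_rep _
      (isColimitOfPreserves (EtCoh.HF Y q) (isColimitOfPreserves (EtCoh.pull h) hc)) y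
    obtain ⟨x, rfl⟩ := hj a ya
    exact ⟨(EtCoh.HF X q).map (c.ι.app a) x, Hpull_comp_mk₀ h x _⟩

theorem isAcyclicSchemeN_of_iso {W W' : Scheme.{u}} (i : W ≅ W') {L : Set ℕ} {n : ℕ}
    (h : EtAcyc.IsAcyclicSchemeN L n W) : EtAcyc.IsAcyclicSchemeN L n W' := by
  obtain ⟨h1, h2, h3⟩ := h
  have hsurj : Function.Surjective i.hom.base := (Scheme.homeoOfIso i).surjective
  refine ⟨h1.map i.hom.base, hsurj.connectedSpace i.hom.continuous, fun ℓ hℓ hℓL q h1q hqn => ?_⟩
  haveI : Surjective i.hom := ⟨hsurj⟩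
  haveI := EtCohDesc.pull_preservesFiniteLimits i.hom
  haveI : Subsingleton ((EtCoh.HF W q).obj (EtCoh.const W (ZMod ℓ))) := h3 ℓ hℓ hℓL q h1q hqn
  haveI : Subsingleton (EtCoh.H W ((EtCoh.pull i.hom).obj (EtCoh.const W' (ZMod ℓ))) q) :=
    ((EtCoh.HF W q).mapIso (EtCons.pullConstM i.hom (ZMod ℓ))).addCommGroupIsoToAddEquiv.toEquiv.subsingleton
  exact (Groth.Agent.S0642.result i.hom (EtCoh.const W' (ZMod ℓ)) q).1.subsingleton

section ZDim

variable {P : Scheme.{u}} (hP : ZDim P) {z : P} (Q : EtBCQ.SH P z)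

include hP in
theorem isField_SH : IsField Q.R := by
  haveI := Groth.Agent.WeakEt.weaklyEtale_strictHenselization (P.presheaf.stalk z) Q.R
  exact isField_of_absFlat fun a =>
    Groth.Agent.WeakEt.exists_sq_mul_of_weaklyEtale (absFlat_of_isField (hP z)) a

include hP in
theorem acyclic_pullback_SH {W : Scheme.{u}} (π : W ⟶ P) {L : Set ℕ} {n : ℕ}
    (hfib : EtAcyc.GeomFibresAcyclicN L n π) : EtAcyc.IsAcyclicSchemeN L n (pullback π Q.spec) := by
  letI : Field Q.R := (isField_SH hP Q).toField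
  let A := P.presheaf.stalk z
  letI alg : Algebra (P.residueField z) (ResidueField Q.R) := inferInstanceAs (Algebra (ResidueField A) (ResidueField Q.R))
  haveI : Algebra.IsAlgebraic (P.residueField z) (ResidueField Q.R) := by
    haveI : Algebra.IsSeparable (ResidueField A) (ResidueField Q.R) := Q.sh.isSepClosure.2
    exact (inferInstance : Algebra.IsAlgebraic (ResidueField A) (ResidueField Q.R))
  have hgeo : EtAcyc.geomPt P z (ResidueField Q.R) = EtHens.pt Q.R ≫ Q.spec := by
    show Spec.map (CommRingCat.ofHom (algebraMap (P.residueField z) (ResidueField Q.R))) ≫ Spec.map (P.residue z) ≫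
      P.fromSpecStalk z = EtHens.pt Q.R ≫ Spec.map (CommRingCat.ofHom (algebraMap A Q.R)) ≫ P.fromSpecStalk z
    rw [← Category.assoc, ← Category.assoc (EtHens.pt Q.R), ← Spec.map_comp, ← Spec.map_comp]
    rfl
  haveI : IsIso (EtHens.pt Q.R) := by
    have hb : Function.Bijective (residue Q.R) := ⟨(residue Q.R).injective, residue_surjective⟩
    haveI : IsIso (CommRingCat.ofHom (residue Q.R)) := (ConcreteCategory.isIso_iff_bijective _).2 hb
    infer_instance
  have h := hfib z (ResidueField Q.R)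
  exact isAcyclicSchemeN_of_iso (pullback.congrHom (f₁ := π) rfl hgeo ≪≫ asIso (pullback.map π (EtHens.pt Q.R ≫ Q.spec) π Q.spec (𝟙 W) (EtHens.pt Q.R) (𝟙 P)
    (by simp) (by simp))) h

end ZDim

section Main

variable {P W : Scheme.{u}} (hP : ZDim P) (π : W ⟶ P) [QuasiCompact π] [QuasiSeparated π] {L : Set ℕ} {n : ℕ}
  (hfib : EtAcyc.GeomFibresAcyclicN L n π)

theorem geomPt_default (z : P) (Q : EtBCQ.SH P z) :
    (Hens2.geomPt P z Q.R) (default : Spec (CommRingCat.of (ResidueField Q.R))) = z :=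
  EtBCQ.geomPt_apply z Q.R

include hP hfib in
theorem surjective_of_fibres : Surjective π := by
  refine ⟨fun z => ?_⟩
  let Q := EtBCQ.mkSH P z
  obtain ⟨w⟩ := (acyclic_pullback_SH hP Q π hfib).1
  refine ⟨pullback.fst π Q.spec w, ?_⟩
  letI : Field Q.R := (isField_SH hP Q).toField
  rw [← Scheme.Hom.comp_apply, pullback.condition, Scheme.Hom.comp_apply,
    Subsingleton.elim (α := PrimeSpectrum Q.R) (pullback.snd π Q.spec w) (closedPoint Q.R)]
  exact Q.spec_closed

include hP hfib in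
theorem rpush_stalks {F : EtCoh.Ab P} (hF : EtPBC.IsConstructible F) {m : ℕ} (hm : EtAcyc.PrimesIn L m)
    (hk : Kd m F) (z : P) :
    (∀ q : ℕ, q < n → Subsingleton ((EtCoh.stalk (Hens2.geomPt P z (EtBCQ.mkSH P z).R)).obj
        ((EtCoh.Rpush π (q + 1)).obj ((EtCoh.pull π).obj F)))) ∧
      Finite ((EtCoh.stalk (Hens2.geomPt P z (EtBCQ.mkSH P z).R)).obj ((EtCoh.push π).obj ((EtCoh.pull π).obj F))) ∧
      Nat.card ((EtCoh.stalk (Hens2.geomPt P z (EtBCQ.mkSH P z).R)).obj ((EtCoh.push π).obj ((EtCoh.pull π).obj F))) ≤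
        Nat.card ((EtCoh.stalk (Hens2.geomPt P z (EtBCQ.mkSH P z).R)).obj F) := by
  let Q := EtBCQ.mkSH P z
  let a := pullback.fst π Q.spec
  let b := pullback.snd π Q.spec
  let G := (EtCoh.pull Q.spec).obj F
  haveI := EtCohDesc.pull_preservesFiniteLimits b
  haveI hfinF : Finite ((EtCoh.stalk (Hens2.geomPt P z Q.R)).obj F) := EtCons.finite_stalk_of_isConstructible _ hF _
  haveI : Finite ((EtCoh.stalk (EtHens.pt Q.R ≫ Q.spec)).obj F) := EtCons.finite_stalk_of_isConstructible _ hF _
  have hGfin : Finite ((EtCoh.stalk (EtHens.pt Q.R)).obj G) := EtCons.finite_stalk_pull Q.spec F (EtHens.pt Q.R)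
  obtain ⟨h1, h2, h3⟩ := acyclic_finite Q.R b (isField_SH hP Q) (acyclic_pullback_SH hP Q π hfib) hm _ G
    (hk.map (EtCoh.pull Q.spec)) hGfin le_rfl
  let φ : (EtCoh.pull a).obj ((EtCoh.pull π).obj F) ≅ (EtCoh.pull b).obj G :=
    (EtMV.ψ a π (a ≫ π) rfl).app F ≪≫ ((EtMV.ψ b Q.spec (a ≫ π) pullback.condition.symm).app F).symm
  have e : ∀ q, (EtCoh.stalk (Hens2.geomPt P z Q.R)).obj ((EtCoh.Rpush π q).obj ((EtCoh.pull π).obj F)) ≃
      EtCoh.H (pullback π Q.spec) ((EtCoh.pull b).obj G) q := fun q =>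
    ((Groth.Agent.S0620.result π ((EtCoh.pull π).obj F) z Q.R q).some.addCommGroupIsoToAddEquiv.toEquiv).trans
      ((EtCoh.HF (pullback π Q.spec) q).mapIso φ).addCommGroupIsoToAddEquiv.toEquiv
  let e₀ : (EtCoh.stalk (Hens2.geomPt P z Q.R)).obj ((EtCoh.push π).obj ((EtCoh.pull π).obj F)) ≃
      EtCoh.H (pullback π Q.spec) ((EtCoh.pull b).obj G) 0 :=
    (((EtCoh.stalk (Hens2.geomPt P z Q.R)).mapIso ((EtCoh.push π).rightDerivedZeroIsoSelf.app
      ((EtCoh.pull π).obj F))).addCommGroupIsoToAddEquiv.toEquiv.symm).trans (e 0)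
  refine ⟨fun q hq => @Equiv.subsingleton _ _ (e (q + 1)) (h1 q hq), Finite.of_equiv _ e₀.symm, ?_⟩
  rw [Nat.card_congr e₀]
  exact h3.trans (EtCons.card_stalk_pull Q.spec F (EtHens.pt Q.R)).le

include hP hfib in
theorem comp_constructible [PreservesFiniteLimits (EtCoh.pull π)] {F : EtCoh.Ab P} (hF : EtPBC.IsConstructible F)
    {m : ℕ} (hm : EtAcyc.PrimesIn L m) (hk : Kd m F) :
    (∀ q : ℕ, q ≤ n → Function.Bijective (EtCore.Hpull π F q)) ∧ Function.Injective (EtCore.Hpull π F (n + 1)) := by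
  haveI := surjective_of_fibres hP π hfib
  haveI := EtMV.mono_unit_of_surjective π F
  let η := (EtCoh.pullPushAdj π).unit.app F
  have hcov : EtStalk.Covers (X := P) fun Ω _ _ ξ => Function.Bijective ((EtCoh.stalk ξ).map η) ∧
      ∀ q : ℕ, q < n → Subsingleton ((EtCoh.stalk ξ).obj ((EtCoh.Rpush π (q + 1)).obj ((EtCoh.pull π).obj F))) := by
    intro z
    let Q := EtBCQ.mkSH P z
    obtain ⟨h1, h2, h3⟩ := rpush_stalks hP π hfib hF hm hk z
    refine ⟨ResidueField Q.R, inferInstance, inferInstance, Hens2.geomPt P z Q.R, ⟨?_, h1⟩, geomPt_default z Q⟩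
    haveI : Finite ((EtCoh.stalk (Hens2.geomPt P z Q.R)).obj ((EtCoh.pull π ⋙ EtCoh.push π).obj F)) := h2
    have hi : Function.Injective ((EtCoh.stalk (Hens2.geomPt P z Q.R)).map η) :=
      ((EtStalk.mono_iff η).1 inferInstance _ (Hens2.geomPt P z Q.R))
    exact (Nat.bijective_iff_injective_and_card _).2 ⟨hi, le_antisymm (Nat.card_le_card_of_injective _ hi) h3⟩
  haveI : IsIso η := by
    haveI : Presheaf.IsLocallyInjective P.smallEtaleTopology η.hom :=
      EtStalk.isLocallyInjective_of_covers _ hcov fun _ _ _ _ hξ => hξ.1.1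
    haveI : Sheaf.IsLocallySurjective η :=
      EtStalk.isLocallySurjective_of_covers _ hcov fun _ _ _ _ hξ => hξ.1.2
    haveI : Epi η := Sheaf.epi_of_isLocallySurjective η
    exact isIso_of_mono_of_epi η
  refine compN_of_unit π F n fun q hq => ?_
  let R' := (EtCoh.Rpush π (q + 1)).obj ((EtCoh.pull π).obj F)
  haveI : Presheaf.IsLocallyInjective P.smallEtaleTopology (0 : R' ⟶ R').hom :=
    EtStalk.isLocallyInjective_of_covers _ hcov fun _ _ _ _ hξ a b _ => (hξ.2 q hq).elim a b
  haveI : Mono (0 : R' ⟶ R') := Sheaf.mono_of_isLocallyInjective _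
  exact IsZero.of_mono_zero R' R'

include hP hfib in
/-- the comparison condition over a zero dimensional base -/
theorem compN_of_zdim [CompactSpace P] [QuasiSeparatedSpace P] : EtAcyc.CompN π L n := by
  haveI := EtCohDesc.pull_preservesFiniteLimits π
  haveI : CompactSpace W := QuasiCompact.compactSpace_of_compactSpace π
  haveI : QuasiSeparatedSpace W := quasiSeparatedSpace_of_quasiSeparated π
  refine compN_of_killed π L n fun m hm F hF => ?_
  obtain ⟨J, _, _, D, c, rfl, hc, hD⟩ := exists_colimit_constructible hm.1 F hF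
  have H := fun j => comp_constructible hP π hfib (hD j).1 hm (hD j).2
  exact ⟨fun q hq => ⟨(comp_of_colimit π hc q).1 fun j => ((H j).1 q hq).1,
      (comp_of_colimit π hc q).2 fun j => ((H j).1 q hq).2⟩,
    (comp_of_colimit π hc (n + 1)).1 fun j => (H j).2⟩

end Main

end Groth.Agent.EtAcycX
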