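import Groth.Agent.EtAcycX.UnitIso
import Groth.Prelude.Def_SGA4b
import Mathlib

/-! Acyclicity of composites. -/

set_option autoImplicit false
set_option backward.isDefEq.respectTransparency false
set_option backward.isDefEq.respectTransparency.types false
set_option linter.unusedSectionVars false
set_option linter.auxLemma false
set_option linter.overlappingInstances false
set_option linter.style.haveILetI false
set_option maxHeartbeats 1000000

universe u

open CategoryTheory CategoryTheory.Limits CategoryTheory.Abelian AlgebraicGeometry Opposite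

noncomputable section

namespace Groth.Agent.EtAcycX

attribute [local instance 100000] EtCoh.H._proof_1 Groth.Agent.EtMV.hext
attribute [local instance 200000] Groth.Agent.EtMV.hextAb

section Ab

variable {A B S : Scheme.{u}} (a : A ⟶ B) (b : B ⟶ S) {L : Set ℕ} {n : ℕ}

theorem compN_comp_iff (ha : EtAcyc.CompN a L n) : EtAcyc.CompN (a ≫ b) L n ↔ EtAcyc.CompN b L n := by
  haveI := EtCohDesc.pull_preservesFiniteLimits a
  haveI := EtCohDesc.pull_preservesFiniteLimits b
  haveI := EtCohDesc.pull_preservesFiniteLimits (a ≫ b)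
  have key : ∀ (F : EtCoh.Ab S), EtAcyc.IsLTorsion L F →
      (∀ q, q ≤ n → Function.Bijective (EtCore.HpullVia a b (a ≫ b) rfl F q)) ∧
        Function.Injective (EtCore.HpullVia a b (a ≫ b) rfl F (n + 1)) := fun F hF => by
    haveI := isIso_ψh a b (a ≫ b) rfl F
    obtain ⟨h₁, h₂⟩ := ha ((EtCoh.pull b).obj F) (isLTorsion_pull b hF)
    exact ⟨fun q hq => (bijective_comp_iso (EtLimit.ψh a b (a ≫ b) rfl F) q).comp (h₁ q hq),
      (bijective_comp_iso (EtLimit.ψh a b (a ≫ b) rfl F) (n + 1)).1.comp h₂⟩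
  have e : ∀ (F : EtCoh.Ab S) q, ⇑(EtCore.Hpull (a ≫ b) F q) =
      ⇑(EtCore.HpullVia a b (a ≫ b) rfl F q) ∘ ⇑(EtCore.Hpull b F q) :=
    fun F q => funext fun x => (Hpull_HpullVia a b (a ≫ b) rfl F q x).symm
  refine ⟨fun h F hF _ => ?_, fun h F hF _ => ?_⟩
  · obtain ⟨h₁, h₂⟩ := h F hF
    refine ⟨fun q hq => ?_, ?_⟩
    · exact (Function.Bijective.of_comp_iff' ((key F hF).1 q hq) _).1 (e F q ▸ h₁ q hq)
    · exact Function.Injective.of_comp (e F (n + 1) ▸ h₂)
  · obtain ⟨h₁, h₂⟩ := h F hF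
    refine ⟨fun q hq => ?_, ?_⟩
    · rw [e]; exact ((key F hF).1 q hq).comp (h₁ q hq)
    · rw [e]; exact (key F hF).2.comp h₂

end Ab

section Sets

variable {A B S : Scheme.{u}}

theorem pushSh_isEquivalence (f : A ⟶ B) [IsIso f] : (EtDesc.pushSh f).IsEquivalence := by
  haveI : (EtCoh.bc f).IsEquivalence := Groth.Agent.S0075.result f
  let e := (EtCoh.bc f).asEquivalence.symm
  haveI : e.inverse.IsDenseSubsite B.smallEtaleTopology A.smallEtaleTopology := EtInvariance.isDenseSubsite_bc f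
  let E := e.sheafCongr A.smallEtaleTopology B.smallEtaleTopology (Type (u + 1))
  exact Functor.isEquivalence_of_iso (F := E.functor) (NatIso.ofComponents fun F => Iso.refl _)

theorem isIso_unitSh_of_isIso (f : A ⟶ B) [IsIso f] (F : EtDesc.Sh B) : IsIso ((EtDesc.adjSh f).unit.app F) := by
  haveI := pushSh_isEquivalence f
  haveI : (EtDesc.pullSh f).IsEquivalence := (EtDesc.adjSh f).isEquivalence_left_of_isEquivalence_right
  infer_instance

theorem unitSh_comp_iff (a : A ⟶ B) (b : B ⟶ S) (F : EtDesc.Sh S)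
    [IsIso ((EtDesc.adjSh a).unit.app ((EtDesc.pullSh b).obj F))] :
    IsIso ((EtDesc.adjSh (a ≫ b)).unit.app F) ↔ IsIso ((EtDesc.adjSh b).unit.app F) := by
  let B' := ((EtDesc.adjSh b).comp (EtDesc.adjSh a)).ofNatIsoRight (EtDesc.pushCompSh b a)
  have h₁ : (EtDesc.adjSh (a ≫ b)).unit.app F ≫
      (EtDesc.pushSh (a ≫ b)).map ((EtDesc.pullCompSh a b).hom.app F) = B'.unit.app F :=
    Adjunction.unit_leftAdjointUniq_hom_app _ B' F
  have h₂ : B'.unit.app F = (EtDesc.adjSh b).unit.app F ≫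
      (EtDesc.pushSh b).map ((EtDesc.adjSh a).unit.app ((EtDesc.pullSh b).obj F)) ≫
        (EtDesc.pushCompSh b a).hom.app _ := by
    have h := Adjunction.homEquiv_ofNatIsoRight_apply ((EtDesc.adjSh b).comp (EtDesc.adjSh a))
      (EtDesc.pushCompSh b a) (𝟙 ((EtDesc.pullSh b ⋙ EtDesc.pullSh a).obj F))
    rw [Adjunction.homEquiv_id, Adjunction.homEquiv_id] at h
    rw [show B'.unit.app F = _ from h, Adjunction.comp_unit_app, Category.assoc]
    rfl
  rw [← isIso_comp_right_iff _ ((EtDesc.pushSh (a ≫ b)).map ((EtDesc.pullCompSh a b).hom.app F)), h₁, h₂,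
    isIso_comp_right_iff]

end Sets

section Prj

variable {X Y Z : Scheme.{u}} (g : X ⟶ Y) (h : Y ⟶ Z) (V : Z.Etale)

/-- the comparison of the projections of a composite -/
def θc : pullback V.hom (g ≫ h) ≅ pullback ((EtCoh.bc h).obj V).hom g :=
  (pullbackLeftPullbackSndIso V.hom h g).symm

theorem θc_prj : (θc g h V).hom ≫ EtAcyc.prj g ((EtCoh.bc h).obj V) ≫ EtAcyc.prj h V = EtAcyc.prj (g ≫ h) V :=
  pullbackLeftPullbackSndIso_inv_fst V.hom h g

theorem compN_prj_iff {L : Set ℕ} {n : ℕ} (hg : EtAcyc.IsAcyclicN g L n) :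
    EtAcyc.CompN (EtAcyc.prj (g ≫ h) V) L n ↔ EtAcyc.CompN (EtAcyc.prj h V) L n := by
  rw [← θc_prj, ← Category.assoc, compN_comp_iff _ _ (compN_congr _ _ (hg ((EtCoh.bc h).obj V)))]

theorem isAcyclicN_comp_iff {L : Set ℕ} {n : ℕ} (hg : EtAcyc.IsAcyclicN g L n) :
    EtAcyc.IsAcyclicN h L n ↔ EtAcyc.IsAcyclicN (g ≫ h) L n :=
  forall_congr' fun V => (compN_prj_iff g h V hg).symm

theorem isZeroAcyclic_comp_iff (hg : EtAcyc.IsZeroAcyclic g) :
    EtAcyc.IsZeroAcyclic h ↔ EtAcyc.IsZeroAcyclic (g ≫ h) := by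
  refine forall_congr' fun V => forall_congr' fun F => ?_
  rw [← θc_prj g h V, ← Category.assoc]
  haveI := hg ((EtCoh.bc h).obj V) ((EtDesc.pullSh (EtAcyc.prj h V)).obj F)
  haveI : IsIso ((EtDesc.adjSh ((θc g h V).hom ≫ EtAcyc.prj g ((EtCoh.bc h).obj V))).unit.app
      ((EtDesc.pullSh (EtAcyc.prj h V)).obj F)) := by
    haveI := isIso_unitSh_of_isIso (θc g h V).hom
      ((EtDesc.pullSh (EtAcyc.prj g ((EtCoh.bc h).obj V))).obj ((EtDesc.pullSh (EtAcyc.prj h V)).obj F))
    exact (unitSh_comp_iff (θc g h V).hom (EtAcyc.prj g ((EtCoh.bc h).obj V))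
      ((EtDesc.pullSh (EtAcyc.prj h V)).obj F)).2 inferInstance
  exact (@unitSh_comp_iff _ _ _ ((θc g h V).hom ≫ EtAcyc.prj g ((EtCoh.bc h).obj V)) (EtAcyc.prj h V) F this).symm

end Prj

end Groth.Agent.EtAcycX
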