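import Groth.Agent.EtMV.ConstSect
import Groth.Agent.EtPushStalk.PropA
import Groth.Agent.EtMV.Free
import Groth.Prelude.Def_EtCore
import Mathlib

/-! Stalks and global sections of constant sheaves. -/

set_option autoImplicit false
set_option backward.isDefEq.respectTransparency false
set_option backward.isDefEq.respectTransparency.types false
set_option linter.style.haveILetI false
set_option maxHeartbeats 1000000

universe u

open CategoryTheory CategoryTheory.Limits CategoryTheory.Abelian AlgebraicGeometry Opposite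

noncomputable section

namespace Groth.Agent.EtAcycX

attribute [local instance 100000] EtCoh.H._proof_1 Groth.Agent.EtMV.hext
attribute [local instance 200000] Groth.Agent.EtMV.hextAb

open EtMV (cst res_cst cst_inj valAt valAt_res valAt_cst exists_cst)

variable {X : Scheme.{u}} {M : Type} [AddCommGroup M]

/-- the stalk of a constant sheaf is the group -/
theorem card_stalk_const {Ω : Type u} [Field Ω] [IsSepClosed Ω] (η : Spec (CommRingCat.of Ω) ⟶ X) :
    Nat.card ((EtCoh.stalk η).obj (EtCoh.const X M)) = Nat.card M := by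
  let Φ := Scheme.pointSmallEtale η
  let x₀ : Φ.fiber.obj (EtCoh.top X) :=
    (Over.homMk η (Category.comp_id _) : Over.mk η ⟶ (Scheme.Etale.forget X).obj (EtCoh.top X))
  let γ : M → (EtCoh.stalk η).obj (EtCoh.const X M) := fun m =>
    Φ.toPresheafFiber (EtCoh.top X) x₀ (EtCoh.const X M).obj (cst (EtCoh.top X) m)
  refine (Nat.card_eq_of_bijective γ ⟨fun m m' h => ?_, fun p => ?_⟩).symm
  · obtain ⟨W, g, y, -, hg⟩ := (Φ.toPresheafFiber_eq_iff' (P := (EtCoh.const X M).obj) (EtCoh.top X) x₀
      (cst (EtCoh.top X) m) (cst (EtCoh.top X) m')).mp h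
    refine cst_inj (W := W) ((y : Over.mk η ⟶ (Scheme.Etale.forget X).obj W).left.base (default : Spec (CommRingCat.of Ω))) ?_
    exact (res_cst g m).symm.trans (hg.trans (res_cst g m'))
  · obtain ⟨U, x, s, rfl⟩ := Φ.toPresheafFiber_jointly_surjective (P := (EtCoh.const X M).obj) p
    have hS : Presheaf.imageSieve (toSheafify X.smallEtaleTopology (EtMV.cPre0 X M)) s ∈
        X.smallEtaleTopology U :=
      Presheaf.imageSieve_mem X.smallEtaleTopology (toSheafify X.smallEtaleTopology (EtMV.cPre0 X M)) s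
    obtain ⟨Z, h, ⟨⟨m⟩, hm⟩, y, hy⟩ := Φ.jointly_surjective _ hS x
    refine ⟨m, ?_⟩
    have hm' : (EtCoh.const X M).obj.map h.op s = cst Z m := hm.symm
    have h1 := GrothendieckTopology.Point.toPresheafFiber_w_apply Φ h y (EtCoh.const X M).obj s
    rw [hy] at h1
    have h2 := GrothendieckTopology.Point.toPresheafFiber_w_apply Φ ((EtCore.topIsTerminal X).from Z) y
      (EtCoh.const X M).obj (cst (EtCoh.top X) m)
    have hx : Φ.fiber.map ((EtCore.topIsTerminal X).from Z) y = x₀ := by
      refine Over.OverMorphism.ext ?_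
      have hw := Over.w (y : Over.mk η ⟶ (Scheme.Etale.forget X).obj Z)
      exact (congrArg ((y : Over.mk η ⟶ (Scheme.Etale.forget X).obj Z).left ≫ ·)
        (show ((EtCore.topIsTerminal X).from Z).left = Z.hom from
          (Category.comp_id _).symm.trans (MorphismProperty.Over.w ((EtCore.topIsTerminal X).from Z)))).trans hw
    rw [hx] at h2
    refine Eq.trans ?_ h1
    rw [hm']
    refine h2.symm.trans (congrArg _ ?_)
    exact res_cst _ m

/-- degree zero cohomology is global sections -/
theorem card_H_zero (F : EtCoh.Ab X) : Nat.card (EtCoh.H X F 0) = Nat.card (EtCoh.sect F (EtCoh.top X)) := by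
  refine Nat.card_congr (Ext.homEquiv₀.trans (((EtCore.constAdj X).homEquiv _ F).trans ?_))
  let A : AddCommGrpCat.{u + 1} := (EtCore.gsec X).obj F
  exact
    { toFun := fun f => f ⟨1⟩
      invFun := fun a => AddCommGrpCat.ofHom ((zmultiplesHom A a).comp (AddEquiv.ulift.toAddMonoidHom))
      left_inv := fun f => by
        apply AddCommGrpCat.hom_ext
        refine AddMonoidHom.ext fun x => ?_
        obtain ⟨k⟩ := x
        show k • f.hom ⟨1⟩ = f.hom ⟨k⟩
        rw [← map_zsmul]
        congr 1
        apply ULift.ext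
        simp
      right_inv := fun a => by
        show (1 : ℤ) • a = a
        exact one_zsmul a }

theorem nonempty_of_card {M : Type} [AddCommGroup M] (hM : 1 < Nat.card M)
    (h : Nat.card (EtCoh.sect (EtCoh.const X M) (EtCoh.top X)) = Nat.card M) : Nonempty X := by
  by_contra hX
  haveI := not_nonempty_iff.1 hX
  haveI := Groth.Agent.EtStalk.subsingleton_of_isEmpty (EtCoh.const X M) (EtCoh.top X) ‹IsEmpty X›
  haveI : Subsingleton (EtCoh.sect (EtCoh.const X M) (EtCoh.top X)) := this
  have := Finite.card_le_one_iff_subsingleton.2 this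
  omega

/-- Gluing sections on two disjoint clopen pieces. -/
theorem exists_extend_clopen' {X : Scheme.{u}} (G : EtCoh.Ab X) {U₁ U₂ P : X.Etale} (a : U₁ ⟶ P) (b : U₂ ⟶ P)
    [Mono a.left] [Mono b.left] (hd : ∀ x y, a.left x ≠ b.left y)
    (hc : ∀ p, p ∈ Set.range a.left ∨ p ∈ Set.range b.left) (t : EtCoh.sect G U₁) (t' : EtCoh.sect G U₂) :
    ∃ s : EtCoh.sect G P, G.obj.map a.op s = t ∧ G.obj.map b.op s = t' := by
  let Z : Bool → X.Etale := fun i => Bool.rec U₂ U₁ i
  let π : ∀ i, Z i ⟶ P := fun i => Bool.rec b a i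
  have hmem : Sieve.ofArrows Z π ∈ X.smallEtaleTopology P := by
    rw [Scheme.ofArrows_mem_smallEtaleTopology_iff]
    refine Set.eq_univ_of_forall fun p => ?_
    rcases hc p with h | h
    · exact Set.mem_iUnion.mpr ⟨true, h⟩
    · exact Set.mem_iUnion.mpr ⟨false, h⟩
  have hs : Presieve.IsSheafFor (G.obj ⋙ forget AddCommGrpCat.{u + 1}) (Presieve.ofArrows Z π) := by
    rw [Presieve.isSheafFor_iff_generate]
    exact (isSheaf_iff_isSheaf_of_type _ _).mp
      ((sheafCompose X.smallEtaleTopology (forget AddCommGrpCat.{u + 1})).obj G).property _ hmem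
  rw [Presieve.isSheafFor_arrows_iff] at hs
  let z : ∀ i, (G.obj ⋙ forget AddCommGrpCat.{u + 1}).obj (op (Z i)) :=
    fun i => match i with
      | true => t
      | false => t'
  obtain ⟨s, hs, -⟩ := hs z (fun i k T p q hpq => by
    have hl : p.left ≫ (π i).left = q.left ≫ (π k).left := congrArg (fun m => m.left) hpq
    have hsame : ∀ (i : Bool) (p q : T ⟶ Z i), p.left ≫ (π i).left = q.left ≫ (π i).left → p = q := by
      intro i p q hl
      refine MorphismProperty.Over.Hom.ext ?_
      cases i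
      · exact (cancel_mono b.left).mp hl
      · exact (cancel_mono a.left).mp hl
    have hemp : ∀ (x : T.left), i ≠ k → False := fun x hik => by
      cases i <;> cases k
      · exact hik rfl
      · exact hd _ _ (congr($hl x)).symm
      · exact hd _ _ (congr($hl x))
      · exact hik rfl
    by_cases hik : i = k
    · subst hik; rw [hsame i p q hl]
    · have : IsEmpty T.left := ⟨fun x => hemp x hik⟩
      have := Groth.Agent.EtStalk.subsingleton_of_isEmpty G T this
      exact Subsingleton.elim (α := G.obj.obj (op T)) _ _)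
  exact ⟨s, hs true, hs false⟩

theorem connectedSpace_of_card {M : Type} [AddCommGroup M] (hM : 1 < Nat.card M)
    (h : Nat.card (EtCoh.sect (EtCoh.const X M) (EtCoh.top X)) = Nat.card M) : ConnectedSpace X := by
  haveI : Nonempty X := nonempty_of_card hM h
  haveI : Finite M := Nat.finite_of_card_ne_zero (by omega)
  haveI : Nontrivial M := Finite.one_lt_card_iff_nontrivial.1 hM
  haveI : Finite (EtCoh.sect (EtCoh.const X M) (EtCoh.top X)) := Nat.finite_of_card_ne_zero (by omega)
  obtain ⟨x₁⟩ := ‹Nonempty X›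
  suffices hp : PreconnectedSpace X from { hp with toNonempty := ⟨x₁⟩ }
  have hinj : Function.Injective fun m : M => cst (EtCoh.top X) m := fun a b hab => cst_inj x₁ hab
  have hsurj : Function.Surjective fun m : M => cst (EtCoh.top X) m :=
    ((Nat.bijective_iff_injective_and_card _).2 ⟨hinj, h.symm⟩).2
  classical
  refine preconnectedSpace_iff_clopen.2 fun s hs => ?_
  by_contra hne
  simp only [not_or] at hne
  obtain ⟨u₁, hu₁⟩ := Set.nonempty_iff_ne_empty.2 hne.1
  obtain ⟨u₂, hu₂⟩ := (Set.ne_univ_iff_exists_notMem s).1 hne.2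
  let O₁ : X.Opens := ⟨s, hs.2⟩
  let O₂ : X.Opens := ⟨sᶜ, hs.1.isOpen_compl⟩
  let U₁ : X.Etale := MorphismProperty.Over.mk ⊤ O₁.ι (inferInstanceAs (Etale O₁.ι))
  let U₂ : X.Etale := MorphismProperty.Over.mk ⊤ O₂.ι (inferInstanceAs (Etale O₂.ι))
  let a : U₁ ⟶ EtCoh.top X := MorphismProperty.Over.homMk O₁.ι (Category.comp_id _)
  let b : U₂ ⟶ EtCoh.top X := MorphismProperty.Over.homMk O₂.ι (Category.comp_id _)
  haveI : Mono a.left := inferInstanceAs (Mono O₁.ι)
  haveI : Mono b.left := inferInstanceAs (Mono O₂.ι)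
  obtain ⟨m, hm⟩ := exists_ne (0 : M)
  obtain ⟨σ, hσa, hσb⟩ := exists_extend_clopen' (EtCoh.const X M) a b
    (fun x y hxy => (show (b.left.base y : X) ∉ s from y.2) (hxy ▸ (x.2 : a.left.base x ∈ s)))
    (fun p => if hp : p ∈ s then Or.inl ⟨⟨p, hp⟩, rfl⟩ else Or.inr ⟨⟨p, hp⟩, rfl⟩) (cst U₁ m) (cst U₂ 0)
  obtain ⟨m', rfl⟩ := hsurj σ
  have h₁ : m' = m := cst_inj (W := U₁) (⟨u₁, hu₁⟩ : O₁) ((res_cst a m').symm.trans hσa)
  have h₂ : m' = 0 := cst_inj (W := U₂) (⟨u₂, hu₂⟩ : O₂) ((res_cst b m').symm.trans hσb)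
  exact hm (h₁.symm.trans h₂)

end Groth.Agent.EtAcycX
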