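import Groth.Agent.EtAcycX.Killed
import Groth.Agent.EtMV.HenselVanish
import Groth.Agent.EtCohDesc.Retract
import Mathlib

/-! The comparison condition descends along surjective morphisms with base change. -/

set_option autoImplicit false
set_option backward.isDefEq.respectTransparency false
set_option backward.isDefEq.respectTransparency.types false
set_option linter.unusedSectionVars false
set_option linter.overlappingInstances false
set_option linter.style.haveILetI false
set_option linter.auxLemma false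
set_option maxHeartbeats 1000000

universe u

open CategoryTheory CategoryTheory.Limits CategoryTheory.Abelian AlgebraicGeometry Opposite

noncomputable section

namespace Groth.Agent.EtAcycX

attribute [local instance 100000] EtCoh.H._proof_1 Groth.Agent.EtMV.hext
attribute [local instance 200000] Groth.Agent.EtMV.hextAb
attribute [local instance 300000] CategoryTheory.Preadditive.preadditiveHasZeroMorphisms
  CategoryTheory.Abelian.toPreadditive

variable {X Y Xb Yb : Scheme.{u}}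

theorem ext_zero_cancel {C : Type*} [Category C] [Abelian C] [HasExt C] {A B P : C} (f : A ⟶ B) [Mono f]
    (a b : Ext P A 0) (e : Ext.comp a (Ext.mk₀ f) (add_zero 0) = Ext.comp b (Ext.mk₀ f) (add_zero 0)) : a = b := by
  obtain ⟨α, rfl⟩ := (Ext.mk₀_bijective _ _).2 a
  obtain ⟨β, rfl⟩ := (Ext.mk₀_bijective _ _).2 b
  rw [Ext.mk₀_comp_mk₀, Ext.mk₀_comp_mk₀] at e
  rw [(cancel_mono f).1 ((Ext.mk₀_bijective _ _).1 e)]

theorem sub_comp_eq_zero {C : Type*} [Category C] [Abelian C] [HasExt C] {A B P : C} (f : A ⟶ B) {k : ℕ}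
    (a b : Ext P A k) (e : Ext.comp a (Ext.mk₀ f) (add_zero k) = Ext.comp b (Ext.mk₀ f) (add_zero k)) :
    Ext.comp (a - b) (Ext.mk₀ f) (add_zero k) = 0 := by
  rw [sub_eq_add_neg, Ext.add_comp, Ext.neg_comp, e, add_neg_cancel]

section Steps

variable (h : Y ⟶ X) [PreservesFiniteLimits (EtCoh.pull h)] {S : ShortComplex (EtCoh.Ab X)} (hS : S.ShortExact)

include hS in
theorem inj_step (k : ℕ) (h2i : Function.Injective (EtCore.Hpull h S.X₂ (k + 1)))
    (h2s : Function.Surjective (EtCore.Hpull h S.X₂ k)) (h3 : Function.Injective (EtCore.Hpull h S.X₃ k)) :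
    Function.Injective (EtCore.Hpull h S.X₁ (k + 1)) := by
  refine (injective_iff_map_eq_zero _).2 fun x hx => ?_
  have hfx : Ext.comp x (Ext.mk₀ S.f) (add_zero (k + 1)) = 0 :=
    h2i ((Hpull_comp_mk₀ h x S.f).trans ((congrArg (fun t => Ext.comp t (Ext.mk₀ ((EtCoh.pull h).map S.f))
      (add_zero (k + 1))) hx).trans ((Ext.zero_comp _ _ _ _ _).trans (map_zero _).symm)))
  obtain ⟨z, hz⟩ := Ext.covariant_sequence_exact₁ (EtCoh.const X ℤ) hS x hfx rfl
  subst hz
  have hx' := (Hpull_comp_extClass h hS z rfl).symm.trans hx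
  obtain ⟨v, hv⟩ := Ext.covariant_sequence_exact₃ (EtCoh.const Y ℤ) (hS.map_of_exact (EtCoh.pull h))
    (EtCore.Hpull h S.X₃ k z) rfl hx'
  obtain ⟨v', rfl⟩ := h2s v
  have hzv : Ext.comp v' (Ext.mk₀ S.g) (add_zero k) = z := h3 ((Hpull_comp_mk₀ h v' S.g).trans hv)
  rw [← hzv]
  exact (Ext.comp_assoc _ _ _ (add_zero k) (zero_add 1) (by omega)).trans
    ((congrArg (fun t => Ext.comp v' t rfl) hS.comp_extClass).trans (Ext.comp_zero _ _ _ _ _))

include hS in
theorem surj_step (k : ℕ) (h2s : Function.Surjective (EtCore.Hpull h S.X₂ (k + 1)))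
    (h3i : Function.Injective (EtCore.Hpull h S.X₃ (k + 1))) (h3s : Function.Surjective (EtCore.Hpull h S.X₃ k)) :
    Function.Surjective (EtCore.Hpull h S.X₁ (k + 1)) := by
  intro y
  obtain ⟨b, hb⟩ := h2s (Ext.comp y (Ext.mk₀ (S.map (EtCoh.pull h)).f) (add_zero (k + 1)))
  have hgy : Ext.comp (Ext.comp y (Ext.mk₀ (S.map (EtCoh.pull h)).f) (add_zero (k + 1)))
      (Ext.mk₀ (S.map (EtCoh.pull h)).g) (add_zero (k + 1)) = 0 :=
    (Ext.comp_assoc _ _ _ (add_zero (k + 1)) (zero_add 0) rfl).trans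
      ((congrArg (fun t => Ext.comp y t (add_zero (k + 1)))
        ((Ext.mk₀_comp_mk₀ _ _).trans ((congrArg Ext.mk₀ (S.map (EtCoh.pull h)).zero).trans (Ext.mk₀_zero _ _)))).trans
        (Ext.comp_zero _ _ _ _ _))
  have hb' : Ext.comp b (Ext.mk₀ S.g) (add_zero (k + 1)) = 0 :=
    h3i ((Hpull_comp_mk₀ h b S.g).trans ((congrArg (fun t => Ext.comp t (Ext.mk₀ ((EtCoh.pull h).map S.g))
      (add_zero (k + 1))) hb).trans (hgy.trans (map_zero _).symm)))
  obtain ⟨x, rfl⟩ := Ext.covariant_sequence_exact₂ (EtCoh.const X ℤ) hS b hb'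
  let d := EtCore.Hpull h S.X₁ (k + 1) x - y
  have hd : Ext.comp d (Ext.mk₀ (S.map (EtCoh.pull h)).f) (add_zero (k + 1)) = 0 := by
    exact sub_comp_eq_zero (S.map (EtCoh.pull h)).f (EtCore.Hpull h S.X₁ (k + 1) x) y
      ((Hpull_comp_mk₀ h x S.f).symm.trans hb)
  obtain ⟨z', hz'⟩ := Ext.covariant_sequence_exact₁ (EtCoh.const Y ℤ) (hS.map_of_exact (EtCoh.pull h)) d hd rfl
  obtain ⟨z, rfl⟩ := h3s z'
  refine ⟨x - Ext.comp z hS.extClass rfl, ?_⟩
  have h4 : EtCore.Hpull h S.X₁ (k + 1) (Ext.comp z hS.extClass rfl) = d := (Hpull_comp_extClass h hS z rfl).trans hz'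
  exact (map_sub (EtCore.Hpull h S.X₁ (k + 1)) x _).trans
    ((congrArg (fun t => EtCore.Hpull h S.X₁ (k + 1) x - t) h4).trans (sub_sub_cancel _ y))

end Steps

variable (h : Y ⟶ X) (p : Xb ⟶ X) (hb : Yb ⟶ Xb) (pY : Yb ⟶ Y) (w : hb ≫ p = pY ≫ h)
  [PreservesFiniteLimits (EtCoh.pull h)] [PreservesFiniteLimits (EtCoh.pull p)]
  [PreservesFiniteLimits (EtCoh.pull hb)] [PreservesFiniteLimits (EtCoh.pull pY)]

theorem Hpull_push_iff (F : EtCoh.Ab Xb) (k : ℕ) [IsIso (EtCoh.baseChange0 p h pY hb w F)] :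
    Function.Bijective (EtLim.HofPush p F k) → Function.Bijective (EtLim.HofPush pY ((EtCoh.pull hb).obj F) k) →
      Function.Bijective (EtCore.Hpull hb F k) → Function.Bijective (EtCore.Hpull h ((EtCoh.push p).obj F) k) := by
  intro h₁ h₂ h₃
  have e : (EtLim.HofPush pY ((EtCoh.pull hb).obj F) k) ∘
      (((EtCoh.HF Y k).map (EtCoh.baseChange0 p h pY hb w F)).hom ∘ EtCore.Hpull h ((EtCoh.push p).obj F) k) =
      (EtCore.Hpull hb F k) ∘ (EtLim.HofPush p F k) :=
    (funext (Hpull_HofPush p h pY hb w F k)).symm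
  have h4 := e ▸ h₃.comp h₁
  have h5 := (Function.Bijective.of_comp_iff' h₂ _).1 h4
  exact (Function.Bijective.of_comp_iff' ((ConcreteCategory.isIso_iff_bijective
    ((EtCoh.HF Y k).map (EtCoh.baseChange0 p h pY hb w F))).1 inferInstance) _).1 h5

variable (L : Set ℕ) (n N : ℕ) (hN : N ≤ n + 1) (hhb : EtAcyc.CompN hb L N)
  (hbc : ∀ F : EtCoh.Ab Xb, EtAcyc.IsLTorsion L F → ∀ i : ℕ, i ≤ n → IsIso (EtBC.bcQ p h pY hb w i F))
  {m : ℕ} (hm : EtAcyc.PrimesIn L m)

include hN hhb hbc hm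

theorem push_zero {F : EtCoh.Ab Xb} (hF : Kd m F) :
    Function.Bijective (EtCore.Hpull h ((EtCoh.push p).obj F) 0) := by
  haveI := hbc F (hF.isLTorsion hm) 0 (Nat.zero_le n)
  haveI := EtBCQ.isIso_baseChange0_of_bcQ p h pY hb w F
  exact Hpull_push_iff h p hb pY w F 0 (HofPush_zero_bijective p F) (HofPush_zero_bijective pY _)
    ((hhb F (hF.isLTorsion hm)).1 0 (Nat.zero_le _))

theorem push_tor (I : EtCoh.Ab Xb) [Injective I] (k : ℕ) :
    (k ≤ N → Function.Bijective (EtCore.Hpull h ((EtCoh.push p).obj (EtColimH.tor I m)) k)) ∧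
      (k ≤ N + 1 → Function.Injective (EtCore.Hpull h ((EtCoh.push p).obj (EtColimH.tor I m)) k)) := by
  let T := EtColimH.tor I m
  have hT : EtAcyc.IsLTorsion L T := (kd_tor I m).isLTorsion hm
  cases k with
  | zero => exact ⟨fun _ => push_zero h p hb pY w L n N hN hhb hbc hm (kd_tor I m),
      fun _ => (push_zero h p hb pY w L n N hN hhb hbc hm (kd_tor I m)).1⟩
  | succ k =>
    haveI hX : Subsingleton (EtCoh.H X ((EtCoh.push p).obj T) (k + 1)) := by
      have hb' := EtMV.HofPush_bijective p T (fun q => isZero_rpush_tor p I hm.1 q) (k + 1)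
      haveI := subsingleton_H_tor I hm.1 k
      exact hb'.1.subsingleton
    refine ⟨fun hk => ⟨fun a b _ => Subsingleton.elim _ _, ?_⟩, fun _ a b _ => Subsingleton.elim _ _⟩
    haveI := hbc T hT 0 (Nat.zero_le n)
    haveI := EtBCQ.isIso_baseChange0_of_bcQ p h pY hb w T
    have hR : ∀ q : ℕ, q < n → IsZero ((EtCoh.Rpush pY (q + 1)).obj ((EtCoh.pull hb).obj T)) := fun q hq => by
      haveI := hbc T hT (q + 1) hq
      exact IsZero.of_iso ((EtCoh.pull h).map_isZero (isZero_rpush_tor p I hm.1 q))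
        (asIso (EtBC.bcQ p h pY hb w (q + 1) T)).symm
    obtain ⟨hb1, hi1⟩ := HofPush_bounded pY ((EtCoh.pull hb).obj T) n hR
    have hinj : Function.Injective (EtLim.HofPush pY ((EtCoh.pull hb).obj T) (k + 1)) := by
      by_cases hkn : k + 1 ≤ n
      · exact (hb1 _ hkn).1
      · obtain rfl : k = n := by omega
        exact hi1
    intro y
    refine ⟨0, (map_zero _).trans ?_⟩
    have hbij := (ConcreteCategory.isIso_iff_bijective
      ((EtCoh.HF Y (k + 1)).map (EtCoh.baseChange0 p h pY hb w T))).1 inferInstance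
    refine hbij.1 (hinj ?_)
    haveI := subsingleton_H_tor I hm.1 k
    obtain ⟨z, hz⟩ := ((hhb T hT).1 (k + 1) hk).2
      (EtLim.HofPush pY ((EtCoh.pull hb).obj T) (k + 1) ((EtCoh.HF Y (k + 1)).map (EtCoh.baseChange0 p h pY hb w T) y))
    rw [map_zero, map_zero]
    refine Eq.trans ?_ hz
    rw [Subsingleton.elim z 0, map_zero]

theorem killed_bijective (hp : Surjective p) :
    ∀ (k : ℕ) (F : EtCoh.Ab X), Kd m F →
      (k ≤ N → Function.Bijective (EtCore.Hpull h F k)) ∧ (k ≤ N + 1 → Function.Injective (EtCore.Hpull h F k)) := by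
  intro k
  induction k with
  | zero =>
    have hinj : ∀ F : EtCoh.Ab X, Kd m F → Function.Injective (EtCore.Hpull h F 0) := fun F hF => by
      haveI := EtMV.mono_unit_of_surjective p F
      let η := (EtCoh.pullPushAdj p).unit.app F
      have hG := push_zero h p hb pY w L n N hN hhb hbc hm (hF.map (EtCoh.pull p))
      refine (injective_iff_map_eq_zero _).2 fun x hx => ?_
      obtain ⟨φ, rfl⟩ := (Ext.mk₀_bijective _ _).2 x
      have h1 : Ext.comp (Ext.mk₀ φ) (Ext.mk₀ η) (add_zero 0) = 0 :=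
        hG.1 ((Hpull_comp_mk₀ h _ η).trans ((congrArg (fun t => Ext.comp t (Ext.mk₀ ((EtCoh.pull h).map η))
          (add_zero 0)) hx).trans ((Ext.zero_comp _ _ _ _ _).trans (map_zero _).symm)))
      rw [Ext.mk₀_comp_mk₀, ← Ext.mk₀_zero] at h1
      have h2 : φ = 0 := (cancel_mono η).1 (((Ext.mk₀_bijective _ _).1 h1).trans zero_comp.symm)
      rw [h2, Ext.mk₀_zero]
    refine fun F hF => ⟨fun _ => ⟨hinj F hF, fun y => ?_⟩, fun _ => hinj F hF⟩
    haveI := EtMV.mono_unit_of_surjective p F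
    let η := (EtCoh.pullPushAdj p).unit.app F
    let S : ShortComplex (EtCoh.Ab X) := ShortComplex.mk η (cokernel.π η) (cokernel.condition η)
    have hS : S.ShortExact := { exact := ShortComplex.exact_of_g_is_cokernel _ (cokernelIsCokernel _) }
    have hG := push_zero h p hb pY w L n N hN hhb hbc hm (hF.map (EtCoh.pull p))
    have hQ : Kd m S.X₃ := ((hF.map (EtCoh.pull p)).map (EtCoh.push p)).of_epi (cokernel.π η)
    obtain ⟨b, hb'⟩ := hG.2 (Ext.comp y (Ext.mk₀ (S.map (EtCoh.pull h)).f) (add_zero 0))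
    have hgy : Ext.comp (Ext.comp y (Ext.mk₀ (S.map (EtCoh.pull h)).f) (add_zero 0))
        (Ext.mk₀ (S.map (EtCoh.pull h)).g) (add_zero 0) = 0 :=
      (Ext.comp_assoc _ _ _ (add_zero 0) (zero_add 0) rfl).trans
        ((congrArg (fun t => Ext.comp y t (add_zero 0))
          ((Ext.mk₀_comp_mk₀ _ _).trans ((congrArg Ext.mk₀ (S.map (EtCoh.pull h)).zero).trans (Ext.mk₀_zero _ _)))).trans
          (Ext.comp_zero _ _ _ _ _))
    have hb'' : Ext.comp b (Ext.mk₀ S.g) (add_zero 0) = 0 :=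
      hinj S.X₃ hQ ((Hpull_comp_mk₀ h b S.g).trans ((congrArg (fun t => Ext.comp t (Ext.mk₀ ((EtCoh.pull h).map S.g))
        (add_zero 0)) hb').trans (hgy.trans (map_zero _).symm)))
    obtain ⟨x, rfl⟩ := Ext.covariant_sequence_exact₂ (EtCoh.const X ℤ) hS b hb''
    refine ⟨x, ?_⟩
    haveI := (hS.map_of_exact (EtCoh.pull h)).mono_f
    have he := (Hpull_comp_mk₀ h x S.f).symm.trans hb'
    obtain ⟨a, ha⟩ := (Ext.mk₀_bijective _ _).2 (EtCore.Hpull h F 0 x)
    obtain ⟨c, rfl⟩ := (Ext.mk₀_bijective _ _).2 y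
    exact ext_zero_cancel (S.map (EtCoh.pull h)).f _ _ he
  | succ k ih =>
    have hpush : ∀ F : EtCoh.Ab Xb, Kd m F →
        (k + 1 ≤ N → Function.Surjective (EtCore.Hpull h ((EtCoh.push p).obj F) (k + 1))) ∧
        (k + 1 ≤ N + 1 → Function.Injective (EtCore.Hpull h ((EtCoh.push p).obj F) (k + 1))) := fun F hF => by
      obtain ⟨I, _, e, _⟩ := exists_hullKd hF
      haveI : (EtCoh.push p).PreservesMonomorphisms :=
        haveI : (EtCoh.push p).IsRightAdjoint := (EtCoh.pullPushAdj p).isRightAdjoint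
        inferInstance
      let S : ShortComplex (EtCoh.Ab X) := ShortComplex.mk ((EtCoh.push p).map e)
        (cokernel.π ((EtCoh.push p).map e)) (cokernel.condition _)
      haveI : Mono S.f := inferInstanceAs (Mono ((EtCoh.push p).map e))
      have hS : S.ShortExact := { exact := ShortComplex.exact_of_g_is_cokernel _ (cokernelIsCokernel _) }
      have hC : Kd m S.X₃ := ((kd_tor I m).map (EtCoh.push p)).of_epi (cokernel.π ((EtCoh.push p).map e))
      have hT := push_tor h p hb pY w L n N hN hhb hbc hm I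
      refine ⟨fun hk y => ?_, fun hk => inj_step h hS k ((hT (k + 1)).2 hk) ((hT k).1 (by omega)).2
        ((ih S.X₃ hC).2 (by omega))⟩
      have hy : Ext.comp y (Ext.mk₀ (S.map (EtCoh.pull h)).f) (add_zero (k + 1)) = 0 := by
        obtain ⟨b, hb'⟩ := ((hT (k + 1)).1 hk).2 (Ext.comp y (Ext.mk₀ (S.map (EtCoh.pull h)).f) (add_zero (k + 1)))
        have hbz : b = 0 := by
          have hb'' := EtMV.HofPush_bijective p (EtColimH.tor I m) (fun q => isZero_rpush_tor p I hm.1 q) (k + 1)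
          haveI := subsingleton_H_tor I hm.1 k
          exact hb''.1 (Subsingleton.elim _ _)
        rw [← hb', hbz, map_zero]
      obtain ⟨z', hz'⟩ := Ext.covariant_sequence_exact₁ (EtCoh.const Y ℤ) (hS.map_of_exact (EtCoh.pull h)) y hy rfl
      obtain ⟨z, rfl⟩ := ((ih S.X₃ hC).1 (by omega)).2 z'
      exact ⟨Ext.comp z hS.extClass rfl, (Hpull_comp_extClass h hS z rfl).trans hz'⟩
    have hall : ∀ F : EtCoh.Ab X, Kd m F → k + 1 ≤ N + 1 → Function.Injective (EtCore.Hpull h F (k + 1)) :=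
      fun F hF hk => by
      haveI := EtMV.mono_unit_of_surjective p F
      let η := (EtCoh.pullPushAdj p).unit.app F
      let S : ShortComplex (EtCoh.Ab X) := ShortComplex.mk η (cokernel.π η) (cokernel.condition η)
      have hS : S.ShortExact := { exact := ShortComplex.exact_of_g_is_cokernel _ (cokernelIsCokernel _) }
      have hP : Kd m S.X₂ := (hF.map (EtCoh.pull p)).map (EtCoh.push p)
      exact inj_step h hS k ((hpush _ (hF.map (EtCoh.pull p))).2 hk) ((ih S.X₂ hP).1 (by omega)).2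
        ((ih S.X₃ (hP.of_epi (cokernel.π η))).2 (by omega))
    refine fun F hF => ⟨fun hk => ⟨hall F hF (by omega), ?_⟩, hall F hF⟩
    haveI := EtMV.mono_unit_of_surjective p F
    let η := (EtCoh.pullPushAdj p).unit.app F
    let S : ShortComplex (EtCoh.Ab X) := ShortComplex.mk η (cokernel.π η) (cokernel.condition η)
    have hS : S.ShortExact := { exact := ShortComplex.exact_of_g_is_cokernel _ (cokernelIsCokernel _) }
    have hP : Kd m S.X₂ := (hF.map (EtCoh.pull p)).map (EtCoh.push p)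
    exact surj_step h hS k ((hpush _ (hF.map (EtCoh.pull p))).1 hk) (hall _ (hP.of_epi (cokernel.π η)) (by omega))
      ((ih S.X₃ (hP.of_epi (cokernel.π η))).1 (by omega)).2

end Groth.Agent.EtAcycX
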