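import Groth.Agent.S8525
import Groth.Prelude.Def_EtAcyc
import Mathlib

/-!
# L-torsion sheaves: quotients, subobjects; naturality of `Hpull` in the sheaf and the connecting class
-/
set_option autoImplicit false
universe u
open CategoryTheory CategoryTheory.Limits AlgebraicGeometry Opposite CategoryTheory.Abelian

set_option backward.isDefEq.respectTransparency false

namespace Groth.Agent.EtAcycX

variable {X Y : Scheme.{u}}

lemma isLTorsion_of_epi (L : Set ℕ) {F G : EtCoh.Ab X} (π : F ⟶ G) [Epi π] (hF : EtAcyc.IsLTorsion L F) :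
    EtAcyc.IsLTorsion L G := by
  rw [Groth.Agent.S8525.result L G]
  intro Ω _ _ ξ t
  have : Epi ((EtCoh.stalk ξ).map π) := inferInstance
  obtain ⟨s, rfl⟩ := (AddCommGrpCat.epi_iff_surjective _).mp this t
  obtain ⟨m, hm, h0⟩ := (Groth.Agent.S8525.result L F).mp hF Ω ξ s
  exact ⟨m, hm, by rw [← map_nsmul, h0, map_zero]⟩

variable (f : Y ⟶ X) [PreservesFiniteLimits (EtCoh.pull f)]

lemma Hpull_apply (G : EtCoh.Ab X) (n : ℕ) (e : EtCoh.H X G n) :
    EtCore.Hpull f G n e = (Ext.mk₀ (EtCore.pullConst f ℤ).inv).comp (e.mapExactFunctor (EtCoh.pull f)) (zero_add n) :=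
  rfl

lemma Hpull_comp {F G : EtCoh.Ab X} {n k m : ℕ} (e : EtCoh.H X F n) (β : Ext F G k) (hm : n + k = m) :
    EtCore.Hpull f G m (Ext.comp e β hm) =
      Ext.comp (EtCore.Hpull f F n e) (β.mapExactFunctor (EtCoh.pull f)) hm := by
  rw [Hpull_apply, Hpull_apply, Ext.mapExactFunctor_comp]
  exact (Ext.comp_assoc _ _ _ _ _ (by omega)).symm

lemma Hpull_comp_mk₀ {F G : EtCoh.Ab X} {n : ℕ} (e : EtCoh.H X F n) (u : F ⟶ G) :
    EtCore.Hpull f G n (Ext.comp e (Ext.mk₀ u) (add_zero n)) =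
      Ext.comp (EtCore.Hpull f F n e) (Ext.mk₀ ((EtCoh.pull f).map u)) (add_zero n) := by
  rw [Hpull_comp f e (Ext.mk₀ u) (add_zero n), Ext.mapExactFunctor_mk₀]

lemma Hpull_comp_extClass {S : ShortComplex (EtCoh.Ab X)} (hS : S.ShortExact) {n m : ℕ}
    (e : EtCoh.H X S.X₃ n) (hm : n + 1 = m) :
    EtCore.Hpull f S.X₁ m (Ext.comp e hS.extClass hm) =
      Ext.comp (EtCore.Hpull f S.X₃ n e) (hS.map_of_exact (EtCoh.pull f)).extClass hm := by
  rw [Hpull_comp f e hS.extClass hm, Ext.mapExactFunctor_extClass]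

end Groth.Agent.EtAcycX
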