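import Groth.Agent.EtMV.HofPush
import Groth.Agent.EtAcycX.Tors
import Groth.Agent.EtColimH.PTorsion
import Groth.Agent.EtColimH.Main
import Groth.Agent.EtLimit.Colim
import Groth.Agent.EtLimit.GaGm
import Groth.Agent.EtIntegral.BaseChange
import Mathlib

/-! The low degree edge maps `H^k(Y, f_* F) → H^k(X, F)` and their compatibility with pullback. -/

set_option autoImplicit false
set_option backward.isDefEq.respectTransparency false
set_option backward.isDefEq.respectTransparency.types false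
set_option linter.unusedSectionVars false
set_option linter.auxLemma false
set_option linter.overlappingInstances false
set_option maxHeartbeats 1000000

universe w w' v v' u u'

open CategoryTheory CategoryTheory.Limits CategoryTheory.Abelian AlgebraicGeometry Opposite

noncomputable section

namespace Groth.Agent.EtAcycX

open EtLimit (fstE)
open EtMV (T T_mk₀ T_comp U U_apply U_comp_mk₀ U_comp_extClass shortExact_map isZero_rightDerived_X₃ injSeq injSeq_shortExact)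

section Generic

variable {A : Type u} [Category.{v} A] [Abelian A] {B : Type u'} [Category.{v'} B] [Abelian B] [EnoughInjectives A]
  [EnoughInjectives B] {L : B ⥤ A} {R : A ⥤ B} [R.Additive] (adj : L ⊣ R) [HasExt.{w} A] [HasExt.{w'} B]
  [L.Additive] [PreservesFiniteLimits L] [PreservesFiniteColimits L]
  {P : B} {Q : A} (c : Q ⟶ L.obj P) [IsIso c]

theorem U_zero_bijective (G : A) : Function.Bijective (U adj c G 0) := by
  have key : ∀ φ : P ⟶ R.obj G, U adj c G 0 (Ext.mk₀ φ) = Ext.mk₀ (c ≫ (adj.homEquiv _ _).symm φ) := fun φ => by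
    rw [U_apply, T_mk₀, Ext.mk₀_comp_mk₀, Category.assoc, Adjunction.homEquiv_counit]
  refine ⟨fun a b hab => ?_, fun y => ?_⟩
  · obtain ⟨φ, rfl⟩ := (Ext.mk₀_bijective _ _).2 a
    obtain ⟨φ', rfl⟩ := (Ext.mk₀_bijective _ _).2 b
    rw [key, key] at hab
    exact congrArg _ ((adj.homEquiv _ _).symm.injective ((cancel_epi c).1 ((Ext.mk₀_bijective _ _).1 hab)))
  · obtain ⟨ψ, rfl⟩ := (Ext.mk₀_bijective _ _).2 y
    refine ⟨Ext.mk₀ (adj.homEquiv _ _ (inv c ≫ ψ)), ?_⟩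
    rw [key, Equiv.symm_apply_apply, IsIso.hom_inv_id_assoc]

variable [R.PreservesInjectiveObjects]

theorem U_one_injective (G : A) : Function.Injective (U adj c G 1) := by
  refine (injective_iff_map_eq_zero _).2 fun x hx => ?_
  haveI : R.IsRightAdjoint := adj.isRightAdjoint
  have hS := injSeq_shortExact G
  haveI := hS.mono_f
  have hRex : ((injSeq G).map R).Exact :=
    ShortComplex.exact_of_f_is_kernel _ (KernelFork.mapIsLimit _ hS.fIsKernel R)
  haveI : Mono (R.map (injSeq G).f) := inferInstance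
  let πK := cokernel.π ((injSeq G).map R).f
  let ιK : cokernel ((injSeq G).map R).f ⟶ R.obj (injSeq G).X₃ :=
    cokernel.desc _ ((injSeq G).map R).g ((injSeq G).map R).zero
  haveI : Mono ιK := hRex.mono_cokernelDesc
  have hπι : πK ≫ ιK = R.map (injSeq G).g := cokernel.π_desc _ _ _
  let S' : ShortComplex B := ShortComplex.mk ((injSeq G).map R).f πK (cokernel.condition _)
  have hS' : S'.ShortExact :=
    { exact := ShortComplex.exact_of_g_is_cokernel _ (cokernelIsCokernel _)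
      mono_f := inferInstanceAs (Mono (R.map (injSeq G).f))
      epi_g := inferInstanceAs (Epi (cokernel.π _)) }
  haveI : Injective S'.X₂ := inferInstanceAs (Injective (R.obj (injSeq G).X₂))
  obtain ⟨z, hz⟩ := Ext.covariant_sequence_exact₁ P hS' x (Ext.eq_zero_of_injective _) rfl
  obtain ⟨φ, rfl⟩ := (Ext.mk₀_bijective _ _).2 z
  subst hz
  let m : S'.map L ⟶ injSeq G :=
    { τ₁ := adj.counit.app _
      τ₂ := adj.counit.app _
      τ₃ := L.map ιK ≫ adj.counit.app _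
      comm₁₂ := (adj.counit.naturality (injSeq G).f).symm
      comm₂₃ := by
        show adj.counit.app _ ≫ (injSeq G).g = L.map πK ≫ L.map ιK ≫ adj.counit.app _
        rw [← L.map_comp_assoc, hπι]
        exact (adj.counit.naturality (injSeq G).g).symm }
  have hn := ShortComplex.ShortExact.extClass_naturality (hS'.map_of_exact L) hS m
  have e : U adj c G 1 (Ext.comp (Ext.mk₀ φ) hS'.extClass rfl) =
      (Ext.mk₀ (c ≫ (adj.homEquiv _ _).symm (φ ≫ ιK))).comp hS.extClass rfl := by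
    rw [U_apply]
    erw [T_comp, T_mk₀, Ext.mapExactFunctor_extClass L hS']
    rw [Ext.comp_assoc (a₂₃ := 1) _ _ _ rfl (add_zero 1) (by lia)]
    refine (congrArg (fun t => (Ext.mk₀ (c ≫ L.map φ)).comp t rfl) hn).trans ?_
    refine (Ext.comp_assoc (a₁₂ := 0) _ _ _ (add_zero 0) (zero_add 1) (by lia)).symm.trans ?_
    rw [Ext.mk₀_comp_mk₀]
    refine congrArg (fun t => (Ext.mk₀ t).comp hS.extClass rfl) ?_
    show (c ≫ L.map φ) ≫ L.map ιK ≫ adj.counit.app _ = _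
    rw [Adjunction.homEquiv_counit, L.map_comp]
    simp only [Category.assoc]
  obtain ⟨v, hv⟩ := Ext.covariant_sequence_exact₃ Q hS _ rfl (e.symm.trans hx)
  obtain ⟨v₀, rfl⟩ := (Ext.mk₀_bijective _ _).2 v
  rw [Ext.mk₀_comp_mk₀] at hv
  have hv' : v₀ ≫ (injSeq G).g = c ≫ (adj.homEquiv _ _).symm (φ ≫ ιK) := (Ext.mk₀_bijective _ _).1 hv
  have hφ : φ = adj.homEquiv _ _ (inv c ≫ v₀) ≫ πK := by
    rw [← cancel_mono ιK, Category.assoc, hπι, ← adj.homEquiv_naturality_right, Category.assoc, hv',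
      IsIso.inv_hom_id_assoc, Equiv.apply_symm_apply]
  rw [hφ, ← Ext.mk₀_comp_mk₀, Ext.comp_assoc (a₂₃ := 1) _ _ _ (add_zero 0) (zero_add 1) (by lia)]
  exact (congrArg (fun t => (Ext.mk₀ _).comp t rfl) hS'.comp_extClass).trans (Ext.comp_zero _ _ _ _ _)

theorem U_bounded (n : ℕ) : ∀ G : A, (∀ q : ℕ, q < n → IsZero ((R.rightDerived (q + 1)).obj G)) →
    (∀ k : ℕ, k ≤ n → Function.Bijective (U adj c G k)) ∧ Function.Injective (U adj c G (n + 1)) := by
  induction n with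
  | zero =>
    intro G _
    exact ⟨fun k hk => by obtain rfl := Nat.le_zero.1 hk; exact U_zero_bijective adj c G, U_one_injective adj c G⟩
  | succ n ih =>
    intro G hG
    have hS := injSeq_shortExact G
    have hR := shortExact_map adj hS (hG 0 (Nat.succ_pos n))
    obtain ⟨bI, -⟩ := ih (injSeq G).X₂ fun q _ => R.isZero_rightDerived_obj_injective_succ q _
    obtain ⟨bQ, iQ⟩ := ih (injSeq G).X₃ fun q hq => isZero_rightDerived_X₃ hS q (hG (q + 1) (Nat.succ_lt_succ hq))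
    haveI : Injective ((injSeq G).map R).X₂ := inferInstanceAs (Injective (R.obj (injSeq G).X₂))
    have hinj : ∀ k, Function.Surjective (U adj c (injSeq G).X₂ k) → Function.Injective (U adj c (injSeq G).X₃ k) →
        Function.Injective (U adj c G (k + 1)) := by
      intro k sI iQk
      refine (injective_iff_map_eq_zero _).2 fun x hx => ?_
      obtain ⟨z, rfl⟩ := Ext.covariant_sequence_exact₁ P hR x (Ext.eq_zero_of_injective _) rfl
      have hx' : (U adj c (injSeq G).X₃ k z).comp hS.extClass rfl = 0 :=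
        (U_comp_extClass adj c hS hR rfl z).symm.trans hx
      obtain ⟨v, hv⟩ := Ext.covariant_sequence_exact₃ Q hS _ rfl hx'
      obtain ⟨v', rfl⟩ := sI v
      rw [← U_comp_mk₀] at hv
      rw [← iQk hv]
      exact Ext.comp_assoc_of_second_deg_zero _ _ _ _ |>.trans
        ((congrArg (fun t => v'.comp t rfl) (hR.comp_extClass)).trans (Ext.comp_zero _ _ _ _ _))
    refine ⟨fun k hk => ?_, hinj (n + 1) (fun v => ⟨0, (map_zero _).trans (Ext.eq_zero_of_injective v).symm⟩) iQ⟩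
    rcases k with _ | k
    · exact U_zero_bijective adj c G
    · refine ⟨hinj k (bI k (by lia)).2 (bQ k (by lia)).1, fun y => ?_⟩
      obtain ⟨z, hz⟩ := Ext.covariant_sequence_exact₁ Q hS y (Ext.eq_zero_of_injective _) rfl
      obtain ⟨z', rfl⟩ := (bQ k (by lia)).2 z
      exact ⟨z'.comp hR.extClass rfl, (U_comp_extClass adj c hS hR rfl z').trans hz⟩

theorem transfer {X₀ N₁ N₂ M N₃ N₄ : A} {n : ℕ} (a : Ext X₀ N₁ n) (b : Ext X₀ N₂ n) (t : Ext X₀ M n) (i : N₁ ⟶ M)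
    (j : N₂ ⟶ M) (j' : M ⟶ N₂) (hj : j ≫ j' = 𝟙 N₂) (ha : a.comp (Ext.mk₀ i) (add_zero n) = t)
    (hb : b.comp (Ext.mk₀ j) (add_zero n) = t) (p : N₂ ⟶ N₃) (q : N₃ ⟶ N₄) (o : N₁ ⟶ N₄)
    (hc : i ≫ j' ≫ p ≫ q = o) :
    a.comp (Ext.mk₀ o) (add_zero n) =
      (b.comp (Ext.mk₀ p) (add_zero n)).comp (Ext.mk₀ q) (add_zero n) := by
  rw [← hc, ← Ext.mk₀_comp_mk₀ i, ← Ext.comp_assoc_of_second_deg_zero, ha, ← hb]
  simp only [Ext.comp_assoc_of_second_deg_zero, Ext.mk₀_comp_mk₀]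
  rw [← Category.assoc j, hj, Category.id_comp]

end Generic

attribute [local instance 100000] EtCoh.H._proof_1 Groth.Agent.EtMV.hext
attribute [local instance 200000] Groth.Agent.EtMV.hextAb

variable {X Y : Scheme.{u}} (f : X ⟶ Y) [PreservesFiniteLimits (EtCoh.pull f)]

theorem HofPush_bounded (F : EtCoh.Ab X) (n : ℕ) (hR : ∀ q : ℕ, q < n → IsZero ((EtCoh.Rpush f (q + 1)).obj F)) :
    (∀ k : ℕ, k ≤ n → Function.Bijective (EtLim.HofPush f F k)) ∧
      Function.Injective (EtLim.HofPush f F (n + 1)) := by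
  haveI := EtMV.push_preservesInjective f
  haveI := EtMV.isIso_pc f
  obtain ⟨hb, hi⟩ := U_bounded (EtCoh.pullPushAdj f) (EtMV.pc f) n F hR
  refine ⟨fun k hk => ?_, ?_⟩
  · exact (funext (EtMV.HofPush_eq f F k) : (⇑(EtLim.HofPush f F k)) = _) ▸
      (((EtMV.toH X F k).bijective.comp (hb k hk)).comp (EtMV.toH Y _ k).symm.bijective)
  · exact (funext (EtMV.HofPush_eq f F (n + 1)) : (⇑(EtLim.HofPush f F (n + 1))) = _) ▸
      (((EtMV.toH X F _).injective.comp hi).comp (EtMV.toH Y _ _).symm.injective)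

theorem HofPush_zero_bijective (F : EtCoh.Ab X) : Function.Bijective (EtLim.HofPush f F 0) :=
  (HofPush_bounded f F 0 fun q hq => absurd hq (Nat.not_lt_zero q)).1 0 le_rfl

theorem subsingleton_H_of_cac [CompactSpace X] [QuasiSeparatedSpace X] (G : EtCoh.Ab X) (hG : EtColimH.CAc G) (q : ℕ) :
    Subsingleton (EtCoh.H X G (q + 1)) :=
  EtColimH.subsingleton_ext_of_cac (W := EtCoh.top X) ⟨‹_›, ‹_›⟩ _ (EtColimH.constEquiv X) (fun φ ψ => rfl) q G hG

theorem exponents (L : Set ℕ) : EtColimH.Exponents (EtAcyc.PrimesIn L) :=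
  ⟨fun h => h.1, ⟨Nat.one_pos, fun p hp h1 => absurd (Nat.dvd_one.1 h1) hp.ne_one⟩,
    fun ha hb => ⟨Nat.mul_pos ha.1 hb.1, fun p hp h => (hp.dvd_mul.1 h).elim (ha.2 p hp) (hb.2 p hp)⟩⟩

theorem exists_hullL (L : Set ℕ) {F : EtCoh.Ab X} (hF : EtAcyc.IsLTorsion L F) :
    ∃ (G : EtCoh.Ab X) (e : F ⟶ G), Mono e ∧ EtColimH.CAc G ∧ EtAcyc.IsLTorsion L G :=
  EtColimH.exists_acyclic_hull (exponents L) hF

theorem mapH_eq {F G : EtCoh.Ab X} (u : F ⟶ G) (n : ℕ) (x : EtCoh.H X F n) :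
    ((EtCoh.HF X n).map u).hom x = Ext.comp x (Ext.mk₀ u) (add_zero n) := rfl

section Square

variable {X' Y' : Scheme.{u}} (g : Y' ⟶ Y) (f' : X' ⟶ Y') (g' : X' ⟶ X) (w : g' ≫ f = f' ≫ g) (F : EtCoh.Ab X)

theorem left_fst_snd {V : Y.Etale} {o' : X'.Etale} (a : o' ⟶ (EtCoh.bc g').obj ((EtCoh.bc f).obj V)) :
    (a.left ≫ fstE g' ((EtCoh.bc f).obj V)) ≫ pullback.snd V.hom f = o'.hom ≫ g' :=
  EtLimit.left_cond g' a

theorem bc₂_hom_ext {V : Y.Etale} {o' : X'.Etale} {a b : o' ⟶ (EtCoh.bc g').obj ((EtCoh.bc f).obj V)}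
    (h : a.left ≫ fstE g' ((EtCoh.bc f).obj V) ≫ fstE f V = b.left ≫ fstE g' ((EtCoh.bc f).obj V) ≫ fstE f V) :
    a = b := by
  refine EtLimit.bc_hom_ext g' _ _ (pullback.hom_ext ?_ ((left_fst_snd f g' a).trans (left_fst_snd f g' b).symm))
  exact (Category.assoc _ _ _).trans (h.trans (Category.assoc _ _ _).symm)

theorem swap_id (V : Y.Etale) (δ : (EtCoh.bc g').obj ((EtCoh.bc f).obj V) ⟶ (EtCoh.bc f').obj ((EtCoh.bc g).obj V))
    (hδ : δ.left ≫ fstE f' ((EtCoh.bc g).obj V) ≫ fstE g V = fstE g' ((EtCoh.bc f).obj V) ≫ fstE f V) :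
    δ ≫ EtIntegral.bcSwap f g f' g' w V = 𝟙 _ := by
  refine bc₂_hom_ext f g' (Eq.trans ?_ (EtLimit.id_left_comp _).symm)
  exact (Category.assoc _ _ _).trans ((congrArg (δ.left ≫ ·) (EtIntegral.bcSwap_fst f g f' g' w V)).trans hδ)

theorem map_r {S S' : Scheme.{u}} (h : S' ⟶ S) (G : EtCoh.Ab S) {o : S.Etale} {o' o'' : S'.Etale}
    (q : o' ⟶ (EtCoh.bc h).obj o) (δ : o'' ⟶ o') (s : EtCoh.sect G o) :
    ((EtCoh.pull h).obj G).obj.map δ.op (EtMV.r h q G s) = EtMV.r h (δ ≫ q) G s := by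
  rw [EtMV.r, EtMV.r, op_comp, Functor.map_comp, ConcreteCategory.comp_apply]

/-- the inverse comparison, typed with nested inverse images -/
def ψhi {W V S : Scheme.{u}} (ι : W ⟶ V) (h : V ⟶ S) (k : W ⟶ S) (e : ι ≫ h = k) (G : EtCoh.Ab S) :
    (EtCoh.pull k).obj G ⟶ (EtCoh.pull ι).obj ((EtCoh.pull h).obj G) :=
  (EtMV.ψ ι h k e).inv.app G

theorem ψh_ψhi {W V S : Scheme.{u}} (ι : W ⟶ V) (h : V ⟶ S) (k : W ⟶ S) (e : ι ≫ h = k) (G : EtCoh.Ab S) :
    EtLimit.ψh ι h k e G ≫ ψhi ι h k e G = 𝟙 _ :=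
  (EtMV.ψ ι h k e).hom_inv_id_app G

theorem cancel_app {S : Scheme.{u}} {A B : EtCoh.Ab S} (a : A ⟶ B) (b : B ⟶ A) (h : a ≫ b = 𝟙 A) (o : S.Etale)
    (x : EtCoh.sect A o) : b.hom.app (op o) (a.hom.app (op o) x) = x :=
  ConcreteCategory.congr_hom (congr_app (congrArg (fun z => z.hom) h) (op o)) x

theorem r_comp_h {W V S : Scheme.{u}} (ι : W ⟶ V) (h : V ⟶ S) (k : W ⟶ S) (e : ι ≫ h = k) {o : S.Etale}
    {o' : V.Etale} {o'' : W.Etale} (δ₁ : o' ⟶ (EtCoh.bc h).obj o) (δ₂ : o'' ⟶ (EtCoh.bc ι).obj o')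
    (δ₃ : o'' ⟶ (EtCoh.bc k).obj o)
    (hc : δ₂.left ≫ fstE ι o' ≫ δ₁.left ≫ fstE h o = δ₃.left ≫ fstE k o) (G : EtCoh.Ab S) (s : EtCoh.sect G o) :
    (EtLimit.ψh ι h k e G).hom.app (op o'') (EtMV.r ι δ₂ _ (EtMV.r h δ₁ G s)) = EtMV.r k δ₃ G s :=
  EtLimit.r_comp' ι h k e δ₁ δ₂ δ₃ hc G s

theorem ψψ_r (G : EtCoh.Ab Y) (o : Y.Etale) (s : EtCoh.sect G o)
    (δ : (EtCoh.bc g').obj ((EtCoh.bc f).obj o) ⟶ (EtCoh.bc f').obj ((EtCoh.bc g).obj o))
    (hδ : δ.left ≫ fstE f' ((EtCoh.bc g).obj o) ≫ fstE g o = fstE g' ((EtCoh.bc f).obj o) ≫ fstE f o) :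
    (ψhi f' g (f' ≫ g) rfl G).hom.app (op ((EtCoh.bc g').obj ((EtCoh.bc f).obj o)))
      ((EtLimit.ψh g' f (f' ≫ g) w G).hom.app (op ((EtCoh.bc g').obj ((EtCoh.bc f).obj o)))
        (EtMV.r g' (𝟙 _) _ (EtMV.r f (𝟙 ((EtCoh.bc f).obj o)) G s))) =
      EtMV.r f' δ _ (EtMV.r g (𝟙 ((EtCoh.bc g).obj o)) G s) := by
  let o₁ := (EtCoh.bc f).obj o
  let o₂ := (EtCoh.bc g').obj o₁
  have hm₁ : (fstE g' o₁ ≫ fstE f o) ≫ o.hom = o₂.hom ≫ f' ≫ g :=
    (EtLimit.w_comp g' (fstE f o) f pullback.condition).trans (congrArg _ w)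
  let d : o₂ ⟶ (EtCoh.bc (f' ≫ g)).obj o := EtLimit.hm (f' ≫ g) o o₂ (fstE g' o₁ ≫ fstE f o) hm₁
  have hd : d.left ≫ fstE (f' ≫ g) o = fstE g' o₁ ≫ fstE f o := EtLimit.hm_fst _ _ _ _ _
  have e₁ := r_comp_h g' f (f' ≫ g) w (𝟙 o₁) (𝟙 o₂) d
    (by rw [EtLimit.id_left_comp, EtLimit.id_left_comp, hd]) G s
  have e₂ := r_comp_h f' g (f' ≫ g) rfl (𝟙 _) δ d (by rw [EtLimit.id_left_comp, hd]; exact hδ) G s
  exact (congrArg ((ψhi f' g (f' ≫ g) rfl G).hom.app (op o₂)) (e₁.trans e₂.symm)).trans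
    (cancel_app _ _ (ψh_ψhi f' g (f' ≫ g) rfl G) o₂ _)

theorem bc0_r (o : Y.Etale) (s : EtCoh.sect ((EtCoh.push f).obj F) o) :
    (EtCoh.baseChange0 f g f' g' w F).hom.app (op ((EtCoh.bc g).obj o))
      (EtMV.r g (𝟙 ((EtCoh.bc g).obj o)) _ s) = EtMV.r g' (EtIntegral.bcSwap f g f' g' w o) F s := by
  refine Eq.trans ?_ (EtIntegral.baseChange0_unit f g f' g' w F o s)
  rw [EtMV.r, op_id, CategoryTheory.Functor.map_id]
  rfl

theorem map_counit_r {S S' : Scheme.{u}} (h : S' ⟶ S) {G : EtCoh.Ab S} {H : EtCoh.Ab S'}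
    (φ : G ⟶ (EtCoh.push h).obj H) {o : S.Etale} {o' : S'.Etale} (q : o' ⟶ (EtCoh.bc h).obj o) (s : EtCoh.sect G o) :
    ((EtCoh.pull h).map φ ≫ (EtCoh.pullPushAdj h).counit.app H).hom.app (op o') (EtMV.r h q G s) =
      H.obj.map q.op (φ.hom.app (op o) s) :=
  (EtLimit.comp_app_apply _ _ _ _).trans ((congrArg (((EtCoh.pullPushAdj h).counit.app H).hom.app (op o'))
    (EtMV.r_natural h q φ s)).trans (EtLimit.r_counit h H q _))

theorem counit_r_id (o : Y.Etale) (s : EtCoh.sect ((EtCoh.push f).obj F) o) :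
    ((EtCoh.pullPushAdj f).counit.app F).hom.app (op ((EtCoh.bc f).obj o))
      (EtMV.r f (𝟙 ((EtCoh.bc f).obj o)) _ s) = s := by
  refine (EtLimit.r_counit f F (𝟙 _) s).trans ?_
  rw [op_id, CategoryTheory.Functor.map_id]
  rfl

theorem bc0_counit :
    EtLimit.ψh g' f (f' ≫ g) w ((EtCoh.push f).obj F) ≫
        ψhi f' g (f' ≫ g) rfl ((EtCoh.push f).obj F) ≫
        (EtCoh.pull f').map (EtCoh.baseChange0 f g f' g' w F) ≫
        (EtCoh.pullPushAdj f').counit.app ((EtCoh.pull g').obj F) =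
      (EtCoh.pull g').map ((EtCoh.pullPushAdj f).counit.app F) := by
  refine ((EtCoh.pullPushAdj g').homEquiv _ _).injective (EtLimit.pull_hom_ext f fun o s => ?_)
  refine (EtLimit.homEquiv_app g' _ _ _).trans (Eq.trans ?_ (EtLimit.homEquiv_app g' _ _ _).symm)
  let o₁ := (EtCoh.bc f).obj o
  let o₂ := (EtCoh.bc g').obj o₁
  have hm₁ : (fstE g' o₁ ≫ fstE f o) ≫ o.hom = o₂.hom ≫ f' ≫ g :=
    (EtLimit.w_comp g' (fstE f o) f pullback.condition).trans (congrArg _ w)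
  let m : o₂.left ⟶ ((EtCoh.bc g).obj o).left :=
    pullback.lift (fstE g' o₁ ≫ fstE f o) (o₂.hom ≫ f') (by rw [hm₁, Category.assoc])
  let δ : o₂ ⟶ (EtCoh.bc f').obj ((EtCoh.bc g).obj o) := EtLimit.hm f' _ o₂ m (pullback.lift_snd _ _ _)
  have hδ : δ.left ≫ fstE f' ((EtCoh.bc g).obj o) ≫ fstE g o = fstE g' o₁ ≫ fstE f o := by
    rw [← Category.assoc]
    exact (congrArg (· ≫ fstE g o) (EtLimit.hm_fst f' _ o₂ m _)).trans (pullback.lift_fst _ _ _)
  have hl := (congrArg (((EtCoh.pull f').map (EtCoh.baseChange0 f g f' g' w F) ≫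
      (EtCoh.pullPushAdj f').counit.app ((EtCoh.pull g').obj F)).hom.app (op o₂))
      (ψψ_r f g f' g' w ((EtCoh.push f).obj F) o s δ hδ)).trans
    ((map_counit_r f' (EtCoh.baseChange0 f g f' g' w F) δ _).trans
      ((congrArg (((EtCoh.pull g').obj F).obj.map δ.op) (bc0_r f g f' g' w F o s)).trans
        ((map_r g' F _ δ s).trans (congrArg (fun q => EtMV.r g' q F s) (swap_id f g f' g' w o δ hδ)))))
  refine Eq.trans ?_ (hl.trans ((EtMV.r_natural g' (𝟙 o₂) ((EtCoh.pullPushAdj f).counit.app F)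
    (EtMV.r f (𝟙 o₁) _ s)).trans (congrArg (EtMV.r g' (𝟙 o₂) F) (counit_r_id f F o s))).symm)
  exact (EtLimit.comp_app_apply _ _ _ _).trans (EtLimit.comp_app_apply _ _ _ _)

theorem Hpull_HofPush [PreservesFiniteLimits (EtCoh.pull g)] [PreservesFiniteLimits (EtCoh.pull f')]
    [PreservesFiniteLimits (EtCoh.pull g')] (q : ℕ) (ζ : EtCoh.H Y ((EtCoh.push f).obj F) q) :
    EtCore.Hpull g' F q (EtLim.HofPush f F q ζ) =
      EtLim.HofPush f' ((EtCoh.pull g').obj F) q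
        (((EtCoh.HF Y' q).map (EtCoh.baseChange0 f g f' g' w F)).hom (EtCore.Hpull g ((EtCoh.push f).obj F) q ζ)) := by
  haveI : PreservesFiniteLimits (EtCoh.pull (f' ≫ g)) := EtCohDesc.pull_preservesFiniteLimits _
  have h₁ := EtMV.T_T_pull g' f (f' ≫ g) (EtMV.ψ g' f (f' ≫ g) w) (EtCore.pullConst f ℤ).inv
    (EtCore.pullConst g' ℤ).inv (EtCore.pullConst (f' ≫ g) ℤ).inv (EtLimit.pullConst_comp g' f (f' ≫ g) w) q
    ((EtCoh.push f).obj F) ζ
  have h₂ := EtMV.T_T_pull f' g (f' ≫ g) (EtMV.ψ f' g (f' ≫ g) rfl) (EtCore.pullConst g ℤ).inv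
    (EtCore.pullConst f' ℤ).inv (EtCore.pullConst (f' ≫ g) ℤ).inv (EtLimit.pullConst_comp f' g (f' ≫ g) rfl) q
    ((EtCoh.push f).obj F) ζ
  show T (EtCoh.pull g') (EtCore.pullConst g' ℤ).inv F q
      (Ext.comp (T (EtCoh.pull f) (EtCore.pullConst f ℤ).inv _ q ζ) (Ext.mk₀ ((EtCoh.pullPushAdj f).counit.app F))
        (add_zero q)) =
    Ext.comp (T (EtCoh.pull f') (EtCore.pullConst f' ℤ).inv _ q
        (Ext.comp (T (EtCoh.pull g) (EtCore.pullConst g ℤ).inv _ q ζ)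
          (Ext.mk₀ (EtCoh.baseChange0 f g f' g' w F)) (add_zero q)))
      (Ext.mk₀ ((EtCoh.pullPushAdj f').counit.app ((EtCoh.pull g').obj F))) (add_zero q)
  have l₁ := EtMV.T_comp_mk₀ (EtCoh.pull g') (EtCore.pullConst g' ℤ).inv
    (T (EtCoh.pull f) (EtCore.pullConst f ℤ).inv ((EtCoh.push f).obj F) q ζ) ((EtCoh.pullPushAdj f).counit.app F)
  have l₂ := EtMV.T_comp_mk₀ (EtCoh.pull f') (EtCore.pullConst f' ℤ).inv
    (T (EtCoh.pull g) (EtCore.pullConst g ℤ).inv ((EtCoh.push f).obj F) q ζ) (EtCoh.baseChange0 f g f' g' w F)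
  refine l₁.trans (Eq.trans ?_ (congrArg
    (fun t => Ext.comp t (Ext.mk₀ ((EtCoh.pullPushAdj f').counit.app ((EtCoh.pull g').obj F))) (add_zero q))
    l₂).symm)
  exact transfer _ _ _ (EtLimit.ψh g' f (f' ≫ g) w ((EtCoh.push f).obj F))
    (EtLimit.ψh f' g (f' ≫ g) rfl ((EtCoh.push f).obj F)) (ψhi f' g (f' ≫ g) rfl ((EtCoh.push f).obj F))
    (ψh_ψhi f' g (f' ≫ g) rfl _) h₁ h₂ _ _ _ (bc0_counit f g f' g' w F)

end Square

end Groth.Agent.EtAcycX
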