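import Groth.Agent.EtAcycX.LocFib
import Groth.Prelude.Def_EtRestW
import Mathlib

/-! Local acyclicity for constant coefficients in terms of geometric fibres. -/

set_option autoImplicit false
set_option backward.isDefEq.respectTransparency false
set_option backward.isDefEq.respectTransparency.types false
set_option linter.unusedSectionVars false
set_option linter.auxLemma false
set_option linter.overlappingInstances false
set_option linter.style.haveILetI false
set_option maxHeartbeats 1000000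

universe u

open CategoryTheory CategoryTheory.Limits CategoryTheory.Abelian AlgebraicGeometry Opposite IsLocalRing
open scoped TensorProduct

noncomputable section

namespace Groth.Agent.EtAcycX

attribute [local instance 100000] EtCoh.H._proof_1 Groth.Agent.EtMV.hext
attribute [local instance 200000] Groth.Agent.EtMV.hextAb
attribute [local instance 300000] CategoryTheory.Preadditive.preadditiveHasZeroMorphisms
  CategoryTheory.Abelian.toPreadditive

theorem card_sect_top_const {W : Scheme.{u}} {M : Type} [AddCommGroup M]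
    (h : Nonempty (EtCoh.H W (EtCoh.const W M) 0 ≃+ M)) :
    Nat.card (EtCoh.sect (EtCoh.const W M) (EtCoh.top W)) = Nat.card M := by
  rw [← card_H_zero]
  exact Nat.card_congr h.some.toEquiv

/-- nonempty connected schemes from the cohomology of `ℤ/n` -/
theorem nonempty_connected_of_H_zero {W : Scheme.{u}} {n : ℕ} (hn : 1 < n)
    (h : Nonempty (EtCoh.H W (EtCoh.const W (ZMod n)) 0 ≃+ ZMod n)) : Nonempty W ∧ ConnectedSpace W := by
  have h1 : 1 < Nat.card (ZMod n) := by rwa [Nat.card_zmod]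
  exact ⟨nonempty_of_card h1 (card_sect_top_const h), connectedSpace_of_card h1 (card_sect_top_const h)⟩

section VC

variable (RS RX : Type u) [CommRing RS] [CommRing RX] [Algebra RS RX]

/-- geometric fibres of a map of spectra are spectra of tensor products -/
theorem acyclicScheme_fibre (y : Spec (CommRingCat.of RS)) (Ω : Type u) [Field Ω]
    [Algebra ((Spec (CommRingCat.of RS)).residueField y) Ω] {L : Set ℕ} {n : ℕ}
    (h : ∀ (_ : Algebra RS Ω), EtAcyc.IsAcyclicSchemeN L n (Spec (CommRingCat.of (RX ⊗[RS] Ω)))) :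
    EtAcyc.IsAcyclicSchemeN L n
      (pullback (Spec.map (CommRingCat.ofHom (algebraMap RS RX))) (EtAcyc.geomPt (Spec (CommRingCat.of RS)) y Ω)) := by
  obtain ⟨τ, hτ⟩ := Spec.map_surjective (EtAcyc.geomPt (Spec (CommRingCat.of RS)) y Ω)
  letI : Algebra RS Ω := τ.hom.toAlgebra
  have e : Spec.map (CommRingCat.ofHom (algebraMap RS Ω)) = EtAcyc.geomPt (Spec (CommRingCat.of RS)) y Ω := hτ
  exact isAcyclicSchemeN_of_iso ((pullbackSpecIso RS RX Ω).symm ≪≫ pullback.congrHom rfl e) (h τ.hom.toAlgebra)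

end VC

/-- a locally acyclic morphism has acyclic geometric fibres on strict localisations -/
theorem onStrict_of_isLocallyAcyclic {X S : Scheme.{u}} {f : X ⟶ S} (hf : EtRest.IsLocallyAcyclic f) {L : Set ℕ}
    (hL : ∀ ℓ ∈ L, ℓ.Prime → ∀ x : X, (ℓ : X.residueField x) ≠ 0) (hne : ∀ x : X, ∃ n : ℕ, 1 < n ∧ (n : X.residueField x) ≠ 0)
    (m : ℕ) : EtAcyc.OnStrictLocalizations f (fun _ _ g => EtAcyc.GeomFibresAcyclicN L m g) := by
  intro x RS RX _ _ _ _ _ _ _ _ _ _ _ _ hc y Ω _ _ _ _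
  refine acyclicScheme_fibre RS RX y Ω fun alg => ?_
  letI := alg
  obtain ⟨n₀, hn₀, hn₀x⟩ := hne x
  obtain ⟨h1, h2⟩ := nonempty_connected_of_H_zero hn₀ (hf x RS RX hc Ω n₀ hn₀x).2
  exact ⟨h1, h2, fun ℓ hℓ hℓL q hq _ => (hf x RS RX hc Ω ℓ (hL ℓ hℓL hℓ x)).1 q hq⟩

section Devissage

variable {W : Scheme.{u}}

theorem exists_shortExact_zmod {a b n : ℕ} [NeZero a] [NeZero b] (hab : a * b = n) :
    ∃ S : ShortComplex (EtCoh.Ab W), S.ShortExact ∧ S.X₁ = EtCoh.const W (ZMod a) ∧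
      S.X₂ = EtCoh.const W (ZMod n) ∧ S.X₃ = EtCoh.const W (ZMod b) := by
  subst hab
  let i : ZMod a →+ ZMod (a * b) := ZMod.lift a ⟨(Int.castAddHom (ZMod (a * b))).comp (AddMonoidHom.mulLeft (b : ℤ)), by
    show (((b : ℤ) * (a : ℤ) : ℤ) : ZMod (a * b)) = 0
    rw [mul_comm, ← Int.natCast_mul, Int.cast_natCast, ZMod.natCast_self]⟩
  let p : ZMod (a * b) →+ ZMod b := (ZMod.castHom (dvd_mul_left b a) (ZMod b)).toAddMonoidHom
  have hi : ∀ k : ℤ, i (k : ZMod a) = ((b * k : ℤ) : ZMod (a * b)) := fun k => ZMod.lift_coe a _ k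
  have hinj : Function.Injective i := by
    refine (injective_iff_map_eq_zero i).2 fun x hx => ?_
    obtain ⟨k, rfl⟩ := ZMod.intCast_surjective x
    rw [hi, ZMod.intCast_zmod_eq_zero_iff_dvd] at hx
    rw [ZMod.intCast_zmod_eq_zero_iff_dvd]
    rw [Nat.cast_mul, mul_comm (a : ℤ) (b : ℤ)] at hx
    exact (mul_dvd_mul_iff_left (Int.natCast_ne_zero.2 (NeZero.ne b))).1 hx
  have hex : ∀ x, p x = 0 ↔ ∃ y, i y = x := by
    intro x
    obtain ⟨k, rfl⟩ := ZMod.intCast_surjective x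
    constructor
    · intro h
      rw [show p (k : ZMod (a * b)) = (k : ZMod b) from map_intCast (ZMod.castHom (dvd_mul_left b a) (ZMod b)) k, ZMod.intCast_zmod_eq_zero_iff_dvd] at h
      obtain ⟨c, rfl⟩ := h
      exact ⟨(c : ZMod a), hi c⟩
    · rintro ⟨y, hy⟩
      obtain ⟨c, rfl⟩ := ZMod.intCast_surjective y
      rw [← hy, hi, show p ((b * c : ℤ) : ZMod (a * b)) = ((b * c : ℤ) : ZMod b) from map_intCast (ZMod.castHom (dvd_mul_left b a) (ZMod b)) _]
      simp
  let A := AddCommGrpCat.ofHom (X := ULift.{u + 1} (ZMod a)) (Y := ULift.{u + 1} (ZMod (a * b)))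
    (AddEquiv.ulift.symm.toAddMonoidHom.comp (i.comp AddEquiv.ulift.toAddMonoidHom))
  let B := AddCommGrpCat.ofHom (X := ULift.{u + 1} (ZMod (a * b))) (Y := ULift.{u + 1} (ZMod b))
    (AddEquiv.ulift.symm.toAddMonoidHom.comp (p.comp AddEquiv.ulift.toAddMonoidHom))
  have hzero : A ≫ B = 0 := by
    ext ⟨x⟩
    exact (hex (i x)).2 ⟨x, rfl⟩
  let S₀ : ShortComplex AddCommGrpCat.{u + 1} := ShortComplex.mk A B hzero
  haveI : Mono S₀.f := (AddCommGrpCat.mono_iff_injective A).2 fun x y h =>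
    ULift.ext _ _ (hinj (congrArg ULift.down h))
  haveI : Epi S₀.g := (AddCommGrpCat.epi_iff_surjective B).2 fun ⟨y⟩ => by
    obtain ⟨k, rfl⟩ := ZMod.intCast_surjective y
    exact ⟨⟨(k : ZMod (a * b))⟩, congrArg ULift.up (map_intCast (ZMod.castHom (dvd_mul_left b a) (ZMod b)) k)⟩
  have hS₀ : S₀.ShortExact :=
    { exact := (ShortComplex.ab_exact_iff S₀).2 fun x hx => by
        obtain ⟨y, hy⟩ := (hex x.down).1 (congrArg ULift.down hx)
        exact ⟨⟨y⟩, ULift.ext _ _ hy⟩ }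
  haveI : PreservesFiniteLimits (constantSheaf W.smallEtaleTopology AddCommGrpCat.{u + 1}) :=
    comp_preservesFiniteLimits _ _
  haveI : PreservesFiniteColimits (constantSheaf W.smallEtaleTopology AddCommGrpCat.{u + 1}) :=
    haveI := (EtCore.constAdj W).leftAdjoint_preservesColimits
    inferInstance
  exact ⟨S₀.map (constantSheaf W.smallEtaleTopology AddCommGrpCat.{u + 1}), hS₀.map_of_exact _, rfl, rfl, rfl⟩

/-- acyclicity for `ℤ/n` gives acyclicity for every prime divisor -/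
theorem acyclicScheme_of_zmod [ConnectedSpace W] {n : ℕ} (hn : 0 < n)
    (h : ∀ q : ℕ, Subsingleton (EtCoh.H W (EtCoh.const W (ZMod n)) (q + 1))) :
    ∀ (q d : ℕ), d ∣ n → Subsingleton (EtCoh.H W (EtCoh.const W (ZMod d)) (q + 1)) := by
  intro q
  induction q with
  | zero =>
    rintro d ⟨b, rfl⟩
    obtain ⟨hd, hb⟩ := Nat.pos_of_mul_pos_right hn, Nat.pos_of_mul_pos_left hn
    haveI : NeZero d := ⟨(Nat.pos_of_mul_pos_right hn).ne'⟩
    haveI : NeZero b := ⟨(Nat.pos_of_mul_pos_left hn).ne'⟩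
    obtain ⟨S, hS, e₁, e₂, e₃⟩ := exists_shortExact_zmod (W := W) (a := d) (b := b) rfl
    rw [← e₁]
    have hc1 : Nat.card ((EtCoh.HF W 0).obj S.X₁) = d := by
      rw [e₁]; exact (card_H_zero _).trans (card_sect_const.trans (Nat.card_zmod d))
    have hc2 : Nat.card ((EtCoh.HF W 0).obj S.X₂) = d * b := by
      rw [e₂]; exact (card_H_zero _).trans (card_sect_const.trans (Nat.card_zmod _))
    have hc3 : Nat.card ((EtCoh.HF W 0).obj S.X₃) = b := by
      rw [e₃]; exact (card_H_zero _).trans (card_sect_const.trans (Nat.card_zmod b))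
    haveI : Finite ((EtCoh.HF W 0).obj S.X₂) := Nat.finite_of_card_ne_zero (by rw [hc2]; exact hn.ne')
    haveI : Finite ((EtCoh.HF W 0).obj S.X₁) := Nat.finite_of_card_ne_zero (by rw [hc1]; exact NeZero.ne d)
    haveI : Finite ((EtCoh.HF W 0).obj S.X₃) := Nat.finite_of_card_ne_zero (by rw [hc3]; exact NeZero.ne b)
    let g : (EtCoh.HF W 0).obj S.X₂ →+ (EtCoh.HF W 0).obj S.X₃ := ((EtCoh.HF W 0).map S.g).hom
    have hker : Nat.card g.ker ≤ d := by
      rw [← hc1]
      refine Nat.card_le_card_of_surjective (fun x => ⟨((EtCoh.HF W 0).map S.f).hom x, ?_⟩) ?_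
      · show ((EtCoh.HF W 0).map S.f ≫ (EtCoh.HF W 0).map S.g).hom x = 0
        rw [← Functor.map_comp, S.zero, Functor.map_zero]; rfl
      · rintro ⟨y, hy⟩
        obtain ⟨x, hx⟩ := Ext.covariant_sequence_exact₂ (EtCoh.const W ℤ) hS y hy
        exact ⟨x, Subtype.ext hx⟩
    have hsurj : Function.Surjective g := by
      rw [← AddMonoidHom.range_eq_top]
      refine AddSubgroup.eq_top_of_le_card _ ?_
      rw [hc3]
      have := AddSubgroup.card_eq_card_quotient_mul_card_addSubgroup g.ker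
      rw [Nat.card_congr (QuotientAddGroup.quotientKerEquivRange g).toEquiv, hc2] at this
      have h2 : d * b ≤ d * Nat.card g.range := by
        rw [this, mul_comm d]
        exact Nat.mul_le_mul_left _ hker
      exact Nat.le_of_mul_le_mul_left h2 (Nat.pos_of_ne_zero (NeZero.ne d))
    refine subsingleton_of_forall_eq 0 fun x => ?_
    haveI : Subsingleton ((EtCoh.HF W 1).obj S.X₂) := by rw [e₂]; exact h 0
    obtain ⟨z, hz⟩ := Ext.covariant_sequence_exact₁ (EtCoh.const W ℤ) hS x (Subsingleton.elim (α := (EtCoh.HF W 1).obj S.X₂) _ _) rfl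
    obtain ⟨y, hy⟩ := hsurj z
    rw [← hz, ← hy]
    exact (Ext.comp_assoc _ _ _ (add_zero 0) (zero_add 1) rfl).trans
      ((congrArg (fun t => Ext.comp y t rfl) hS.comp_extClass).trans (Ext.comp_zero _ _ _ _ _))
  | succ q ih =>
    rintro d ⟨b, rfl⟩
    haveI : NeZero d := ⟨(Nat.pos_of_mul_pos_right hn).ne'⟩
    haveI : NeZero b := ⟨(Nat.pos_of_mul_pos_left hn).ne'⟩
    obtain ⟨S, hS, e₁, e₂, e₃⟩ := exists_shortExact_zmod (W := W) (a := d) (b := b) rfl
    rw [← e₁]
    haveI : Subsingleton ((EtCoh.HF W (q + 1 + 1)).obj S.X₂) := by rw [e₂]; exact h (q + 1)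
    haveI : Subsingleton ((EtCoh.HF W (q + 1)).obj S.X₃) := by rw [e₃]; exact ih b ⟨d, mul_comm d b⟩
    refine subsingleton_of_forall_eq 0 fun x => ?_
    obtain ⟨z, hz⟩ := Ext.covariant_sequence_exact₁ (EtCoh.const W ℤ) hS x
      (Subsingleton.elim (α := (EtCoh.HF W (q + 1 + 1)).obj S.X₂) _ _) rfl
    rw [← hz, Subsingleton.elim (α := (EtCoh.HF W (q + 1)).obj S.X₃) z 0]
    exact Ext.zero_comp _ _ _ _ _

end Devissage

end Groth.Agent.EtAcycX

namespace Groth.Agent.EtAcycX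

theorem isLTorsion_const_zmod {W : Scheme.{u}} {n : ℕ} (hn : 0 < n) :
    EtAcyc.IsLTorsion {ℓ | ℓ.Prime ∧ ℓ ∣ n} (EtCoh.const W (ZMod n)) := by
  haveI : (constantSheaf W.smallEtaleTopology AddCommGrpCat.{u + 1}).Additive :=
    haveI := (EtCore.constAdj W).isLeftAdjoint
    haveI := preservesBinaryBiproducts_of_preservesBinaryCoproducts (constantSheaf W.smallEtaleTopology AddCommGrpCat.{u + 1})
    Functor.additive_of_preservesBinaryBiproducts _
  have hP : EtAcyc.PrimesIn {ℓ | ℓ.Prime ∧ ℓ ∣ n} n := ⟨hn, fun p hp hd => ⟨hp, hd⟩⟩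
  exact Kd.isLTorsion hP
    (kd_obj_of_group (fun a : ZMod n => by simp) (constantSheaf W.smallEtaleTopology AddCommGrpCat.{u + 1}))

theorem isZero_const_zmod_one (W : Scheme.{u}) : IsZero (EtCoh.const W (ZMod 1)) := by
  haveI : (constantSheaf W.smallEtaleTopology AddCommGrpCat.{u + 1}).PreservesZeroMorphisms :=
    haveI := (EtCore.constAdj W).isLeftAdjoint
    Functor.preservesZeroMorphisms_of_isLeftAdjoint _
  exact (constantSheaf W.smallEtaleTopology AddCommGrpCat.{u + 1}).map_isZero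
    (AddCommGrpCat.isZero_of_subsingleton _)

theorem acyclic_fibres_of_zmod {W : Scheme.{u}} {n : ℕ} (hn : 1 < n)
    (h0 : Nonempty (EtCoh.H W (EtCoh.const W (ZMod n)) 0 ≃+ ZMod n))
    (h : ∀ q : ℕ, 0 < q → Subsingleton (EtCoh.H W (EtCoh.const W (ZMod n)) q)) (m : ℕ) :
    EtAcyc.IsAcyclicSchemeN {ℓ | ℓ.Prime ∧ ℓ ∣ n} m W := by
  obtain ⟨h1, h2⟩ := nonempty_connected_of_H_zero hn h0
  refine ⟨h1, h2, fun ℓ _ hℓ q hq _ => ?_⟩
  obtain ⟨q, rfl⟩ : ∃ k, q = k + 1 := ⟨q - 1, by omega⟩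
  haveI := h2
  exact acyclicScheme_of_zmod (by omega) (fun q => h (q + 1) q.succ_pos) q ℓ hℓ.2

/-- acyclicity of a locally acyclic morphism with acyclic fibres, constant coefficients -/
theorem acyclic_const {X S : Scheme.{u}} (f : X ⟶ S) [QuasiCompact f] [QuasiSeparated f] {n : ℕ}
    (hn : 0 < n) (hnx : ∀ x : X, (n : X.residueField x) ≠ 0) (hf : EtRest.IsLocallyAcyclic f)
    (hfib : ∀ (Ω : Type u) [Field Ω] [IsSepClosed Ω] (t : Spec (CommRingCat.of Ω) ⟶ S),
      Nonempty (EtCoh.H (pullback f t) (EtCoh.const (pullback f t) (ZMod n)) 0 ≃+ ZMod n) ∧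
        ∀ q : ℕ, 0 < q → Subsingleton (EtCoh.H (pullback f t) (EtCoh.const (pullback f t) (ZMod n)) q)) :
    IsIso ((EtCoh.pullPushAdj f).unit.app (EtCoh.const S (ZMod n))) ∧
      ∀ q : ℕ, 0 < q → IsZero ((EtCoh.Rpush f q).obj (EtCoh.const X (ZMod n))) := by
  rcases (Nat.succ_le_of_lt hn).eq_or_lt with rfl | h1
  · refine ⟨⟨0, (isZero_const_zmod_one S).eq_of_src _ _, ?_⟩, fun q _ => ?_⟩
    · exact ((EtCoh.push f).map_isZero ((EtCoh.pull f).map_isZero (isZero_const_zmod_one S))).eq_of_src _ _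
    · haveI : (EtCoh.Rpush f q).PreservesZeroMorphisms := inferInstance
      exact (EtCoh.Rpush f q).map_isZero (isZero_const_zmod_one X)
  have hg : ∀ m, EtAcyc.GeomFibresAcyclicN {ℓ | ℓ.Prime ∧ ℓ ∣ n} m f := fun m y Ω _ _ _ _ =>
    acyclic_fibres_of_zmod h1 (hfib Ω _).1 (hfib Ω _).2 m
  have hloc := fun m => onStrict_of_isLocallyAcyclic (L := {ℓ | ℓ.Prime ∧ ℓ ∣ n}) hf (fun ℓ hℓ _ x h0 => by
      obtain ⟨c, rfl⟩ := hℓ.2
      exact hnx x (by rw [Nat.cast_mul, h0, zero_mul]))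
    (fun x => ⟨n, h1, hnx x⟩) m
  have H := fun m => acyclic_core f (hg m) (hloc (m - 1)) (EtCoh.const S (ZMod n)) (isLTorsion_const_zmod hn)
  refine ⟨(H 0).1, fun q hq => ?_⟩
  exact IsZero.of_iso ((H q).2 q hq le_rfl) ((EtCoh.Rpush f q).mapIso (EtCons.pullConstM f (ZMod n)).symm)

end Groth.Agent.EtAcycX
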