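import Groth.Agent.EtAcycX.LocComp
import Groth.Agent.EtAcycX.ZCover
import Groth.Agent.EtAcycX.ZDimComp
import Groth.Agent.Weighting.Geom
import Mathlib

/-! Geometric fibres and strict localisations under base change. -/

set_option autoImplicit false
set_option backward.isDefEq.respectTransparency false
set_option backward.isDefEq.respectTransparency.types false
set_option linter.unusedSectionVars false
set_option linter.overlappingInstances false
set_option linter.style.haveILetI false
set_option maxHeartbeats 1000000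

universe u

open CategoryTheory CategoryTheory.Limits AlgebraicGeometry Opposite IsLocalRing

noncomputable section

namespace Groth.Agent.EtAcycX

open EtBCQ (SH mkSH)

variable {P : ∀ ⦃X' Y' : Scheme.{u}⦄, (X' ⟶ Y') → Prop}

/-- residue field extensions are integral -/
def AlgResidue {Z S : Scheme.{u}} (p : Z ⟶ S) : Prop := ∀ z : Z, (p.residueFieldMap z).hom.IsIntegral

theorem algResidue_of_universallyInjective {Z S : Scheme.{u}} (p : Z ⟶ S) [UniversallyInjective p] :
    AlgResidue p := fun z => by
  have hT : UniversallyInjective p ↔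
      Function.Injective p ∧ ∀ x, (p.residueFieldMap x).hom.IsPurelyInseparable :=
    List.TFAE.out (tfae_universallyInjective p) 0 2
  have h := (hT.1 ‹_›).2 z
  letI := (p.residueFieldMap z).hom.toAlgebra
  haveI : IsPurelyInseparable (S.residueField (p z)) (Z.residueField z) := h
  exact fun x => IsPurelyInseparable.isIntegral' (S.residueField (p z)) x

theorem algResidue_of_lqf {Z S : Scheme.{u}} (p : Z ⟶ S) [LocallyQuasiFinite p] : AlgResidue p := fun z =>
  (Groth.Agent.Weighting.finite_residueFieldMap p z).to_isIntegral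

/-- geometric fibres of a base change along a morphism with integral residue field extensions -/
theorem geomFibres_of_isPullback {T S W Z : Scheme.{u}} {a : W ⟶ T} {b : W ⟶ Z} {g : T ⟶ S} {p : Z ⟶ S}
    (sq : IsPullback a b g p) (halg : AlgResidue p) {L : Set ℕ} {n : ℕ} (hg : EtAcyc.GeomFibresAcyclicN L n g) :
    EtAcyc.GeomFibresAcyclicN L n b := by
  intro z Ω _ _ _ _
  letI algY : Algebra (S.residueField (p z)) Ω :=
    ((algebraMap (Z.residueField z) Ω).comp (p.residueFieldMap z).hom).toAlgebra
  haveI : Algebra.IsAlgebraic (S.residueField (p z)) Ω := by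
    letI := (p.residueFieldMap z).hom.toAlgebra
    haveI : IsScalarTower (S.residueField (p z)) (Z.residueField z) Ω := IsScalarTower.of_algebraMap_eq' rfl
    haveI : Algebra.IsIntegral (S.residueField (p z)) (Z.residueField z) := ⟨halg z⟩
    exact Algebra.IsAlgebraic.trans (S.residueField (p z)) (Z.residueField z) Ω
  have hγ : EtAcyc.geomPt Z z Ω ≫ p = EtAcyc.geomPt S (p z) Ω := by
    show (Spec.map (CommRingCat.ofHom (algebraMap (Z.residueField z) Ω)) ≫ Z.fromSpecResidueField z) ≫ p = _
    rw [Category.assoc, ← p.SpecMap_residueFieldMap_fromSpecResidueField, ← Category.assoc, ← Spec.map_comp]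
    rfl
  exact isAcyclicSchemeN_of_iso
    ((pullback.congrHom rfl hγ.symm ≪≫
      (((IsPullback.of_hasPullback b (EtAcyc.geomPt Z z Ω)).paste_horiz sq.flip.flip).isoPullback).symm))
    (hg (p z) Ω)

/-- strict localisations are unchanged by weakly étale maps -/
theorem exists_push_SH {X' X : Scheme.{u}} (e : X' ⟶ X) [WeaklyEtale e] {x' : X'} (Q : SH X' x') :
    ∃ (_ : Algebra (X.presheaf.stalk (e x')) Q.R) (_ : IsLocalHom (algebraMap (X.presheaf.stalk (e x')) Q.R))
      (_ : _root_.Hensel.IsStrictHenselization (X.presheaf.stalk (e x')) Q.R),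
      Hens2.specOf X (e x') Q.R = Q.spec ≫ e := by
  letI algA : Algebra (X.presheaf.stalk (e x')) (X'.presheaf.stalk x') := (e.stalkMap x').hom.toAlgebra
  letI algR : Algebra (X.presheaf.stalk (e x')) Q.R :=
    ((algebraMap (X'.presheaf.stalk x') Q.R).comp (e.stalkMap x').hom).toAlgebra
  haveI : IsScalarTower (X.presheaf.stalk (e x')) (X'.presheaf.stalk x') Q.R := IsScalarTower.of_algebraMap_eq' rfl
  haveI : IsLocalHom (algebraMap (X.presheaf.stalk (e x')) (X'.presheaf.stalk x')) :=
    inferInstanceAs (IsLocalHom (e.stalkMap x').hom)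
  haveI hl : IsLocalHom (algebraMap (X.presheaf.stalk (e x')) Q.R) :=
    RingHom.isLocalHom_comp (algebraMap (X'.presheaf.stalk x') Q.R) (e.stalkMap x').hom
  haveI : Algebra.WeaklyEtale (X.presheaf.stalk (e x')) (X'.presheaf.stalk x') :=
    { flat := Flat.stalkMap e x'
      flat_lmul' := Groth.Agent.WeakEt.flat_lmul_stalk e x' }
  refine ⟨algR, hl, Groth.Agent.WeakEt.isStrictHenselization_of_weaklyEtale (X.presheaf.stalk (e x'))
    (X'.presheaf.stalk x') Q.R, ?_⟩
  show Spec.map (CommRingCat.ofHom ((algebraMap (X'.presheaf.stalk x') Q.R).comp (e.stalkMap x').hom)) ≫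
    X.fromSpecStalk (e x') = (Spec.map _ ≫ X'.fromSpecStalk x') ≫ e
  rw [Category.assoc, ← Scheme.SpecMap_stalkMap_fromSpecStalk, ← Category.assoc, ← Spec.map_comp]
  rfl

theorem apply_onStrict' {X Y : Scheme.{u}} {f : X ⟶ Y} (hf : EtAcyc.OnStrictLocalizations f P) {x : X} {y : Y}
    (hy : f.base x = y) (QS : SH Y y) (QX : SH X x) (ψ : QS.R →+* QX.R) [IsLocalHom ψ]
    (h : Spec.map (CommRingCat.ofHom ψ) ≫ QS.spec = QX.spec ≫ f) : P (Spec.map (CommRingCat.ofHom ψ)) := by
  subst hy
  exact apply_onStrict hf QS QX ψ h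

/-- properties on strict localisations only depend on weakly étale neighbourhoods -/
theorem onStrict_of_weaklyEtale {X' Y' X Y : Scheme.{u}} {g' : X' ⟶ Y'} {g : X ⟶ Y} (eX : X' ⟶ X) (eY : Y' ⟶ Y)
    [WeaklyEtale eX] [WeaklyEtale eY] (w : eX ≫ g = g' ≫ eY) (hg : EtAcyc.OnStrictLocalizations g P) :
    EtAcyc.OnStrictLocalizations g' P := by
  intro x' RY RX _ _ _ _ _ _ _ _ _ _ _ _ hc
  let QX : SH X' x' := { R := RX }
  let QY : SH Y' (g'.base x') := { R := RY }
  let φ : QY.R →+* QX.R := algebraMap RY RX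
  haveI : IsLocalHom φ := ‹IsLocalHom (algebraMap RY RX)›
  have hφ := spec_of_comp_alg g' QY QX φ hc
  obtain ⟨aX, lX, sX, hX⟩ := exists_push_SH eX QX
  obtain ⟨aY, lY, sY, hY⟩ := exists_push_SH eY QY
  let PX : SH X (eX x') := { R := RX, alg := aX, lh := lX, sh := sX }
  let PY : SH Y (eY (g'.base x')) := { R := RY, alg := aY, lh := lY, sh := sY }
  refine apply_onStrict' hg (x := eX x') (y := eY (g'.base x')) ?_ PY PX φ ?_
  · rw [← Scheme.Hom.comp_apply, w, Scheme.Hom.comp_apply]
  · show Spec.map (CommRingCat.ofHom φ) ≫ PY.spec = PX.spec ≫ g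
    rw [show PY.spec = QY.spec ≫ eY from hY, show PX.spec = QX.spec ≫ eX from hX, ← Category.assoc, hφ,
      Category.assoc, ← w]
    simp only [SH.spec, Hens2.specOf, Category.assoc]

end Groth.Agent.EtAcycX
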