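import Groth.Agent.EtAcycX.Fibres
import Groth.Agent.EtAcycX.DescSurj
import Groth.Agent.EtAcycX.GeomFib
import Groth.Agent.EtBCQ.Crit
import Groth.Agent.EtMV.NormalIrr
import Mathlib

/-! Acyclicity from geometric fibres and local acyclicity. -/

set_option autoImplicit false
set_option backward.isDefEq.respectTransparency false
set_option backward.isDefEq.respectTransparency.types false
set_option linter.unusedSectionVars false
set_option linter.overlappingInstances false
set_option linter.style.haveILetI false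
set_option maxHeartbeats 1000000

universe u

open CategoryTheory CategoryTheory.Limits CategoryTheory.Abelian AlgebraicGeometry Opposite IsLocalRing

noncomputable section

namespace Groth.Agent.EtAcycX

attribute [local instance 100000] EtCoh.H._proof_1 Groth.Agent.EtMV.hext
attribute [local instance 200000] Groth.Agent.EtMV.hextAb

theorem bijective_HpullVia_of_compN {W P Z : Scheme.{u}} (m : W ⟶ P) (a : P ⟶ Z) (a' : W ⟶ Z) (w : m ≫ a = a')
    [PreservesFiniteLimits (EtCoh.pull m)] {L : Set ℕ} {n : ℕ} (hm : EtAcyc.CompN m L n) {F : EtCoh.Ab Z}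
    (hF : EtAcyc.IsLTorsion L F) {q : ℕ} (hq : q ≤ n) :
    Function.Bijective (EtCore.HpullVia m a a' w F q) := by
  haveI := isIso_ψh m a a' w F
  exact (bijective_comp_iso (EtLimit.ψh m a a' w F) q).comp ((hm _ (isLTorsion_pull a hF)).1 q hq)

/-- the theorem over an affine base -/
theorem compN_of_affine {T S : Scheme.{u}} [IsAffine S] (g : T ⟶ S) [QuasiCompact g] [QuasiSeparated g]
    {L : Set ℕ} {n : ℕ} (hfib : EtAcyc.GeomFibresAcyclicN L n g)
    (hloc : EtAcyc.OnStrictLocalizations g (fun _ _ h => EtAcyc.GeomFibresAcyclicN L (n - 1) h)) :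
    EtAcyc.CompN g L n := by
  obtain ⟨Z, p, hZa, hZ, hsurj, hui⟩ := exists_zdim_cover S
  haveI := hZa
  haveI := hsurj
  haveI := hui
  let hb := pullback.snd g p
  let pY := pullback.fst g p
  have c : IsPullback hb pY p g := (IsPullback.of_hasPullback g p).flip
  haveI := EtCohDesc.pull_preservesFiniteLimits g
  haveI := EtCohDesc.pull_preservesFiniteLimits p
  haveI := EtCohDesc.pull_preservesFiniteLimits hb
  haveI := EtCohDesc.pull_preservesFiniteLimits pY
  haveI : CompactSpace T := QuasiCompact.compactSpace_of_compactSpace g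
  haveI : QuasiSeparatedSpace T := quasiSeparatedSpace_of_quasiSeparated g
  have hhb : EtAcyc.CompN hb L n :=
    compN_of_zdim hZ hb (geomFibres_of_isPullback c.flip (algResidue_of_universallyInjective p) hfib)
  have hbc : ∀ F : EtCoh.Ab Z, EtAcyc.IsLTorsion L F → ∀ i : ℕ, i ≤ n - 1 →
      IsIso (EtBC.bcQ p g pY hb c.w i F) := fun F hF i hi => by
    refine (EtBCQ.isIso_bcQ_iff_restr g p pY hb c F i).1 ?_
    intro x RS _ _ _ _ hRS RX _ _ _ _ hRX ψ _ hψ PS PX aS bS HS aX bX HX m w wb _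
    haveI := hRS
    haveI := hRX
    have hspec := EtBCQ.specOf_comp g x RS RX ψ hψ
    have sqm : IsPullback m bX bS (Spec.map (CommRingCat.ofHom ψ)) := by
      refine IsPullback.of_right (h₁₂ := aS) (v₁₃ := p) (h₂₂ := Hens2.specOf S (g.base x) RS) ?_ wb HS
      rw [w, ← hspec]
      exact HX
    letI := ψ.toAlgebra
    haveI : IsLocalHom (algebraMap RS RX) := ‹IsLocalHom ψ›
    have hP : EtAcyc.GeomFibresAcyclicN L (n - 1) (Spec.map (CommRingCat.ofHom ψ)) := hloc x RS RX hψ
    haveI : WeaklyEtale (Hens2.specOf S (g.base x) RS) := weaklyEtale_specOf (g.base x) RS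
    haveI : WeaklyEtale aS := MorphismProperty.of_isPullback (P := @WeaklyEtale) HS.flip ‹_›
    haveI : IsAffineHom bS := MorphismProperty.of_isPullback (P := @IsAffineHom) HS (inferInstance : IsAffineHom p)
    haveI : UniversallyInjective bS := MorphismProperty.of_isPullback (P := @UniversallyInjective) HS hui
    haveI : IsAffine PS := isAffine_of_isAffineHom bS
    haveI : QuasiCompact m := MorphismProperty.of_isPullback (P := @QuasiCompact) sqm.flip inferInstance
    haveI : QuasiSeparated m := MorphismProperty.of_isPullback (P := @QuasiSeparated) sqm.flip inferInstance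
    have hm : EtAcyc.CompN m L (n - 1) := compN_of_zdim (zdim_of_weaklyEtale aS hZ) m
      (geomFibres_of_isPullback sqm.flip (algResidue_of_universallyInjective bS) hP)
    exact bijective_HpullVia_of_compN m aS aX w hm hF hi
  refine compN_of_killed g L n fun m hm F hF => ?_
  have H := fun q => killed_bijective g p hb pY c.w L (n - 1) n (by omega) hhb hbc hm hsurj q F hF
  exact ⟨fun q hq => (H q).1 hq, (H (n + 1)).2 le_rfl⟩

end Groth.Agent.EtAcycX

namespace Groth.Agent.EtAcycX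

open EtMV (T T_mk₀ P σ σ_comp σ_map σ_eq)
open EtLimit (fstE)

attribute [local instance 100000] EtCoh.H._proof_1 Groth.Agent.EtMV.hext
attribute [local instance 200000] Groth.Agent.EtMV.hextAb
attribute [local instance 300000] CategoryTheory.Preadditive.preadditiveHasZeroMorphisms
  CategoryTheory.Abelian.toPreadditive

section Local

variable {Z X : Scheme.{u}} (g' : Z ⟶ X) [PreservesFiniteLimits (EtCoh.pull g')]

theorem isIso_unit_of_Θ_affine (F : EtCoh.Ab X)
    (h : ∀ W : X.Etale, IsAffine W.left → Function.Bijective (Θ g' W F 0)) :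
    IsIso ((EtCoh.pullPushAdj g').unit.app F) := by
  let η := (EtCoh.pullPushAdj g').unit.app F
  have key : ∀ (W : X.Etale) (φ : (P X).obj W ⟶ F),
      σ (cW g' W ≫ (EtCoh.pull g').map φ) = η.hom.app (op W) (σ φ) := fun W φ => by
    rw [σ_comp, σ_cW, EtMV.r_natural, ← σ_eq, EtMV.r, op_id, CategoryTheory.Functor.map_id]
    rfl
  have hbij : ∀ W : X.Etale, IsAffine W.left → Function.Bijective (η.hom.app (op W)) := by
    intro W hW
    refine ⟨fun s t hst => ?_, fun y => ?_⟩
    · obtain ⟨φ, rfl⟩ := σ.surjective s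
      obtain ⟨φ', rfl⟩ := σ.surjective t
      rw [← key, ← key] at hst
      refine congrArg σ ((Ext.mk₀_bijective _ _).1 ((h W hW).1 ?_))
      rw [T_mk₀, T_mk₀, σ.injective hst]
    · obtain ⟨x, hx⟩ := (h W hW).2 (Ext.mk₀ (σ.symm y))
      obtain ⟨φ, rfl⟩ := (Ext.mk₀_bijective _ _).2 x
      rw [T_mk₀] at hx
      refine ⟨σ φ, ?_⟩
      rw [← key, (Ext.mk₀_bijective _ _).1 hx, Equiv.apply_symm_apply]
  haveI : Presheaf.IsLocallyInjective X.smallEtaleTopology η.hom := ⟨fun {U} s t hst => (EtFLC.mem_iff _).2 fun w => by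
    obtain ⟨W', a, hW', w', hw'⟩ := EtColimH.exists_affine_nhd U.unop w
    refine ⟨W', a, w', (hbij W' hW').1 ?_, hw'⟩
    rw [NatTrans.naturality_apply, NatTrans.naturality_apply, hst]⟩
  haveI : Sheaf.IsLocallySurjective η := ⟨fun {U} s => (EtFLC.mem_iff _).2 fun w => by
    obtain ⟨W', a, hW', w', hw'⟩ := EtColimH.exists_affine_nhd U w
    exact ⟨W', a, w', (hbij W' hW').2 _, hw'⟩⟩
  haveI : Mono η := Sheaf.mono_of_isLocallyInjective η
  haveI : Epi η := Sheaf.epi_of_isLocallySurjective η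
  exact isIso_of_mono_of_epi η

end Local

theorem acyclic_core {X Y : Scheme.{u}} (g : X ⟶ Y) [QuasiCompact g] [QuasiSeparated g] {L : Set ℕ} {n : ℕ}
    (hfib : EtAcyc.GeomFibresAcyclicN L n g)
    (hloc : EtAcyc.OnStrictLocalizations g (fun _ _ h => EtAcyc.GeomFibresAcyclicN L (n - 1) h))
    (F : EtCoh.Ab Y) (hF : EtAcyc.IsLTorsion L F) :
    IsIso ((EtCoh.pullPushAdj g).unit.app F) ∧
      ∀ q : ℕ, 1 ≤ q → q ≤ n → IsZero ((EtCoh.Rpush g q).obj ((EtCoh.pull g).obj F)) := by
  haveI := EtCohDesc.pull_preservesFiniteLimits g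
  have hΘ : ∀ W : Y.Etale, IsAffine W.left → (∀ k : ℕ, k ≤ n → Function.Bijective (Θ g W F k)) := by
    intro W hW
    haveI := hW
    haveI : Etale W.hom := W.prop
    have sq : IsPullback (pullback.snd W.hom g) (fstE g W) g W.hom := (IsPullback.of_hasPullback W.hom g).flip
    haveI : QuasiCompact (fstE g W) := MorphismProperty.pullback_fst _ _ inferInstance
    haveI : QuasiSeparated (fstE g W) := MorphismProperty.pullback_fst _ _ inferInstance
    haveI : Etale (pullback.snd W.hom g) := MorphismProperty.pullback_snd _ _ inferInstance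
    have hc : EtAcyc.CompN (fstE g W) L n := compN_of_affine (fstE g W)
      (geomFibres_of_isPullback sq (haveI := EtMV.lqf_of_etale W.hom; algResidue_of_lqf W.hom) hfib)
      (onStrict_of_weaklyEtale (pullback.snd W.hom g) W.hom sq.w hloc)
    exact (Θ_bijective_of_compN g W hc F hF).1
  refine ⟨isIso_unit_of_Θ_affine g F fun W hW => hΘ W hW 0 (Nat.zero_le n), fun q hq hqn => ?_⟩
  obtain ⟨q, rfl⟩ : ∃ k, q = k + 1 := ⟨q - 1, by omega⟩
  refine isZero_rpush_of_locZero g n _ (fun k hk W x w => ?_) q hqn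
  obtain ⟨W₁, a₁, hW₁, w₁, hw₁⟩ := EtColimH.exists_affine_nhd W w
  obtain ⟨x', hx'⟩ := (hΘ W₁ hW₁ (k + 1) hk).2 ((Ext.mk₀ ((P X).map ((EtCoh.bc g).map a₁))).comp x (zero_add (k + 1)))
  obtain ⟨W', a, ⟨w', hw'⟩, ha⟩ := locZero_all k F W₁ x' w₁
  refine ⟨W', a ≫ a₁, ⟨w', ?_⟩, ?_⟩
  · show (a.left ≫ a₁.left) w' = w
    rw [Scheme.Hom.comp_apply, hw', hw₁]
  · rw [Functor.map_comp, Functor.map_comp, ← Ext.mk₀_comp_mk₀_assoc, ← hx', Θ_natural, ha, map_zero]

theorem isAcyclicN_of_fibres {X Y : Scheme.{u}} (g : X ⟶ Y) [QuasiCompact g] [QuasiSeparated g] {L : Set ℕ} {n : ℕ}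
    (hfib : EtAcyc.GeomFibresAcyclicN L n g)
    (hloc : EtAcyc.OnStrictLocalizations g (fun _ _ h => EtAcyc.GeomFibresAcyclicN L (n - 1) h)) :
    EtAcyc.IsAcyclicN g L n := by
  refine (isAcyclicN_iff g L n).2 fun V F hF => ?_
  haveI : Etale V.hom := V.prop
  haveI : QuasiCompact (EtAcyc.prj g V) := MorphismProperty.pullback_fst _ _ inferInstance
  haveI : QuasiSeparated (EtAcyc.prj g V) := MorphismProperty.pullback_fst _ _ inferInstance
  haveI : Etale (pullback.snd V.hom g) := MorphismProperty.pullback_snd _ _ inferInstance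
  have sq : IsPullback (pullback.snd V.hom g) (EtAcyc.prj g V) g V.hom := (IsPullback.of_hasPullback V.hom g).flip
  exact acyclic_core (EtAcyc.prj g V) (geomFibres_of_isPullback sq (haveI := EtMV.lqf_of_etale V.hom; algResidue_of_lqf V.hom) hfib)
    (onStrict_of_weaklyEtale (pullback.snd V.hom g) V.hom sq.w hloc) F hF

theorem geomFibresAcyclicN_of_le {X Y : Scheme.{u}} {g : X ⟶ Y} {L : Set ℕ} {n n' : ℕ} (h : n' ≤ n)
    (hg : EtAcyc.GeomFibresAcyclicN L n g) : EtAcyc.GeomFibresAcyclicN L n' g := fun y Ω _ _ _ _ => by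
  obtain ⟨h1, h2, h3⟩ := hg y Ω
  exact ⟨h1, h2, fun ℓ hℓ hℓL q hq hqn => h3 ℓ hℓ hℓL q hq (hqn.trans h)⟩

theorem isLocAcyclicN_of_fibres {X Y : Scheme.{u}} (g : X ⟶ Y) {L : Set ℕ} {n : ℕ}
    (h : EtAcyc.OnStrictLocalizations g (fun _ _ m => EtAcyc.GeomFibresAcyclicN L n m)) :
    EtAcyc.IsLocAcyclicN g L n := by
  intro x RY RX _ _ _ _ _ _ _ _ _ _ _ _ hc
  let QX : EtBCQ.SH X x := { R := RX }
  let QY : EtBCQ.SH Y (g.base x) := { R := RY }
  haveI : WeaklyEtale QX.spec := weaklyEtale_specOf x RX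
  haveI : WeaklyEtale QY.spec := weaklyEtale_specOf (g.base x) RY
  refine isAcyclicN_of_fibres _ (h x RY RX hc) ?_
  exact onStrict_of_weaklyEtale QX.spec QY.spec (spec_of_comp_alg g QY QX (algebraMap RY RX) hc).symm
    fun x RY RX _ _ _ _ _ _ _ _ _ _ _ _ hc => geomFibresAcyclicN_of_le (Nat.sub_le n 1) (h x RY RX hc)

theorem onStrict_fibres_of_isLocAcyclicN {X Y : Scheme.{u}} (g : X ⟶ Y) {L : Set ℕ} (hL : ∃ ℓ ∈ L, ℓ.Prime) {n : ℕ}
    (h : EtAcyc.IsLocAcyclicN g L n) :
    EtAcyc.OnStrictLocalizations g (fun _ _ m => EtAcyc.GeomFibresAcyclicN L n m) :=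
  fun x RY RX _ _ _ _ _ _ _ _ _ _ _ _ hc => geomFibresAcyclicN _ L hL n (h x RY RX hc)

end Groth.Agent.EtAcycX
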