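import Groth.Agent.EtAcycX.LAFibre
import Groth.Agent.EtAcycX.LocFib
import Groth.Agent.SepClosedNormal.Basic
import Groth.Agent.Hensel.TensorFinite
import Groth.Prelude.Def_Pi1
import Mathlib

/-! Cohomology of the generic fibre over a normal base with separably closed function field. -/

set_option autoImplicit false
set_option backward.isDefEq.respectTransparency false
set_option backward.isDefEq.respectTransparency.types false
set_option linter.unusedSectionVars false
set_option linter.auxLemma false
set_option linter.overlappingInstances false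
set_option linter.style.haveILetI false
set_option maxHeartbeats 1000000

universe u

open CategoryTheory CategoryTheory.Limits AlgebraicGeometry Opposite IsLocalRing
open scoped TensorProduct

noncomputable section

namespace Groth.Agent.EtAcycX

theorem isZero_of_noPrimes {X : Scheme.{u}} {L : Set ℕ} (hL : ¬ ∃ ℓ ∈ L, ℓ.Prime) {F : EtCoh.Ab X}
    (hF : EtAcyc.IsLTorsion L F) : IsZero F := by
  haveI : Presheaf.IsLocallyInjective X.smallEtaleTopology (0 : F ⟶ F).hom := by
    refine ⟨fun {U} s t _ => (EtFLC.mem_iff _).2 fun x => ?_⟩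
    obtain ⟨V, g, m, ⟨v, hv⟩, ⟨hm0, hm⟩, hms⟩ := hF U.unop (s - t) x
    have h1 : m = 1 := Nat.eq_one_iff_not_exists_prime_dvd.2 fun p hp hd => hL ⟨p, hm p hp hd, hp⟩
    subst h1
    refine ⟨V, g, v, ?_, hv⟩
    rw [one_smul, map_sub, sub_eq_zero] at hms
    exact hms
  haveI : Mono (0 : F ⟶ F) := Sheaf.mono_of_isLocallyInjective _
  exact IsZero.of_mono_zero F F

/-- elements of the value of a torsion constant sheaf on a strictly henselian spectrum are torsion -/
theorem primes_of_isLTorsion_constB (R : Type u) [CommRing R] [HenselianLocalRing R] [IsSepClosed (ResidueField R)]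
    {L : Set ℕ} {M : AddCommGrpCat.{u + 1}} (h : EtAcyc.IsLTorsion L (constB (Spec (CommRingCat.of R)) M)) (x : M) :
    ∃ k, EtAcyc.PrimesIn L k ∧ k • x = 0 := by
  let X := Spec (CommRingCat.of R)
  let s := ((EtCore.constAdj X).unit.app M).hom x
  obtain ⟨V, g, k, ⟨v, hv⟩, hk, hks⟩ := h (EtCoh.top X) s (closedPoint R)
  have hgv : V.hom v = closedPoint R := by
    exact (congrArg (fun φ => φ v) (MorphismProperty.Over.w g)).symm.trans
      (congrArg (fun z => (EtCoh.top X).hom z) hv)
  obtain ⟨y, -⟩ := Scheme.pointSmallEtaleFiberObjToPreimage_surjective (EtHens.pt R)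
    (EtBCQ.Spec_closedPoint' (IsLocalRing.residue R) ▸ by
      rw [Subsingleton.elim (α := Spec (CommRingCat.of (IsLocalRing.ResidueField R))) default
        (IsLocalRing.closedPoint (IsLocalRing.ResidueField R))]) V ⟨v, hgv⟩
  obtain ⟨a, -⟩ := EtHens.exists_factor R V y
  have hid : a ≫ g = 𝟙 _ := (EtCore.topIsTerminal X).hom_ext _ _
  have h2 : k • s = 0 := by
    have := congrArg (EtFLC.res (constB X M) a) hks
    rw [map_nsmul, map_zero] at this
    have e : EtFLC.res (constB X M) a (EtFLC.res (constB X M) g s) = s := by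
      rw [EtFLC.res_res, hid]
      exact ConcreteCategory.congr_hom ((constB X M).obj.map_id _) s
    rwa [show EtFLC.res (constB X M) a ((constB X M).obj.map g.op s) = s from e] at this
  exact ⟨k, hk, (constTop_henselian R M).1 (by rw [map_nsmul, map_zero]; exact h2)⟩

/-- restriction to a variety of vanishing cycles on torsion sheaves constant there -/
theorem bijective_HpullVia_van {X W : Scheme.{u}} {R : Type u} [CommRing R] [HenselianLocalRing R]
    [IsSepClosed (ResidueField R)] {K : Type u} [Field K] [IsSepClosed K] (m : W ⟶ Spec (CommRingCat.of R))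
    (b : W ⟶ Spec (CommRingCat.of K)) [QuasiCompact b] [QuasiSeparated b] [PreservesFiniteLimits (EtCoh.pull m)]
    (t : Spec (CommRingCat.of R) ⟶ X) (c : W ⟶ X) (w : m ≫ t = c) {L : Set ℕ} {q : ℕ}
    (hb : EtAcyc.GeomFibresAcyclicN L q b) {F : EtCoh.Ab X} (hF : EtAcyc.IsLTorsion L F) {M : AddCommGrpCat.{u + 1}}
    (i : (EtCoh.pull t).obj F ≅ constB (Spec (CommRingCat.of R)) M) :
    Function.Bijective (EtCore.HpullVia m t c w F q) := by
  haveI := isIso_ψh m t c w F
  exact (bijective_comp_iso (EtLimit.ψh m t c w F) q).comp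
    (bijective_Hpull_of_iso m i (bijective_Hpull_van m b hb M
      (primes_of_isLTorsion_constB R (isLTorsion_of_epi L i.hom (isLTorsion_pull t hF)))))

/-- stalks along the generic fibre -/
theorem stalk_genericFibre {X Y : Scheme.{u}} [IsIntegral Y] (hY : Pi1.IsNormalScheme Y)
    [IsSepClosed (Y.residueField (genericPoint Y))] (f : X ⟶ Y) {L : Set ℕ} (hL : ∃ ℓ ∈ L, ℓ.Prime) {n : ℕ}
    (hf : EtAcyc.IsLocAcyclicN f L n) {F : EtCoh.Ab X} (hF : EtAcyc.IsLTorsion L F)
    (hlc : EtRest.IsLocallyConstant F) [QuasiCompact (pullback.fst f (Y.fromSpecResidueField (genericPoint Y)))]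
    [QuasiSeparated (pullback.fst f (Y.fromSpecResidueField (genericPoint Y)))]
    [PreservesFiniteLimits (EtCoh.pull (pullback.fst f (Y.fromSpecResidueField (genericPoint Y))))] (x : X) :
    ∃ (K : Type u) (_ : Field K) (_ : IsSepClosed K) (ξ : Spec (CommRingCat.of K) ⟶ X),
      (IsIso ((EtCoh.stalk ξ).map ((EtCoh.pullPushAdj (pullback.fst f (Y.fromSpecResidueField (genericPoint Y)))).unit.app F)) ∧
        ∀ q, q < n → Subsingleton ((EtCoh.stalk ξ).obj ((EtCoh.Rpush (pullback.fst f (Y.fromSpecResidueField (genericPoint Y))) (q + 1)).obj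
          ((EtCoh.pull (pullback.fst f (Y.fromSpecResidueField (genericPoint Y)))).obj F)))) ∧ ξ default = x := by
  let η := genericPoint Y
  let K := Y.residueField η
  let j := Y.fromSpecResidueField η
  let h := pullback.fst f j
  let A := Y.presheaf.stalk (f.base x)
  haveI : IsDomain A := (hY (f.base x)).1
  haveI : IsIntegrallyClosed A := (hY (f.base x)).2
  haveI : IsSepClosed (FractionRing A) := by
    haveI : IsSepClosed (Y.presheaf.stalk η) := by
      have hF : IsField (Y.presheaf.stalk η) := Field.toIsField Y.functionField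
      letI := hF.toField
      haveI : IsSepClosed (ResidueField (Y.presheaf.stalk η)) := ‹IsSepClosed (Y.residueField (genericPoint Y))›
      exact Hensel.isSepClosed_of_ringEquiv (RingEquiv.ofBijective (residue (Y.presheaf.stalk η))
        ⟨(residue (Y.presheaf.stalk η)).injective, residue_surjective⟩).symm
    exact Hensel.isSepClosed_of_ringEquiv (FractionRing.algEquiv A Y.functionField).symm.toRingEquiv
  haveI : HenselianLocalRing A := SepClosedNormal.henselianLocalRing
  haveI : IsSepClosed (ResidueField A) := SepClosedNormal.isSepClosed_residueField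
  letI : Algebra A A := Algebra.id A
  haveI : IsLocalHom (algebraMap A A) := ⟨fun _ h => h⟩
  haveI : _root_.Hensel.IsStrictHenselization A A :=
    Hensel.isStrictHenselization_of_bijective Function.bijective_id
  let QX := EtBCQ.mkSH X x
  letI alg : Algebra A QX.R := ((algebraMap (X.presheaf.stalk x) QX.R).comp (f.stalkMap x).hom).toAlgebra
  haveI : IsLocalHom (algebraMap A QX.R) := RingHom.isLocalHom_comp _ (f.stalkMap x).hom
  have hc : (algebraMap A QX.R).comp (algebraMap A A) =
      (algebraMap (X.presheaf.stalk x) QX.R).comp (f.stalkMap x).hom := rfl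
  have hspec := EtBCQ.specOf_comp f x A QX.R (algebraMap A QX.R) hc
  have hη : η ⤳ f.base x := genericPoint_specializes (f.base x)
  let τ : Y.presheaf.stalk (f.base x) ⟶ K := Y.presheaf.stalkSpecializes hη ≫ Y.residue η
  letI : Algebra A K := τ.hom.toAlgebra
  have hτ : Spec.map (CommRingCat.ofHom (algebraMap A K)) ≫ Y.fromSpecStalk (f.base x) = j := by
    show Spec.map (Y.presheaf.stalkSpecializes hη ≫ Y.residue η) ≫ _ = _
    rw [Spec.map_comp, Category.assoc, Scheme.SpecMap_stalkSpecializes_fromSpecStalk]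
    rfl
  haveI : Mono (Spec.map (CommRingCat.ofHom (algebraMap A K))) := by
    haveI : Mono (Spec.map (CommRingCat.ofHom (algebraMap A K)) ≫ Y.fromSpecStalk (f.base x)) := by
      rw [hτ]; infer_instance
    exact mono_of_mono _ (Y.fromSpecStalk (f.base x))
  let m : Spec (CommRingCat.of (QX.R ⊗[A] K)) ⟶ Spec (CommRingCat.of QX.R) :=
    Spec.map (CommRingCat.ofHom (algebraMap QX.R (QX.R ⊗[A] K)))
  haveI := EtCohDesc.pull_preservesFiniteLimits m
  have hsq : IsPullback (vcProj A QX.R K) m (Spec.map (CommRingCat.ofHom (algebraMap A K)))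
      (Spec.map (CommRingCat.ofHom (algebraMap A QX.R))) :=
    (isPullback_SpecMap_of_isPushout _ _ _ _ (CommRingCat.isPushout_tensorProduct A QX.R K)).flip
  have hmono : IsPullback (𝟙 _) (Spec.map (CommRingCat.ofHom (algebraMap A K))) j (Y.fromSpecStalk (f.base x)) :=
    ⟨⟨by rw [Category.id_comp, hτ]⟩, ⟨PullbackCone.IsLimit.mk _ (fun c => c.fst) (fun c => Category.comp_id _)
      (fun c => (cancel_mono (Y.fromSpecStalk (f.base x))).1 (by
        rw [Category.assoc, hτ]; exact c.condition))
      (fun c k hk _ => (Category.comp_id k).symm.trans hk)⟩⟩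
  have hA : Hens2.specOf Y (f.base x) A = Y.fromSpecStalk (f.base x) := by
    show Spec.map (𝟙 _) ≫ _ = _
    rw [Spec.map_id, Category.id_comp]
  have houter : IsPullback (vcProj A QX.R K) m j (QX.spec ≫ f) := by
    rw [show QX.spec ≫ f = Spec.map (CommRingCat.ofHom (algebraMap A QX.R)) ≫ Y.fromSpecStalk (f.base x) by
      rw [← hA]; exact hspec]
    simpa using (hsq.paste_horiz hmono)
  let a := pullback.lift (m ≫ QX.spec) (vcProj A QX.R K) (by rw [Category.assoc]; exact houter.w.symm)
  have HX : IsPullback a m h QX.spec :=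
    IsPullback.of_right (by rw [pullback.lift_snd]; exact houter) (pullback.lift_fst _ _ _)
      (IsPullback.of_hasPullback f j).flip
  haveI : HenselianLocalRing QX.R := QX.sh.henselian
  haveI : IsSepClosed (ResidueField QX.R) := QX.sh.isSepClosure.1
  obtain ⟨M, ⟨i⟩⟩ := exists_iso_constB_pull QX.R QX.spec F hlc
  have hb : ∀ q ≤ n, EtAcyc.GeomFibresAcyclicN L q (vcProj A QX.R K) := fun q hq =>
    geomFibresAcyclicN_of_le hq (geomFibres_of_isPullback hsq.flip
      (algResidue_of_universallyInjective (Spec.map (CommRingCat.ofHom (algebraMap A K))))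
      (geomFibresAcyclicN _ L hL n (hf x A QX.R hc)))
  have hm : ∀ q ≤ n, Function.Bijective (EtCore.HpullVia m QX.spec (a ≫ h) HX.w.symm F q) := fun q hq =>
    bijective_HpullVia_van m (vcProj A QX.R K) QX.spec (a ≫ h) HX.w.symm (hb q hq) hF i
  refine ⟨ResidueField QX.R, inferInstance, inferInstance, Hens2.geomPt X x QX.R, ?_, EtBCQ.geomPt_apply x QX.R⟩
  exact stalk_acyclic h F x QX.R a m HX hm

/-- comparison from stalks -/
theorem comp_of_covers {X Z : Scheme.{u}} (h : Z ⟶ X) [PreservesFiniteLimits (EtCoh.pull h)] (F : EtCoh.Ab X) (n : ℕ)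
    (hcov : EtStalk.Covers (X := X) fun _ _ _ ξ =>
      IsIso ((EtCoh.stalk ξ).map ((EtCoh.pullPushAdj h).unit.app F)) ∧
        ∀ q, q < n → Subsingleton ((EtCoh.stalk ξ).obj ((EtCoh.Rpush h (q + 1)).obj ((EtCoh.pull h).obj F)))) :
    (∀ q : ℕ, q ≤ n → Function.Bijective (EtCore.Hpull h F q)) ∧ Function.Injective (EtCore.Hpull h F (n + 1)) := by
  haveI : IsIso ((EtCoh.pullPushAdj h).unit.app F) := by
    let e := (EtCoh.pullPushAdj h).unit.app F
    haveI : Presheaf.IsLocallyInjective X.smallEtaleTopology e.hom :=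
      EtStalk.isLocallyInjective_of_covers _ hcov fun _ _ _ _ h' => ((ConcreteCategory.isIso_iff_bijective _).1 h'.1).1
    haveI : Sheaf.IsLocallySurjective e :=
      EtStalk.isLocallySurjective_of_covers _ hcov fun _ _ _ _ h' => ((ConcreteCategory.isIso_iff_bijective _).1 h'.1).2
    haveI : Mono e := Sheaf.mono_of_isLocallyInjective e
    haveI : Epi e := Sheaf.epi_of_isLocallySurjective e
    exact isIso_of_mono_of_epi e
  refine compN_of_unit h F n fun q hq => ?_
  let Z := (EtCoh.Rpush h (q + 1)).obj ((EtCoh.pull h).obj F)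
  haveI : Presheaf.IsLocallyInjective X.smallEtaleTopology (0 : Z ⟶ Z).hom :=
    EtStalk.isLocallyInjective_of_covers _ hcov fun _ _ _ _ hξ x y _ => (hξ.2 q hq).elim x y
  haveI : Mono (0 : Z ⟶ Z) := Sheaf.mono_of_isLocallyInjective _
  exact IsZero.of_mono_zero Z Z

/-- the inverse image to the generic fibre is an isomorphism on the cohomology of torsion locally constant sheaves -/
theorem comp_genericFibre {X Y : Scheme.{u}} [IsIntegral Y] (hY : Pi1.IsNormalScheme Y)
    [IsSepClosed (Y.residueField (genericPoint Y))] (f : X ⟶ Y) {L : Set ℕ} (hL : ∃ ℓ ∈ L, ℓ.Prime) {n : ℕ}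
    (hf : EtAcyc.IsLocAcyclicN f L n) {F : EtCoh.Ab X} (hF : EtAcyc.IsLTorsion L F)
    (hlc : EtRest.IsLocallyConstant F) [QuasiCompact (pullback.fst f (Y.fromSpecResidueField (genericPoint Y)))]
    [QuasiSeparated (pullback.fst f (Y.fromSpecResidueField (genericPoint Y)))]
    [PreservesFiniteLimits (EtCoh.pull (pullback.fst f (Y.fromSpecResidueField (genericPoint Y))))] :
    (∀ q : ℕ, q ≤ n → Function.Bijective
        (EtCore.Hpull (pullback.fst f (Y.fromSpecResidueField (genericPoint Y))) F q)) ∧
      Function.Injective (EtCore.Hpull (pullback.fst f (Y.fromSpecResidueField (genericPoint Y))) F (n + 1)) := by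
  exact comp_of_covers _ F n fun x => stalk_genericFibre hY f hL hf hF hlc x

end Groth.Agent.EtAcycX
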