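import Groth.Agent.EtAcycX.CompBC
import Groth.Agent.EtColimH.PTorsion
import Groth.Prelude.Def_EtCore
import Mathlib

/-! Sheaves killed by an integer: acyclic hulls, and torsion sheaves as their colimits. -/

set_option autoImplicit false
set_option backward.isDefEq.respectTransparency false
set_option backward.isDefEq.respectTransparency.types false
set_option linter.unusedSectionVars false
set_option linter.overlappingInstances false
set_option linter.style.haveILetI false
set_option linter.auxLemma false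
set_option maxHeartbeats 1000000

universe u

open CategoryTheory CategoryTheory.Limits CategoryTheory.Abelian AlgebraicGeometry Opposite

noncomputable section

namespace Groth.Agent.EtAcycX

attribute [local instance 100000] EtCoh.H._proof_1 Groth.Agent.EtMV.hext
attribute [local instance 200000] Groth.Agent.EtMV.hextAb
attribute [local instance 300000] CategoryTheory.Preadditive.preadditiveHasZeroMorphisms
  CategoryTheory.Abelian.toPreadditive

/-- killed by `m` -/
def Kd {X : Scheme.{u}} (m : ℕ) (F : EtCoh.Ab X) : Prop := m • 𝟙 F = 0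

variable {X Y : Scheme.{u}} {m : ℕ}

theorem Kd.map (Φ : EtCoh.Ab X ⥤ EtCoh.Ab Y) [Φ.Additive] {F : EtCoh.Ab X} (h : Kd m F) : Kd m (Φ.obj F) := by
  unfold Kd at *
  rw [← Φ.map_id, ← Functor.map_nsmul, h, Φ.map_zero]

theorem Kd.of_epi {F G : EtCoh.Ab X} (π : F ⟶ G) [Epi π] (h : Kd m F) : Kd m G := by
  unfold Kd at *
  rw [← cancel_epi π, Preadditive.comp_nsmul, Category.comp_id, comp_zero, ← Category.id_comp π,
    ← Preadditive.nsmul_comp, h, zero_comp]

theorem kd_tor (I : EtCoh.Ab X) (m : ℕ) : Kd m (EtColimH.tor I m) := by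
  unfold Kd
  rw [← cancel_mono (kernel.ι (m • 𝟙 I)), zero_comp, Preadditive.nsmul_comp, Category.id_comp]
  simpa using kernel.condition (m • 𝟙 I)

theorem nsmulId_app (F : EtCoh.Ab X) (U : X.Etale) (x : EtCoh.sect F U) (k : ℕ) :
    (k • 𝟙 F : F ⟶ F).hom.app (op U) x = k • x := by
  induction k with
  | zero => simp
  | succ k ih => rw [succ_nsmul, succ_nsmul, ← ih]; rfl

theorem Kd.isLTorsion {L : Set ℕ} (hm : EtAcyc.PrimesIn L m) {F : EtCoh.Ab X} (h : Kd m F) :
    EtAcyc.IsLTorsion L F := by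
  intro U s x
  refine ⟨U, 𝟙 U, m, ⟨x, rfl⟩, hm, ?_⟩
  rw [← nsmulId_app F U, h]
  rfl

/-- a sheaf killed by `m` embeds in the kernel of `m` on an injective sheaf -/
theorem exists_hullKd {F : EtCoh.Ab X} (h : Kd m F) :
    ∃ (I : EtCoh.Ab X) (_ : Injective I) (e : F ⟶ EtColimH.tor I m), Mono e := by
  refine ⟨Injective.under F, inferInstance, kernel.lift _ (Injective.ι F) ?_, ?_⟩
  · rw [Preadditive.comp_nsmul, Category.comp_id, ← Category.id_comp (Injective.ι F), ← Preadditive.nsmul_comp, h,
      zero_comp]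
  · haveI : Mono (kernel.lift _ (Injective.ι F) (show Injective.ι F ≫ (m • 𝟙 (Injective.under F)) = 0 by
        rw [Preadditive.comp_nsmul, Category.comp_id, ← Category.id_comp (Injective.ι F), ← Preadditive.nsmul_comp, h,
          zero_comp]) ≫ kernel.ι (m • 𝟙 (Injective.under F))) := by rw [kernel.lift_ι]; infer_instance
    exact mono_of_mono _ (kernel.ι (m • 𝟙 (Injective.under F)))

theorem epi_push_nsmul (f : X ⟶ Y) (I : EtCoh.Ab X) [Injective I] (hm : 0 < m) :
    Epi ((EtCoh.push f).map (m • 𝟙 I)) := by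
  haveI : Sheaf.IsLocallySurjective ((EtCoh.push f).map (m • 𝟙 I)) := ⟨fun {U} t => by
    obtain ⟨s, hs⟩ := EtColimH.divisible_of_injective I (U := (EtCoh.bc f).obj U) t hm
    convert! Y.smallEtaleTopology.top_mem U using 1
    refine top_unique fun V g _ => ⟨((EtCoh.push f).obj I).obj.map g.op s, ?_⟩
    show (m • 𝟙 I : I ⟶ I).hom.app _ (I.obj.map ((EtCoh.bc f).map g).op s) = _
    rw [nsmulId_app, ← map_nsmul, hs]
    rfl⟩
  exact Sheaf.epi_of_isLocallySurjective _

theorem isZero_rpush_tor (f : X ⟶ Y) (I : EtCoh.Ab X) [Injective I] (hm : 0 < m) (q : ℕ) :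
    IsZero ((EtCoh.Rpush f (q + 1)).obj (EtColimH.tor I m)) := by
  have hS := EtColimH.tor_shortExact I hm
  refine EtColimH.isZero_succ (EtCoh.push f) hS q ((EtCoh.push f).isZero_rightDerived_obj_injective_succ q I) ?_
  cases q with
  | zero =>
    haveI := epi_push_nsmul f I hm
    exact EtColimH.epi_rightDerived_zero (EtCoh.push f) _ ‹_›
  | succ q => exact IsZero.epi ((EtCoh.push f).isZero_rightDerived_obj_injective_succ q I) _

theorem subsingleton_H_tor (I : EtCoh.Ab X) [Injective I] (hm : 0 < m) (q : ℕ) :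
    Subsingleton (EtCoh.H X (EtColimH.tor I m) (q + 1)) := by
  have hS := EtColimH.tor_shortExact I hm
  refine subsingleton_of_forall_eq 0 fun x => ?_
  obtain ⟨z, hz⟩ := Ext.covariant_sequence_exact₁ (EtCoh.const X ℤ) hS x (Ext.eq_zero_of_injective _) rfl
  subst hz
  cases q with
  | succ q => rw [Ext.eq_zero_of_injective z, Ext.zero_comp]
  | zero =>
    obtain ⟨φ, rfl⟩ := (Ext.mk₀_bijective _ _).2 z
    let A := AddCommGrpCat.of (ULift.{u + 1} ℤ)
    let α := (EtCore.constAdj X).homEquiv A I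
    obtain ⟨t, ht⟩ := EtColimH.divisible_of_injective I (α φ ⟨1⟩) hm
    let ψ : EtCoh.const X ℤ ⟶ I := α.symm
      (AddCommGrpCat.ofHom ((zmultiplesHom ((EtCore.gsec X).obj I) t).comp (AddEquiv.ulift.toAddMonoidHom)))
    have hψ : ψ ≫ (m • 𝟙 I) = φ := by
      apply α.injective
      rw [Adjunction.homEquiv_naturality_right, Equiv.apply_symm_apply]
      apply AddCommGrpCat.hom_ext
      refine AddMonoidHom.ext fun x => ?_
      obtain ⟨k⟩ := x
      show (m • 𝟙 I : I ⟶ I).hom.app (op (EtCoh.top X)) (k • t) = (α φ).hom ⟨k⟩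
      rw [nsmulId_app, smul_comm, ht]
      refine (map_zsmul (α φ).hom k _).symm.trans ?_
      congr 1
      apply ULift.ext
      show k • (1 : ℤ) = k
      simp
    rw [show φ = ψ ≫ (m • 𝟙 I) from hψ.symm, ← Ext.mk₀_comp_mk₀]
    exact (Ext.comp_assoc _ _ _ (zero_add 0) (zero_add 1) rfl).trans
      ((congrArg (fun t => Ext.comp (Ext.mk₀ ψ) t rfl) hS.comp_extClass).trans (Ext.comp_zero _ _ _ _ _))

end Groth.Agent.EtAcycX
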