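import Groth.Agent.EtBCQ.StrictSys
import Groth.Agent.Hensel.LocalPiece
import Groth.Agent.S0642
import Groth.Agent.EtCons.PullFLC
import Groth.Prelude.Def_EtRestW
import Mathlib

/-! Local acyclicity is stable under integral and quasi-finite base change. -/

set_option autoImplicit false
set_option backward.isDefEq.respectTransparency false
set_option backward.isDefEq.respectTransparency.types false
set_option linter.unusedSectionVars false
set_option linter.auxLemma false
set_option linter.overlappingInstances false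
set_option linter.style.haveILetI false
set_option maxHeartbeats 1000000

universe u

open CategoryTheory CategoryTheory.Limits AlgebraicGeometry Opposite IsLocalRing
open scoped TensorProduct

noncomputable section

namespace Groth.Agent.EtAcycX

/-- a local algebra integral over a separably closed local ring has one point above each local point -/
theorem isLocalRing_tensor (A B D : Type u) [CommRing A] [IsLocalRing A] [IsSepClosed (ResidueField A)]
    [CommRing B] [IsLocalRing B] [CommRing D] [IsLocalRing D] [Algebra A B] [IsLocalHom (algebraMap A B)]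
    [Algebra A D] [IsLocalHom (algebraMap A D)] [Algebra.IsIntegral A D] [Nontrivial (B ⊗[A] D)] :
    IsLocalRing (B ⊗[A] D) := by
  let K := AlgebraicClosure (ResidueField B)
  haveI : Algebra.IsIntegral A (ResidueField D) :=
    Algebra.IsIntegral.of_surjective (IsScalarTower.toAlgHom A D _) residue_surjective
  haveI : Algebra.IsIntegral (ResidueField A) (ResidueField D) := Algebra.IsIntegral.tower_top A
  haveI : Algebra.IsAlgebraic (ResidueField A) (ResidueField D) := inferInstance
  haveI : IsPurelyInseparable (ResidueField A) (ResidueField D) := inferInstance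
  let j : ResidueField A →+* K :=
    (algebraMap (ResidueField B) K).comp (ResidueField.map (algebraMap A B))
  letI : Algebra (ResidueField A) K := j.toAlgebra
  have key : ∀ M : Ideal (B ⊗[A] D), M.IsMaximal → ∃ σ : B ⊗[A] D →+* K, RingHom.ker σ = M ∧
      (∀ b, σ (b ⊗ₜ 1) = algebraMap (ResidueField B) K (residue B b)) ∧
      ∃ τ : ResidueField D →ₐ[ResidueField A] K, ∀ d, σ (1 ⊗ₜ d) = τ (residue D d) := by
    intro M hM
    haveI := hM
    haveI : Algebra.IsIntegral B (B ⊗[A] D) := inferInstance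
    have hB : M.comap (algebraMap B (B ⊗[A] D)) = maximalIdeal B :=
      eq_maximalIdeal (Ideal.isMaximal_comap_of_isIntegral_of_isMaximal M)
    have hA : ∀ a, a ∈ maximalIdeal A → algebraMap A (B ⊗[A] D) a ∈ M := fun a ha => by
      rw [IsScalarTower.algebraMap_apply A B (B ⊗[A] D), ← Ideal.mem_comap, hB]
      exact (mem_maximalIdeal _).2 fun hu => ha (isUnit_of_map_unit (algebraMap A B) a hu)
    let L := (B ⊗[A] D) ⧸ M
    letI : Field L := Ideal.Quotient.field M
    let π := Ideal.Quotient.mk M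
    let iB : ResidueField B →+* L := Ideal.Quotient.lift _ (π.comp (algebraMap B (B ⊗[A] D))) fun b hb => by
      rw [← hB] at hb
      exact Ideal.Quotient.eq_zero_iff_mem.2 hb
    letI : Algebra (ResidueField B) L := iB.toAlgebra
    haveI : IsScalarTower B (ResidueField B) L := IsScalarTower.of_algebraMap_eq' rfl
    haveI : Algebra.IsIntegral B L := Algebra.IsIntegral.of_surjective (Ideal.Quotient.mkₐ B M)
      Ideal.Quotient.mk_surjective
    haveI : Algebra.IsIntegral (ResidueField B) L := Algebra.IsIntegral.tower_top B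
    let e : L →ₐ[ResidueField B] K := IsAlgClosed.lift
    let σ : B ⊗[A] D →+* K := e.toRingHom.comp π
    have hσB : ∀ b, σ (b ⊗ₜ 1) = algebraMap (ResidueField B) K (residue B b) := fun b => e.commutes (residue B b)
    have hdA : ∀ a, (σ.comp (Algebra.TensorProduct.includeRight : D →ₐ[A] B ⊗[A] D).toRingHom) (algebraMap A D a) =
        j (residue A a) := fun a => by
      show σ (1 ⊗ₜ algebraMap A D a) = _
      rw [← Algebra.TensorProduct.algebraMap_apply', Algebra.TensorProduct.algebraMap_apply, hσB]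
      rfl
    have hD : ∀ d ∈ maximalIdeal D, σ (1 ⊗ₜ d) = 0 := fun d hd => by
      let δ := σ.comp (Algebra.TensorProduct.includeRight : D →ₐ[A] B ⊗[A] D).toRingHom
      haveI : (RingHom.ker δ).IsPrime := RingHom.ker_isPrime δ
      have h1 : ((RingHom.ker δ).comap (algebraMap A D)).IsMaximal := by
        have : (RingHom.ker δ).comap (algebraMap A D) = maximalIdeal A := by
          ext a
          rw [Ideal.mem_comap, RingHom.mem_ker, hdA, map_eq_zero, residue_eq_zero_iff]
        rw [this]; infer_instance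
      have h2 := eq_maximalIdeal (Ideal.isMaximal_of_isIntegral_of_isMaximal_comap (R := A) (RingHom.ker δ) h1)
      rw [← h2] at hd
      exact hd
    let τ₀ : ResidueField D →+* K := Ideal.Quotient.lift _
      (σ.comp (Algebra.TensorProduct.includeRight : D →ₐ[A] B ⊗[A] D).toRingHom) hD
    refine ⟨σ, ?_, hσB, ⟨⟨τ₀, ?_⟩, fun d => rfl⟩⟩
    · rw [RingHom.ker_comp_of_injective π e.injective, Ideal.mk_ker]
    · intro r
      obtain ⟨a, rfl⟩ := residue_surjective r
      exact hdA a
  obtain ⟨M₀, hM₀⟩ := Ideal.exists_maximal (B ⊗[A] D)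
  refine IsLocalRing.of_unique_max_ideal ⟨M₀, hM₀, fun M hM => ?_⟩
  obtain ⟨σ, h1, h2, τ, h3⟩ := key M hM
  obtain ⟨σ₀, h1', h2', τ₀, h3'⟩ := key M₀ hM₀
  have hσ : σ = σ₀ := by
    refine RingHom.ext fun z => ?_
    induction z using TensorProduct.induction_on with
    | zero => simp
    | add x y hx hy => simp [hx, hy]
    | tmul b d =>
      rw [show b ⊗ₜ[A] d = b ⊗ₜ 1 * (1 ⊗ₜ d) by simp, map_mul, map_mul, h2, h2', h3, h3', Subsingleton.elim τ τ₀]
  rw [← h1, ← h1', hσ]

/-- a strict localisation is integral over a strictly henselian ring when it has an integral model -/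
theorem isIntegral_of_model {R : Type u} [CommRing R] [HenselianLocalRing R] [IsSepClosed (ResidueField R)]
    {S' : Scheme.{u}} {s' : S'} (Q' : EtBCQ.SH S' s') (φ : R →+* Q'.R) [IsLocalHom φ]
    (D : Type u) [CommRing D] [Algebra R D] (w : Spec (CommRingCat.of D) ⟶ S') (l : D →+* Q'.R)
    (hl : l.comp (algebraMap R D) = φ) (hs : Spec.map (CommRingCat.ofHom l) ≫ w = Q'.spec)
    (hD : ∀ [((maximalIdeal Q'.R).comap l).IsPrime] [((maximalIdeal Q'.R).comap l).LiesOver (maximalIdeal R)],
      Algebra.IsIntegral R (Localization.AtPrime ((maximalIdeal Q'.R).comap l))) :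
    φ.IsIntegral := by
  let p := (maximalIdeal Q'.R).comap l
  haveI hp : p.IsPrime := Ideal.IsPrime.comap l
  haveI : p.LiesOver (maximalIdeal R) := ⟨by
    rw [Ideal.under, Ideal.comap_comap, hl, maximalIdeal_comap]⟩
  haveI := hD
  let E := Localization.AtPrime p
  haveI : HenselianLocalRing E := Hensel.henselianLocalRing_atPrime R D p
  have hu : ∀ y : p.primeCompl, IsUnit (l y.1) := fun y => notMem_maximalIdeal.1 fun h => y.2 (Ideal.mem_comap.2 h)
  let lam : E →+* Q'.R := IsLocalization.lift (S := E) hu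
  have hlam : lam.comp (algebraMap D E) = l := IsLocalization.lift_comp hu
  have hφ : φ = lam.comp (algebraMap R E) := by
    rw [IsScalarTower.algebraMap_eq R D E, ← RingHom.comp_assoc, hlam, hl]
  haveI : IsLocalHom lam := ⟨fun x hx => by
    obtain ⟨a, s, rfl⟩ := IsLocalization.exists_mk'_eq p.primeCompl x
    refine (IsLocalization.AtPrime.isUnit_mk'_iff E p a s).2 fun ha => ?_
    have h1 : IsUnit (l a) := by
      have h2 := hx.mul (hu s)
      rwa [← IsLocalization.lift_eq (S := E) hu s.1, ← map_mul, IsLocalization.mk'_spec,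
        IsLocalization.lift_eq hu] at h2
    exact notMem_maximalIdeal.2 h1 (Ideal.mem_comap.1 ha)⟩
  haveI : IsLocalHom (algebraMap R E) := ⟨fun a ha => isUnit_of_map_unit φ a (by rw [hφ]; exact ha.map lam)⟩
  haveI : IsSepClosed (ResidueField E) := by
    haveI : Algebra.IsIntegral R (ResidueField E) :=
      Algebra.IsIntegral.of_surjective (IsScalarTower.toAlgHom R E _) residue_surjective
    haveI : Algebra.IsIntegral (ResidueField R) (ResidueField E) := Algebra.IsIntegral.tower_top R
    haveI : Algebra.IsAlgebraic (ResidueField R) (ResidueField E) := inferInstance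
    exact Algebra.IsAlgebraic.isSepClosed (F := ResidueField R)
  obtain ⟨ψ, ⟨-, hψ⟩, -⟩ := EtBCQ.existsUnique_strict Q' (B := E) (C := Q'.R)
    (Spec.map (CommRingCat.ofHom (algebraMap D E)) ≫ w) (RingHom.id Q'.R) lam (by
      rw [← Category.assoc, ← Spec.map_comp, ← CommRingCat.ofHom_comp, hlam, hs]
      show Q'.spec = Spec.map (𝟙 _) ≫ Q'.spec
      rw [Spec.map_id, Category.id_comp])
  rw [hφ]
  intro y
  have h2 := (Algebra.IsIntegral.isIntegral (R := R) (ψ y))
  obtain ⟨P, hP, hP'⟩ := h2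
  exact ⟨P, hP, by
    refine (congrArg (fun z => Polynomial.eval₂ (lam.comp (algebraMap R E)) z P)
      (RingHom.congr_fun hψ y).symm).trans ?_
    exact (Polynomial.hom_eval₂ P (algebraMap R E) lam (ψ y)).symm.trans ((congrArg lam hP').trans (map_zero lam))⟩

section Change

variable {X S S' : Scheme.{u}} (f : X ⟶ S) (g : S' ⟶ S)

/-- strict localisations of a fibre product along an integral extension -/
theorem bijective_tensor_strict {x' : (pullback f g : Scheme.{u})}
    (QX : EtBCQ.SH X ((pullback.fst f g).base x'))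
    (QS' : EtBCQ.SH S' ((pullback.snd f g).base x')) (QX' : EtBCQ.SH (pullback f g) x')
    {R : Type u} [CommRing R] [HenselianLocalRing R] [IsSepClosed (ResidueField R)]
    [Algebra R QX.R] [IsLocalHom (algebraMap R QX.R)] [Algebra R QS'.R] [IsLocalHom (algebraMap R QS'.R)]
    [Algebra.IsIntegral R QS'.R] (s : Spec (CommRingCat.of R) ⟶ S)
    (hX : Spec.map (CommRingCat.ofHom (algebraMap R QX.R)) ≫ s = QX.spec ≫ f)
    (hS : Spec.map (CommRingCat.ofHom (algebraMap R QS'.R)) ≫ s = QS'.spec ≫ g)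
    (ι : QX.R →+* QX'.R) [IsLocalHom ι] (θ : QS'.R →+* QX'.R) [IsLocalHom θ]
    (hι : Spec.map (CommRingCat.ofHom ι) ≫ QX.spec = QX'.spec ≫ pullback.fst f g)
    (hθ : Spec.map (CommRingCat.ofHom θ) ≫ QS'.spec = QX'.spec ≫ pullback.snd f g)
    (Λ : QX.R ⊗[R] QS'.R →+* QX'.R) (hΛ₁ : ∀ b, Λ (b ⊗ₜ 1) = ι b) (hΛ₂ : ∀ d, Λ (1 ⊗ₜ d) = θ d) :
    Function.Bijective Λ := by
  let C := QX.R ⊗[R] QS'.R
  haveI : Nontrivial C := Λ.domain_nontrivial
  haveI : IsLocalRing C := isLocalRing_tensor R QX.R QS'.R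
  haveI : Algebra.IsIntegral QX.R C := inferInstance
  haveI : HenselianLocalRing C := Hensel.henselianLocalRing_finite QX.R C
  haveI : IsLocalHom (algebraMap QX.R C) := ⟨fun a ha => isUnit_of_map_unit ι a (by
    rw [← hΛ₁]; exact ha.map Λ)⟩
  haveI : IsSepClosed (ResidueField C) := by
    haveI : Algebra.IsIntegral QX.R (ResidueField C) :=
      Algebra.IsIntegral.of_surjective (IsScalarTower.toAlgHom QX.R C _) residue_surjective
    haveI : Algebra.IsIntegral (ResidueField QX.R) (ResidueField C) := Algebra.IsIntegral.tower_top QX.R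
    haveI : Algebra.IsAlgebraic (ResidueField QX.R) (ResidueField C) := inferInstance
    exact Algebra.IsAlgebraic.isSepClosed (F := ResidueField QX.R)
  haveI : IsLocalHom Λ := by
    refine ((local_hom_TFAE Λ).out 0 4).2 ?_
    haveI : ((maximalIdeal QX'.R).comap Λ).IsPrime := Ideal.IsPrime.comap Λ
    refine eq_maximalIdeal (Ideal.isMaximal_of_isIntegral_of_isMaximal_comap (R := QX.R) _ ?_)
    rw [Ideal.comap_comap, show Λ.comp (algebraMap QX.R C) = ι from RingHom.ext hΛ₁, maximalIdeal_comap]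
    infer_instance
  let iL : QX.R →+* C := algebraMap QX.R C
  let iR : QS'.R →+* C := (Algebra.TensorProduct.includeRight : QS'.R →ₐ[R] C).toRingHom
  have hiLR : iL.comp (algebraMap R QX.R) = iR.comp (algebraMap R QS'.R) := RingHom.ext fun a => by
    show (algebraMap R QX.R a) ⊗ₜ[R] (1 : QS'.R) = 1 ⊗ₜ algebraMap R QS'.R a
    rw [← Algebra.TensorProduct.algebraMap_apply, Algebra.TensorProduct.algebraMap_apply']
  have hcond : (Spec.map (CommRingCat.ofHom iL) ≫ QX.spec) ≫ f = (Spec.map (CommRingCat.ofHom iR) ≫ QS'.spec) ≫ g := by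
    refine (Category.assoc _ _ _).trans ((congrArg (Spec.map (CommRingCat.ofHom iL) ≫ ·) hX.symm).trans ?_)
    refine Eq.trans ?_ ((congrArg (Spec.map (CommRingCat.ofHom iR) ≫ ·) hS).trans (Category.assoc _ _ _).symm)
    rw [← Category.assoc, ← Category.assoc, ← Spec.map_comp, ← Spec.map_comp, ← CommRingCat.ofHom_comp,
      ← CommRingCat.ofHom_comp, hiLR]
  let v : Spec (CommRingCat.of C) ⟶ pullback f g := pullback.lift _ _ hcond
  have hΛL : Λ.comp iL = ι := RingHom.ext hΛ₁
  have hΛR : Λ.comp iR = θ := RingHom.ext hΛ₂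
  have hΛv : Spec.map (CommRingCat.ofHom Λ) ≫ v = QX'.spec := by
    apply pullback.hom_ext
    · rw [Category.assoc, pullback.lift_fst, ← Category.assoc, ← Spec.map_comp, ← CommRingCat.ofHom_comp, hΛL, hι]
    · rw [Category.assoc, pullback.lift_snd, ← Category.assoc, ← Spec.map_comp, ← CommRingCat.ofHom_comp, hΛR, hθ]
  obtain ⟨ψ, ⟨hψv, hψ⟩, -⟩ := EtBCQ.existsUnique_strict QX' (B := C) (C := QX'.R) v (RingHom.id QX'.R) Λ (by
    rw [hΛv, CommRingCat.ofHom_id, Spec.map_id, Category.id_comp])
  have hL : ψ.comp ι = iL := by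
    refine (EtBCQ.existsUnique_strict QX (B := C) (C := QX'.R) (v ≫ pullback.fst f g) ι Λ ?_).unique
      ⟨?_, ?_⟩ ⟨(pullback.lift_fst _ _ _).symm, hΛL⟩
    · rw [← Category.assoc, hΛv, hι]
    · rw [CommRingCat.ofHom_comp, Spec.map_comp, Category.assoc, hι, ← Category.assoc, hψv]
    · rw [← RingHom.comp_assoc, hψ, RingHom.id_comp]
  have hR : ψ.comp θ = iR := by
    refine (EtBCQ.existsUnique_strict QS' (B := C) (C := QX'.R) (v ≫ pullback.snd f g) θ Λ ?_).unique
      ⟨?_, ?_⟩ ⟨(pullback.lift_snd _ _ _).symm, hΛR⟩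
    · rw [← Category.assoc, hΛv, hθ]
    · rw [CommRingCat.ofHom_comp, Spec.map_comp, Category.assoc, hθ, ← Category.assoc, hψv]
    · rw [← RingHom.comp_assoc, hψ, RingHom.id_comp]
  refine Function.bijective_iff_has_inverse.2 ⟨ψ, fun z => ?_, fun y => RingHom.congr_fun hψ y⟩
  induction z using TensorProduct.induction_on with
  | zero => simp
  | add x y hx hy => simp [hx, hy]
  | tmul b d =>
    rw [show b ⊗ₜ[R] d = b ⊗ₜ 1 * (1 ⊗ₜ d) by simp, map_mul, map_mul, hΛ₁, hΛ₂]
    exact congrArg₂ (· * ·) (RingHom.congr_fun hL b) (RingHom.congr_fun hR d)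

end Change

/-- the condition of acyclicity with constant coefficients is invariant under isomorphisms -/
theorem acyclic_const_of_iso {W W' : Scheme.{u}} (i : W ≅ W') {n : ℕ}
    (h : (∀ q : ℕ, 0 < q → Subsingleton (EtCoh.H W (EtCoh.const W (ZMod n)) q)) ∧
      Nonempty (EtCoh.H W (EtCoh.const W (ZMod n)) 0 ≃+ ZMod n)) :
    (∀ q : ℕ, 0 < q → Subsingleton (EtCoh.H W' (EtCoh.const W' (ZMod n)) q)) ∧
      Nonempty (EtCoh.H W' (EtCoh.const W' (ZMod n)) 0 ≃+ ZMod n) := by
  haveI : Surjective i.hom := ⟨(Scheme.homeoOfIso i).surjective⟩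
  haveI := EtCohDesc.pull_preservesFiniteLimits i.hom
  have e : ∀ q, EtCoh.H W' (EtCoh.const W' (ZMod n)) q ≃+ EtCoh.H W (EtCoh.const W (ZMod n)) q := fun q =>
    (AddEquiv.ofBijective _ (Groth.Agent.S0642.result i.hom (EtCoh.const W' (ZMod n)) q)).trans
      ((EtCoh.HF W q).mapIso (EtCons.pullConstM i.hom (ZMod n))).addCommGroupIsoToAddEquiv
  exact ⟨fun q hq => @Equiv.subsingleton _ _ (e q).toEquiv (h.1 q hq), ⟨(e 0).trans h.2.some⟩⟩

/-- local acyclicity after a base change inducing integral maps of strict localisations -/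
theorem isLocallyAcyclic_of_integral {X S S' : Scheme.{u}} (f : X ⟶ S) (g : S' ⟶ S)
    (hf : EtRest.IsLocallyAcyclic f)
    (hg : ∀ (s : S) (QS : EtBCQ.SH S s) (s' : S') (QS' : EtBCQ.SH S' s') (φ : QS.R →+* QS'.R), IsLocalHom φ →
      Spec.map (CommRingCat.ofHom φ) ≫ QS.spec = QS'.spec ≫ g → φ.IsIntegral) :
    EtRest.IsLocallyAcyclic (pullback.snd f g) := by
  intro x' RS' RX' _ _ _ _ _ _ _ _ _ _ _ _ hc Ω _ _ _ n hnx
  let QS' : EtBCQ.SH S' ((pullback.snd f g).base x') := { R := RS' }
  let QX' : EtBCQ.SH (pullback f g) x' := { R := RX' }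
  let x := (pullback.fst f g).base x'
  let QS := EtBCQ.mkSH S (f.base x)
  let QX := EtBCQ.mkSH X x
  let θ : QS'.R →+* QX'.R := algebraMap RS' RX'
  haveI : IsLocalHom θ := ‹IsLocalHom (algebraMap RS' RX')›
  haveI : HenselianLocalRing QS'.R := QS'.sh.henselian
  haveI : IsSepClosed (ResidueField QS'.R) := QS'.sh.isSepClosure.1
  haveI : HenselianLocalRing QX'.R := QX'.sh.henselian
  haveI : IsSepClosed (ResidueField QX'.R) := QX'.sh.isSepClosure.1
  have hθ : Spec.map (CommRingCat.ofHom θ) ≫ QS'.spec = QX'.spec ≫ pullback.snd f g :=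
    (EtBCQ.specOf_comp (pullback.snd f g) x' RS' RX' θ hc).symm
  have hxs : (QS'.spec ≫ g) (closedPoint QS'.R) = f.base x := by
    rw [Scheme.Hom.comp_apply, QS'.spec_closed]
    exact (congrArg (fun h : pullback f g ⟶ S => h x') pullback.condition).symm
  obtain ⟨φ, hφl, hφ⟩ := EtBCQ.exists_strict_hom QS (QS'.spec ≫ g) hxs
  obtain ⟨ι, hιl, hι⟩ := EtBCQ.exists_strict_hom QX (QX'.spec ≫ pullback.fst f g) (by
    rw [Scheme.Hom.comp_apply, QX'.spec_closed])
  haveI := hφl
  haveI := hιl
  haveI : IsLocalHom (θ.comp φ) := RingHom.isLocalHom_comp _ _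
  obtain ⟨ψ, ⟨hψ, hιψ⟩, -⟩ := EtBCQ.existsUnique_strict QS (B := QX.R) (C := QX'.R) (QX.spec ≫ f) (θ.comp φ) ι (by
    refine (Category.assoc _ _ _).symm.trans ((congrArg (· ≫ f) hι).trans ?_)
    refine (Category.assoc _ _ _).trans ((congrArg (QX'.spec ≫ ·) pullback.condition).trans ?_)
    refine (Category.assoc _ _ _).symm.trans ((congrArg (· ≫ g) hθ.symm).trans ?_)
    refine (Category.assoc _ _ _).trans ((congrArg (Spec.map (CommRingCat.ofHom θ) ≫ ·) hφ.symm).trans ?_)
    refine (Category.assoc _ _ _).symm.trans ?_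
    rw [← Spec.map_comp]
    rfl)
  haveI hψl : IsLocalHom ψ := ⟨fun a ha => isUnit_of_map_unit (θ.comp φ) a (by
    rw [← hιψ]; exact ha.map ι)⟩
  letI : Algebra QS.R QX.R := ψ.toAlgebra
  letI : Algebra QS.R QS'.R := φ.toAlgebra
  haveI : IsLocalHom (algebraMap QS.R QX.R) := hψl
  haveI : IsLocalHom (algebraMap QS.R QS'.R) := hφl
  haveI : Algebra.IsIntegral QS.R QS'.R := ⟨hg _ QS _ QS' φ hφl hφ⟩
  letI : Algebra QS.R Ω := ((algebraMap RS' Ω).comp φ).toAlgebra
  letI : Algebra QS.R QX'.R := (θ.comp φ).toAlgebra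
  let ιA : QX.R →ₐ[QS.R] QX'.R := { ι with commutes' := RingHom.congr_fun hιψ }
  let θA : QS'.R →ₐ[QS.R] QX'.R := { θ with commutes' := fun _ => rfl }
  let Λ := (Algebra.TensorProduct.lift ιA θA fun _ _ => .all _ _)
  have hΛ : Function.Bijective Λ.toRingHom := bijective_tensor_strict f g QX QS' QX' QS.spec hψ hφ ι θ hι hθ
    Λ.toRingHom (fun b => by
      show Λ (b ⊗ₜ 1) = ι b
      rw [Algebra.TensorProduct.lift_tmul, map_one, mul_one]
      rfl) (fun d => by
      show Λ (1 ⊗ₜ d) = θ d
      rw [Algebra.TensorProduct.lift_tmul, map_one, one_mul]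
      rfl)
  haveI : IsIso (CommRingCat.ofHom Λ.toRingHom) := (ConcreteCategory.isIso_iff_bijective _).2 hΛ
  have h1 : IsPushout (CommRingCat.ofHom (algebraMap QS.R QS'.R)) (CommRingCat.ofHom (algebraMap QS.R QX.R))
      (CommRingCat.ofHom θ) (CommRingCat.ofHom ι) := by
    refine (CommRingCat.isPushout_tensorProduct QS.R QX.R QS'.R).flip.of_iso (Iso.refl _) (Iso.refl _) (Iso.refl _)
      (asIso (CommRingCat.ofHom Λ.toRingHom)) (by simp) (by simp) ?_ ?_
    · ext d
      show Λ (1 ⊗ₜ d) = θ d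
      rw [Algebra.TensorProduct.lift_tmul, map_one, one_mul]
      rfl
    · ext b
      show Λ (b ⊗ₜ 1) = ι b
      rw [Algebra.TensorProduct.lift_tmul, map_one, mul_one]
      rfl
  have h2 := h1.paste_horiz (CommRingCat.isPushout_tensorProduct RS' RX' Ω).flip
  have h3 := (CommRingCat.isPushout_tensorProduct QS.R QX.R Ω).flip
  let e : CommRingCat.of (QX.R ⊗[QS.R] Ω) ≅ CommRingCat.of (RX' ⊗[RS'] Ω) :=
    h3.isoIsPushout _ _ (h2 : IsPushout (CommRingCat.ofHom (algebraMap QS.R Ω))
      (CommRingCat.ofHom (algebraMap QS.R QX.R)) _ _)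
  refine acyclic_const_of_iso (Scheme.Spec.mapIso e.op).symm (hf x QS.R QX.R (EtBCQ.comp_alg_of_spec f QS QX ψ hψ) Ω n ?_)
  intro h0
  refine hnx ?_
  have h4 := congrArg ((pullback.fst f g).residueFieldMap x').hom h0
  rwa [map_natCast, map_zero] at h4

/-- integral base change -/
theorem isLocallyAcyclic_pullback_integral {X S S' : Scheme.{u}} (f : X ⟶ S) (g : S' ⟶ S) [IsIntegralHom g]
    (hf : EtRest.IsLocallyAcyclic f) : EtRest.IsLocallyAcyclic (pullback.snd f g) := by
  refine isLocallyAcyclic_of_integral f g hf fun s QS s' QS' φ hφl hφ => ?_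
  haveI := hφl
  let b := pullback.snd g QS.spec
  haveI : IsIntegralHom b := MorphismProperty.pullback_snd _ _ inferInstance
  haveI : IsAffine (pullback g QS.spec) := isAffine_of_isAffineHom b
  let k : Spec (CommRingCat.of QS'.R) ⟶ pullback g QS.spec :=
    pullback.lift QS'.spec (Spec.map (CommRingCat.ofHom φ)) hφ.symm
  let D := Γ(pullback g QS.spec, ⊤)
  let j := (pullback g QS.spec).isoSpec.inv
  obtain ⟨a, ha⟩ := Spec.map_surjective (j ≫ b)
  obtain ⟨l, hl⟩ := Spec.map_surjective (k ≫ (pullback g QS.spec).isoSpec.hom)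
  letI : Algebra QS.R D := a.hom.toAlgebra
  have hai : a.hom.IsIntegral := by
    rw [← IsIntegralHom.SpecMap_iff, ha]
    infer_instance
  haveI : Algebra.IsIntegral QS.R D := ⟨hai⟩
  refine isIntegral_of_model QS' φ D (j ≫ pullback.fst g QS.spec) l.hom ?_ ?_ ?_
  · refine congrArg CommRingCat.Hom.hom (show a ≫ l = CommRingCat.ofHom φ from Spec.map_injective ?_)
    rw [Spec.map_comp, hl, ha, Category.assoc, Iso.hom_inv_id_assoc, pullback.lift_snd]
  · show Spec.map l ≫ _ = _
    rw [hl, Category.assoc, Iso.hom_inv_id_assoc, pullback.lift_fst]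
  · intro hp hlo
    refine Hensel.isIntegral_atPrime QS.R D _ fun t => ?_
    haveI : Module.Finite QS.R (Algebra.adjoin QS.R (t : Set D)) :=
      Module.Finite.of_fg (fg_adjoin_of_finite t.finite_toSet fun x _ => Algebra.IsIntegral.isIntegral x)
    exact ⟨Algebra.adjoin QS.R (t : Set D), inferInstance, inferInstance, Subalgebra.val _,
      fun z hz => ⟨⟨z, Algebra.subset_adjoin hz⟩, rfl⟩, inferInstance, inferInstance⟩

/-- quasi-finite base change -/
theorem isLocallyAcyclic_pullback_quasiFinite {X S S' : Scheme.{u}} (f : X ⟶ S) (g : S' ⟶ S) [LocallyOfFiniteType g]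
    [LocallyQuasiFinite g] (hf : EtRest.IsLocallyAcyclic f) : EtRest.IsLocallyAcyclic (pullback.snd f g) := by
  refine isLocallyAcyclic_of_integral f g hf fun s QS s' QS' φ hφl hφ => ?_
  haveI := hφl
  let P := pullback g QS.spec
  let b : P ⟶ Spec (CommRingCat.of QS.R) := pullback.snd g QS.spec
  let k : Spec (CommRingCat.of QS'.R) ⟶ P :=
    pullback.lift QS'.spec (Spec.map (CommRingCat.ofHom φ)) hφ.symm
  obtain ⟨U, hU, hz, -⟩ := exists_isAffineOpen_mem_and_subset (X := P) (x := k (closedPoint QS'.R)) (U := ⊤) trivial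
  have hr : Set.range k ⊆ Set.range hU.fromSpec := by
    rintro _ ⟨y, rfl⟩
    rw [hU.range_fromSpec]
    exact ((IsLocalRing.specializes_closedPoint y).map k.continuous).mem_open U.2 hz
  obtain ⟨a, ha⟩ := Spec.map_surjective (hU.fromSpec ≫ b)
  obtain ⟨l, hl⟩ := Spec.map_surjective (IsOpenImmersion.lift hU.fromSpec k hr)
  letI : Algebra QS.R Γ(P, U) := a.hom.toAlgebra
  haveI : LocallyOfFiniteType b := MorphismProperty.pullback_snd _ _ inferInstance
  haveI : LocallyQuasiFinite b := MorphismProperty.pullback_snd _ _ inferInstance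
  haveI : Algebra.FiniteType QS.R Γ(P, U) := by
    have h : LocallyOfFiniteType (Spec.map a) := by rw [ha]; infer_instance
    exact (HasRingHomProperty.Spec_iff (P := @LocallyOfFiniteType)).mp h
  haveI : Algebra.QuasiFinite QS.R Γ(P, U) := by
    have h : LocallyQuasiFinite (Spec.map a) := by rw [ha]; infer_instance
    exact (HasRingHomProperty.Spec_iff (P := @LocallyQuasiFinite)).mp h
  refine isIntegral_of_model QS' φ Γ(P, U) (hU.fromSpec ≫ pullback.fst g QS.spec) l.hom ?_ ?_ ?_
  · refine congrArg CommRingCat.Hom.hom (show a ≫ l = CommRingCat.ofHom φ from Spec.map_injective ?_)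
    rw [Spec.map_comp, hl, ha, ← Category.assoc, IsOpenImmersion.lift_fac, pullback.lift_snd]
  · show Spec.map l ≫ _ = _
    rw [hl, ← Category.assoc, IsOpenImmersion.lift_fac, pullback.lift_fst]
  · intro hp hlo
    haveI := Hensel.finite_atPrime QS.R Γ(P, U) ((maximalIdeal QS'.R).comap l.hom)
    exact Algebra.IsIntegral.of_finite _ _

end Groth.Agent.EtAcycX
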