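import Groth.Agent.EtAcycX.ConstHens
import Groth.Agent.EtAcycX.EtRestLA
import Groth.Agent.EtCons.PullFLC
import Mathlib

/-! Local acyclicity relative to locally constant torsion sheaves. -/

set_option autoImplicit false
set_option backward.isDefEq.respectTransparency false
set_option backward.isDefEq.respectTransparency.types false
set_option linter.unusedSectionVars false
set_option linter.auxLemma false
set_option linter.overlappingInstances false
set_option linter.style.haveILetI false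
set_option maxHeartbeats 1000000

universe u

open CategoryTheory CategoryTheory.Limits CategoryTheory.Abelian AlgebraicGeometry Opposite IsLocalRing
open scoped TensorProduct

noncomputable section

namespace Groth.Agent.EtAcycX

local notation "rs" => Groth.Agent.EtFLC.res

section Restr

variable {X : Scheme.{u}}

/-- trivialisations with values of any size -/
theorem nonempty_restr_iso_constB (F : EtCoh.Ab X) (U : X.Etale) [Etale U.hom] [EtShriek.JCont U.hom]
    {M : Type (u + 1)} [AddCommGroup M] (σ : M →+ EtCoh.sect F U) (hσ : EtFLC.IsTriv F U σ) :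
    Nonempty ((EtShriek.restrAlong U.hom).obj F ≅ constB U.left (AddCommGrpCat.of M)) := by
  let C := EtShriek.compEtale U.hom
  let g : ∀ T : U.left.Etale, C.obj T ⟶ U := fun T => MorphismProperty.Over.homMk T.hom rfl
  let R := (EtShriek.restrAlong U.hom).obj F
  let ψ : (Functor.const U.left.Etaleᵒᵖ).obj (AddCommGrpCat.of M) ⟶ R.obj :=
    { app := fun T => AddCommGrpCat.ofHom ((rs F (g T.unop)).comp σ)
      naturality := fun T T' k => by
        ext m
        show rs F (g T'.unop) (σ m) = rs F (C.map k.unop) (rs F (g T.unop) (σ m))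
        rw [EtFLC.res_res]
        congr 2
        apply MorphismProperty.Over.Hom.ext
        exact (MorphismProperty.Over.w k.unop).symm }
  haveI : Presheaf.IsLocallyInjective U.left.smallEtaleTopology ψ := by
    refine ⟨fun {T} a b hab => (EtFLC.mem_iff _).2 fun v => ⟨T.unop, 𝟙 _, v, ?_, rfl⟩⟩
    exact congrArg _ (hσ.injective (g T.unop) v hab)
  haveI : Presheaf.IsLocallySurjective U.left.smallEtaleTopology ψ := by
    refine ⟨fun {T} s => (EtFLC.mem_iff _).2 fun v => ?_⟩
    obtain ⟨W, h, w, m, hw, hm⟩ := hσ.surj (g T) s v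
    let V' := (EtShriek.compEtaleLift U.hom h).1
    let i : C.obj V' ≅ W := (EtShriek.compEtaleLift U.hom h).2
    let a : V' ⟶ T := MorphismProperty.Over.homMk h.left rfl
    have ha : C.map a = i.hom ≫ h := by
      apply MorphismProperty.Over.Hom.ext
      exact (Category.id_comp _).symm
    have hg : g V' = i.hom ≫ h ≫ g T := by
      apply MorphismProperty.Over.Hom.ext
      show h.left ≫ T.hom = 𝟙 _ ≫ h.left ≫ T.hom
      exact (Category.id_comp _).symm
    refine ⟨V', a, w, ⟨m, ?_⟩, hw⟩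
    show rs F (g V') (σ m) = rs F (C.map a) s
    rw [hg, ha, ← EtFLC.res_res F i.hom, ← EtFLC.res_res F i.hom, hm]
  haveI : IsIso ((presheafToSheaf U.left.smallEtaleTopology AddCommGrpCat.{u + 1}).map ψ) := by
    rw [← GrothendieckTopology.W_iff, GrothendieckTopology.W_iff_isLocallyBijective]
    exact ⟨inferInstance, inferInstance⟩
  exact ⟨(sheafificationIso R) ≪≫
    (asIso ((presheafToSheaf U.left.smallEtaleTopology AddCommGrpCat.{u + 1}).map ψ)).symm⟩

/-- constant sheaves of torsion groups are torsion sheaves -/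
theorem isLTorsion_constB {L : Set ℕ} (M : AddCommGrpCat.{u + 1}) (hM : ∀ m : M, ∃ n, EtAcyc.PrimesIn L n ∧ n • m = 0) :
    EtAcyc.IsLTorsion L (constB X M) := by
  intro U s x
  let cP : X.Etaleᵒᵖ ⥤ AddCommGrpCat.{u + 1} := (Functor.const _).obj M
  haveI : Presheaf.IsLocallySurjective X.smallEtaleTopology (toSheafify X.smallEtaleTopology cP) := inferInstance
  obtain ⟨V, g, v, ⟨m, hm⟩, hv⟩ := (EtFLC.mem_iff _).1
    (Presheaf.imageSieve_mem X.smallEtaleTopology (toSheafify X.smallEtaleTopology cP) s) x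
  obtain ⟨n, hn, hnm⟩ := hM m
  refine ⟨V, g, n, ⟨v, hv⟩, hn, ?_⟩
  refine (congrArg (n • ·) hm.symm).trans ((map_nsmul _ n m).symm.trans ?_)
  exact (congrArg _ hnm).trans (map_zero _)

end Restr

attribute [local instance 100000] EtCoh.H._proof_1 Groth.Agent.EtMV.hext
attribute [local instance 200000] Groth.Agent.EtMV.hextAb
attribute [local instance 300000] CategoryTheory.Preadditive.preadditiveHasZeroMorphisms
  CategoryTheory.Abelian.toPreadditive

section Hens

variable (R : Type u) [CommRing R] [HenselianLocalRing R] [IsSepClosed (ResidueField R)]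

/-- pullbacks of locally constant sheaves to strictly henselian spectra are constant -/
theorem exists_iso_constB_pull {X : Scheme.{u}} (a : Spec (CommRingCat.of R) ⟶ X) (F : EtCoh.Ab X)
    (hF : EtRest.IsLocallyConstant F) :
    ∃ M : AddCommGrpCat.{u + 1}, Nonempty ((EtCoh.pull a).obj F ≅ constB (Spec (CommRingCat.of R)) M) := by
  obtain ⟨U, u₀, M, iM, σ, hu, hσ⟩ := (EtFLC.isLC_iff F).1 hF (a (closedPoint R))
  haveI : Etale U.hom := U.prop
  haveI := EtMV.jcont_etale U.hom
  obtain ⟨e⟩ := nonempty_restr_iso_constB F U σ hσ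
  obtain ⟨z, hz, -⟩ := Scheme.Pullback.exists_preimage_pullback (f := a) (g := U.hom) (closedPoint R) u₀ hu.symm
  let W : (Spec (CommRingCat.of R)).Etale := MorphismProperty.Over.mk ⊤ (pullback.fst a U.hom) inferInstance
  obtain ⟨y, -⟩ := Scheme.pointSmallEtaleFiberObjToPreimage_surjective (EtHens.pt R)
    (EtBCQ.Spec_closedPoint' (IsLocalRing.residue R) ▸ by
      rw [Subsingleton.elim (α := Spec (CommRingCat.of (IsLocalRing.ResidueField R))) default
        (IsLocalRing.closedPoint (IsLocalRing.ResidueField R))]) W ⟨z, hz⟩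
  obtain ⟨s, hs, -⟩ := EtHens.exists_section R W y
  let k : Spec (CommRingCat.of R) ⟶ U.left := s ≫ pullback.snd a U.hom
  have hk : k ≫ U.hom = a := by
    refine (Category.assoc _ _ _).trans ?_
    rw [← pullback.condition, ← Category.assoc]
    exact (congrArg (· ≫ a) hs).trans (Category.id_comp a)
  obtain ⟨i⟩ := EtCons.nonempty_pull_pull k U.hom a hk
  exact ⟨AddCommGrpCat.of M, ⟨(i.app F).symm ≪≫
    (EtCoh.pull k).mapIso (((EtPushStalk.restrPullIso U.hom).app F).symm ≪≫ e) ≪≫
      (EtCore.pullConstIso k).app _⟩⟩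

/-- torsion of the value of a constant pullback -/
theorem nsmul_eq_zero_of_stalk {X : Scheme.{u}} (a : Spec (CommRingCat.of R) ⟶ X) (F : EtCoh.Ab X)
    {M : AddCommGrpCat.{u + 1}} (i : (EtCoh.pull a).obj F ≅ constB (Spec (CommRingCat.of R)) M) (P : ℕ → Prop)
    (h : ∀ s : (EtCoh.stalk (EtHens.pt R ≫ a)).obj F, ∃ n, P n ∧ n • s = 0) (m : M) :
    ∃ n, P n ∧ n • m = 0 := by
  let g := ((Scheme.pointSmallEtale (EtHens.pt R)).toPresheafFiber (EtCoh.top (Spec (CommRingCat.of R)))
    (EtHens.pt₀ R) (constB (Spec (CommRingCat.of R)) M).obj)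
  let e : (EtCoh.stalk (EtHens.pt R ≫ a)).obj F ≅ (EtCoh.stalk (EtHens.pt R)).obj (constB (Spec (CommRingCat.of R)) M) :=
    (Groth.Agent.EtStalk.stalkPullIso a (EtHens.pt R)).app F ≪≫ (EtCoh.stalk (EtHens.pt R)).mapIso i
  let c : M →+ (EtCoh.stalk (EtHens.pt R)).obj (constB (Spec (CommRingCat.of R)) M) :=
    g.hom.comp ((EtCore.constAdj _).unit.app M).hom
  have hc : Function.Injective c := (EtHens.bijective_germ R _).1.comp (constTop_henselian R M).1
  obtain ⟨n, hn, hs⟩ := h (e.inv.hom (c m))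
  refine ⟨n, hn, hc ?_⟩
  rw [map_nsmul, map_zero]
  have := congrArg e.hom.hom hs
  rw [map_nsmul, map_zero] at this
  rwa [show e.hom.hom (e.inv.hom (c m)) = c m from
    ConcreteCategory.congr_hom e.inv_hom_id (c m)] at this

end Hens

theorem bijective_Hpull_of_iso {X Y : Scheme.{u}} (h : Y ⟶ X) [PreservesFiniteLimits (EtCoh.pull h)]
    {F G : EtCoh.Ab X} (i : F ≅ G) {q : ℕ} (hG : Function.Bijective (EtCore.Hpull h G q)) :
    Function.Bijective (EtCore.Hpull h F q) := by
  have key : EtCore.Hpull h G q ∘ (EtCoh.HF X q).map i.hom =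
      (EtCoh.HF Y q).map ((EtCoh.pull h).map i.hom) ∘ EtCore.Hpull h F q :=
    funext fun x => Hpull_comp_mk₀ h x i.hom
  have h1 : Function.Bijective (EtCore.Hpull h G q ∘ (EtCoh.HF X q).map i.hom) :=
    hG.comp ((EtCoh.HF X q).mapIso i).addCommGroupIsoToAddEquiv.bijective
  rw [key] at h1
  exact (Function.Bijective.of_comp_iff'
    ((EtCoh.HF Y q).mapIso ((EtCoh.pull h).mapIso i)).addCommGroupIsoToAddEquiv.bijective _).1 h1

section Core

variable {R : Type u} [CommRing R] [HenselianLocalRing R] [IsSepClosed (ResidueField R)]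
  {Ω : Type u} [Field Ω] [IsSepClosed Ω] {W : Scheme.{u}}
  (m : W ⟶ Spec (CommRingCat.of R)) (b : W ⟶ Spec (CommRingCat.of Ω)) [QuasiCompact b] [QuasiSeparated b]

/-- cohomology of constant sheaves on a scheme with acyclic geometric fibres over a separably closed field -/
theorem bijective_Hpull_van [PreservesFiniteLimits (EtCoh.pull m)] {L : Set ℕ} {q : ℕ}
    (hb : EtAcyc.GeomFibresAcyclicN L q b) (M : AddCommGrpCat.{u + 1})
    (hM : ∀ x : M, ∃ n, EtAcyc.PrimesIn L n ∧ n • x = 0) :
    Function.Bijective (EtCore.Hpull m (constB (Spec (CommRingCat.of R)) M) q) := by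
  haveI := EtCohDesc.pull_preservesFiniteLimits b
  haveI : HenselianLocalRing Ω := inferInstance
  haveI : IsSepClosed (ResidueField Ω) :=
    Hensel.isSepClosed_of_ringEquiv (RingEquiv.ofBijective (residue Ω) ⟨(residue Ω).injective, residue_surjective⟩)
  have hz : ZDim (Spec (CommRingCat.of Ω)) := zdim_spec _ fun a => absFlat_of_isField (Field.toIsField Ω) a
  have hc := (compN_of_zdim hz b hb _ (isLTorsion_constB (X := Spec (CommRingCat.of Ω)) M hM)).1 q le_rfl
  cases q with
  | zero =>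
    exact (bijective_Hpull_constB_iff m (constTop_henselian R) M).2
      ((bijective_Hpull_constB_iff b (constTop_henselian Ω) M).1 hc)
  | succ q =>
    haveI := subsingleton_H_henselian R (constB (Spec (CommRingCat.of R)) M) q
    haveI := subsingleton_H_henselian Ω (constB (Spec (CommRingCat.of Ω)) M) q
    haveI h1 : Subsingleton ((EtCoh.HF W (q + 1)).obj ((constantSheaf (Spec (CommRingCat.of Ω)).smallEtaleTopology
        AddCommGrpCat ⋙ EtCoh.pull b).obj M)) :=
      (hc.2.subsingleton : Subsingleton (EtCoh.H W ((EtCoh.pull b).obj (constB (Spec (CommRingCat.of Ω)) M)) (q + 1)))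
    haveI : Subsingleton (EtCoh.H W ((EtCoh.pull m).obj (constB (Spec (CommRingCat.of R)) M)) (q + 1)) :=
      ((EtCoh.HF W (q + 1)).mapIso ((EtCore.pullConstIso m).app M ≪≫
        ((EtCore.pullConstIso b).app M).symm)).addCommGroupIsoToAddEquiv.toEquiv.subsingleton
    exact ⟨fun _ _ _ => Subsingleton.elim _ _, fun _ => ⟨0, Subsingleton.elim _ _⟩⟩

end Core

section VC

variable (RS RX Ω : Type u) [CommRing RS] [CommRing RX] [Field Ω] [Algebra RS RX] [Algebra RS Ω]

/-- the projection of a variety of vanishing cycles to the point -/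
abbrev vcProj : Spec (CommRingCat.of (RX ⊗[RS] Ω)) ⟶ Spec (CommRingCat.of Ω) :=
  Spec.map (CommRingCat.ofHom (Algebra.TensorProduct.includeRight (R := RS) (A := RX) (B := Ω)).toRingHom)

theorem geomFibres_vcProj {L : Set ℕ} {n : ℕ}
    (h : ∀ (Ω' : Type u) [Field Ω'] [IsSepClosed Ω'] [Algebra RS Ω'],
      EtAcyc.IsAcyclicSchemeN L n (Spec (CommRingCat.of (RX ⊗[RS] Ω')))) :
    EtAcyc.GeomFibresAcyclicN L n (vcProj RS RX Ω) := by
  intro y Ω' _ _ _ _
  let f := Spec.map (CommRingCat.ofHom (algebraMap RS RX))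
  let s := Spec.map (CommRingCat.ofHom (algebraMap RS Ω))
  let t := EtAcyc.geomPt (Spec (CommRingCat.of Ω)) y Ω'
  have sq : IsPullback (Spec.map (CommRingCat.ofHom (algebraMap RX (RX ⊗[RS] Ω)))) (vcProj RS RX Ω) f s :=
    isPullback_SpecMap_of_isPushout _ _ _ _ (CommRingCat.isPushout_tensorProduct RS RX Ω)
  have sq' := (IsPullback.of_hasPullback (vcProj RS RX Ω) t).paste_horiz sq
  obtain ⟨τ, hτ⟩ := Spec.map_surjective (t ≫ s)
  letI : Algebra RS Ω' := τ.hom.toAlgebra
  have e : Spec.map (CommRingCat.ofHom (algebraMap RS Ω')) = t ≫ s := hτ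
  exact isAcyclicSchemeN_of_iso ((pullbackSpecIso RS RX Ω').symm ≪≫ pullback.congrHom rfl e ≪≫ sq'.isoPullback.symm)
    (h Ω')

end VC

/-- local acyclicity relative to a locally constant sheaf -/
theorem bijective_HpullVia_lc {X S : Scheme.{u}} {f : X ⟶ S} (hf : EtRest.IsLocallyAcyclic f)
    {F : EtCoh.Ab X} (hF : EtRest.IsLocallyConstant F)
    (htor : ∀ (Ω : Type u) [Field Ω] [IsSepClosed Ω] (ξ : Spec (CommRingCat.of Ω) ⟶ X) (s : (EtCoh.stalk ξ).obj F),
      ∃ n : ℕ, 0 < n ∧ (n : Ω) ≠ 0 ∧ n • s = 0)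
    (x : X) (RS RX : Type u) [CommRing RS] [CommRing RX] [IsLocalRing RS] [IsLocalRing RX]
    [Algebra (S.presheaf.stalk (f.base x)) RS] [IsLocalHom (algebraMap (S.presheaf.stalk (f.base x)) RS)]
    [_root_.Hensel.IsStrictHenselization (S.presheaf.stalk (f.base x)) RS]
    [Algebra (X.presheaf.stalk x) RX] [IsLocalHom (algebraMap (X.presheaf.stalk x) RX)]
    [_root_.Hensel.IsStrictHenselization (X.presheaf.stalk x) RX]
    [Algebra RS RX] [IsLocalHom (algebraMap RS RX)]
    (hc : (algebraMap RS RX).comp (algebraMap (S.presheaf.stalk (f.base x)) RS) =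
      (algebraMap (X.presheaf.stalk x) RX).comp (f.stalkMap x).hom)
    (Ω : Type u) [Field Ω] [IsSepClosed Ω] [Algebra RS Ω]
    (m : Spec (CommRingCat.of (RX ⊗[RS] Ω)) ⟶ Spec (CommRingCat.of RX)) [PreservesFiniteLimits (EtCoh.pull m)]
    (a : Spec (CommRingCat.of RX) ⟶ X) (a' : Spec (CommRingCat.of (RX ⊗[RS] Ω)) ⟶ X) (w : m ≫ a = a') (q : ℕ) :
    Function.Bijective (EtCore.HpullVia m a a' w F q) := by
  haveI := _root_.Hensel.IsStrictHenselization.henselian (R := X.presheaf.stalk x) (S := RX)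
  haveI hsep := _root_.Hensel.IsStrictHenselization.isSepClosure (R := X.presheaf.stalk x) (S := RX)
  haveI : IsSepClosed (ResidueField RX) := hsep.1
  let L : Set ℕ := {ℓ | ℓ.Prime ∧ (ℓ : X.residueField x) ≠ 0}
  obtain ⟨M, ⟨i⟩⟩ := exists_iso_constB_pull RX a F hF
  have hM : ∀ y : M, ∃ n, EtAcyc.PrimesIn L n ∧ n • y = 0 := by
    refine fun y => nsmul_eq_zero_of_stalk RX a F i (EtAcyc.PrimesIn L) (fun s => ?_) y
    obtain ⟨n, hn, hnΩ, hns⟩ := htor _ (EtHens.pt RX ≫ a) s
    refine ⟨n, ⟨hn, fun p hp hd => ⟨hp, fun h0 => hnΩ ?_⟩⟩, hns⟩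
    obtain ⟨c, rfl⟩ := hd
    have h1 := congrArg (algebraMap (ResidueField (X.presheaf.stalk x)) (ResidueField RX))
      (show (p : ResidueField (X.presheaf.stalk x)) = 0 from h0)
    rw [map_natCast, map_zero] at h1
    rw [Nat.cast_mul, h1, zero_mul]
  obtain ⟨n₀, hn₀, hn₀x⟩ : ∃ n₀ : ℕ, 1 < n₀ ∧ (n₀ : X.residueField x) ≠ 0 := by
    by_cases h2 : ((2 : ℕ) : X.residueField x) = 0
    · refine ⟨3, by omega, fun h3 => one_ne_zero (α := X.residueField x) ?_⟩
      calc (1 : X.residueField x) = ((3 : ℕ) : X.residueField x) - ((2 : ℕ) : X.residueField x) := by norm_num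
        _ = 0 := by rw [h3, h2, sub_zero]
    · exact ⟨2, by omega, h2⟩
  have hb : EtAcyc.GeomFibresAcyclicN L q (vcProj RS RX Ω) := by
    refine geomFibres_vcProj RS RX Ω fun Ω' _ _ _ => ?_
    obtain ⟨h1, h2⟩ := nonempty_connected_of_H_zero hn₀ (hf x RS RX hc Ω' n₀ hn₀x).2
    exact ⟨h1, h2, fun ℓ hℓ hℓL j hj _ => (hf x RS RX hc Ω' ℓ hℓL.2).1 j hj⟩
  haveI := isIso_ψh m a a' w F
  exact (bijective_comp_iso (EtLimit.ψh m a a' w F) q).comp
    (bijective_Hpull_of_iso m i (bijective_Hpull_van m (vcProj RS RX Ω) hb M hM))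

end Groth.Agent.EtAcycX
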