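import Groth.Agent.EtBCQ.StalkIff
import Groth.Agent.EtBCQ.DegZero
import Groth.Agent.EtBCQ.StrictSys
import Groth.Agent.EtAcycX.LCVan
import Groth.Agent.WeakEt.StrictHens
import Groth.Agent.S0620
import Groth.Agent.EtPushStalk.Counit
import Groth.Agent.EtPushStalk.Lift
import Groth.Prelude.Def_SGA4h
import Mathlib

/-! Local acyclicity along the closed fibre of a strict localisation of the base. -/

set_option autoImplicit false
set_option backward.isDefEq.respectTransparency false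
set_option backward.isDefEq.respectTransparency.types false
set_option linter.unusedSectionVars false
set_option linter.auxLemma false
set_option linter.overlappingInstances false
set_option linter.style.haveILetI false
set_option maxHeartbeats 1000000

universe u

open CategoryTheory CategoryTheory.Limits CategoryTheory.Abelian AlgebraicGeometry Opposite IsLocalRing
open scoped TensorProduct

noncomputable section

namespace Groth.Agent.EtAcycX

/-- strict localisations of a scheme over a strict localisation of the base -/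
theorem exists_strict_over {X S : Scheme.{u}} (f : X ⟶ S) {s : S} (QS : EtBCQ.SH S s) {X' : Scheme.{u}}
    (p : X' ⟶ X) (f' : X' ⟶ Spec (CommRingCat.of QS.R)) (cX : IsPullback p f' f QS.spec) (x' : X')
    (hx' : f' x' = closedPoint QS.R) :
    ∃ (QX : EtBCQ.SH X (p x')) (ψ : QS.R →+* QX.R) (v : Spec (CommRingCat.of QX.R) ⟶ X')
      (_ : IsLocalHom ψ) (_ : Algebra (X'.presheaf.stalk x') QX.R)
      (_ : IsLocalHom (algebraMap (X'.presheaf.stalk x') QX.R))
      (_ : _root_.Hensel.IsStrictHenselization (X'.presheaf.stalk x') QX.R),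
      Spec.map (CommRingCat.ofHom ψ) ≫ QS.spec = QX.spec ≫ f ∧ v ≫ p = QX.spec ∧
        v ≫ f' = Spec.map (CommRingCat.ofHom ψ) ∧ Hens2.specOf X' x' QX.R = v := by
  let Q := EtBCQ.mkSH X' x'
  let QX := EtBCQ.mkSH X (p x')
  obtain ⟨ι, hιl, hι⟩ := EtBCQ.exists_strict_hom QX (Q.spec ≫ p) (by rw [Scheme.Hom.comp_apply, Q.spec_closed])
  haveI := hιl
  obtain ⟨α, hα⟩ := Spec.map_surjective (Q.spec ≫ f')
  haveI hαl : IsLocalHom α.hom := by
    refine ((local_hom_TFAE α.hom).out 0 4).2 ?_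
    have h1 : Spec.map α (closedPoint Q.R) = closedPoint QS.R := by
      rw [hα, Scheme.Hom.comp_apply, Q.spec_closed, hx']
    exact congrArg PrimeSpectrum.asIdeal h1
  obtain ⟨ψ, ⟨hψ, hιψ⟩, -⟩ := EtBCQ.existsUnique_strict QS (B := QX.R) (C := Q.R) (QX.spec ≫ f) α.hom ι (by
    refine (Category.assoc _ _ _).symm.trans ((congrArg (· ≫ f) hι).trans ?_)
    refine (Category.assoc _ _ _).trans ((congrArg (Q.spec ≫ ·) cX.w).trans ?_)
    exact (Category.assoc _ _ _).symm.trans (congrArg (· ≫ QS.spec) hα.symm))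
  haveI hψl : IsLocalHom ψ := ⟨fun a ha => isUnit_of_map_unit α.hom a (by rw [← hιψ]; exact ha.map ι)⟩
  let v : Spec (CommRingCat.of QX.R) ⟶ X' := cX.lift QX.spec (Spec.map (CommRingCat.ofHom ψ)) hψ.symm
  have hιv : Spec.map (CommRingCat.ofHom ι) ≫ v = Q.spec := by
    apply cX.hom_ext
    · rw [Category.assoc, cX.lift_fst, hι]
    · rw [Category.assoc, cX.lift_snd, ← Spec.map_comp, ← CommRingCat.ofHom_comp, hιψ, ← hα]
      rfl
  obtain ⟨χ, ⟨hχv, hχ⟩, -⟩ := EtBCQ.existsUnique_strict Q (B := QX.R) (C := Q.R) v (RingHom.id Q.R) ι (by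
    rw [hιv, CommRingCat.ofHom_id, Spec.map_id, Category.id_comp])
  have hχι : χ.comp ι = RingHom.id QX.R := by
    refine (EtBCQ.existsUnique_strict QX (B := QX.R) (C := Q.R) QX.spec ι ι rfl).unique ⟨?_, ?_⟩
      ⟨by rw [CommRingCat.ofHom_id, Spec.map_id, Category.id_comp], RingHom.comp_id ι⟩
    · rw [CommRingCat.ofHom_comp, Spec.map_comp, Category.assoc, hι, ← Category.assoc, hχv, cX.lift_fst]
    · rw [← RingHom.comp_assoc, hχ, RingHom.id_comp]
  let e : Q.R ≃+* QX.R := RingEquiv.ofRingHom χ ι hχι hχ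
  haveI : IsLocalHom χ := ⟨fun a ha => by
    have := ha.map ι
    rwa [show ι (χ a) = a from RingHom.congr_fun hχ a] at this⟩
  letI alg : Algebra (X'.presheaf.stalk x') QX.R := (χ.comp (algebraMap (X'.presheaf.stalk x') Q.R)).toAlgebra
  haveI hl : IsLocalHom (algebraMap (X'.presheaf.stalk x') QX.R) :=
    RingHom.isLocalHom_comp χ (algebraMap (X'.presheaf.stalk x') Q.R)
  haveI hsh : _root_.Hensel.IsStrictHenselization (X'.presheaf.stalk x') QX.R :=
    WeakEt.isStrictHenselization_of_algEquiv (AlgEquiv.ofRingEquiv (f := e) fun _ => rfl)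
  refine ⟨QX, ψ, v, hψl, alg, hl, hsh, hψ, cX.lift_fst _ _ _, cX.lift_snd _ _ _, ?_⟩
  exact (EtBCQ.spec_comp_spec Q χ).symm.trans hχv

section Id

variable {X : Scheme.{u}}

theorem isIso_counit_id (G : EtCoh.Ab X) : IsIso ((EtCoh.pullPushAdj (𝟙 X)).counit.app G) :=
  EtPushStalk.isIso_counit (𝟙 X) (EtPushStalk.liftProp_of_openImmersion (𝟙 X)) G

theorem subsingleton_stalk_rpush_id (G : EtCoh.Ab X) (x : X) (R : Type u) [CommRing R] [IsLocalRing R]
    [Algebra (X.presheaf.stalk x) R] [IsLocalHom (algebraMap (X.presheaf.stalk x) R)]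
    [_root_.Hensel.IsStrictHenselization (X.presheaf.stalk x) R] [HenselianLocalRing R] [IsSepClosed (ResidueField R)]
    (q : ℕ) : Subsingleton ((EtCoh.stalk (Hens2.geomPt X x R)).obj ((EtCoh.Rpush (𝟙 X) (q + 1)).obj G)) := by
  let P := pullback (𝟙 X) (Hens2.specOf X x R)
  let e : P ⟶ Spec (CommRingCat.of R) := pullback.snd (𝟙 X) (Hens2.specOf X x R)
  let H := (EtCoh.pull (pullback.fst (𝟙 X) (Hens2.specOf X x R))).obj G
  haveI : IsIso e := inferInstance
  let G' := (EtCoh.pull (inv e)).obj H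
  haveI := EtCohDesc.pull_preservesFiniteLimits e
  haveI := subsingleton_H_henselian R G' q
  haveI : Surjective e := ⟨(Scheme.homeoOfIso (asIso e)).surjective⟩
  haveI h1 : Subsingleton ((EtCoh.HF P (q + 1)).obj ((EtCoh.pull e).obj G')) :=
    (Groth.Agent.S0642.result e G' (q + 1)).2.subsingleton
  obtain ⟨i⟩ := EtCons.nonempty_pull_pull e (inv e) (𝟙 P) (IsIso.hom_inv_id e)
  haveI h1' : Subsingleton ((EtCoh.HF P (q + 1)).obj ((EtCoh.pull (inv e) ⋙ EtCoh.pull e).obj H)) := h1
  haveI h2 : Subsingleton ((EtCoh.HF P (q + 1)).obj ((EtCoh.pull (𝟙 P)).obj H)) :=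
    ((EtCoh.HF P (q + 1)).mapIso (i.app H).symm).addCommGroupIsoToAddEquiv.toEquiv.subsingleton
  haveI h2' : Subsingleton (EtCoh.H P ((EtCoh.pull (𝟙 P)).obj H) (q + 1)) := h2
  haveI : Subsingleton (EtCoh.H P H (q + 1)) := by
    haveI := EtCohDesc.pull_preservesFiniteLimits (𝟙 P)
    haveI : Surjective (𝟙 P) := ⟨Function.surjective_id⟩
    exact @Function.Injective.subsingleton _ _ _ (Groth.Agent.S0642.result (𝟙 P) H (q + 1)).1 h2
  exact @Equiv.subsingleton _ _
    (Groth.Agent.S0620.result (𝟙 X) G x R (q + 1)).some.addCommGroupIsoToAddEquiv.toEquiv this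

end Id

section Closed

variable {X' Xt : Scheme.{u}} (h : Xt ⟶ X') [QuasiCompact h] [QuasiSeparated h]

/-- stalk criterion for the unit and higher direct images -/
theorem stalk_acyclic [PreservesFiniteLimits (EtCoh.pull h)] (G : EtCoh.Ab X') (x' : X') (R : Type u) [CommRing R]
    [IsLocalRing R] [Algebra (X'.presheaf.stalk x') R] [IsLocalHom (algebraMap (X'.presheaf.stalk x') R)]
    [_root_.Hensel.IsStrictHenselization (X'.presheaf.stalk x') R] [HenselianLocalRing R] [IsSepClosed (ResidueField R)]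
    {W : Scheme.{u}} (a : W ⟶ Xt) (m : W ⟶ Spec (CommRingCat.of R))
    (HX : IsPullback a m h (Hens2.specOf X' x' R)) [PreservesFiniteLimits (EtCoh.pull m)]
    {n : ℕ} (hm : ∀ q ≤ n, Function.Bijective (EtCore.HpullVia m (Hens2.specOf X' x' R) (a ≫ h) HX.w.symm G q)) :
    IsIso ((EtCoh.stalk (Hens2.geomPt X' x' R)).map ((EtCoh.pullPushAdj h).unit.app G)) ∧
      ∀ q : ℕ, q < n → Subsingleton ((EtCoh.stalk (Hens2.geomPt X' x' R)).obj
        ((EtCoh.Rpush h (q + 1)).obj ((EtCoh.pull h).obj G))) := by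
  let st := EtCoh.stalk (Hens2.geomPt X' x' R)
  have w : h ≫ 𝟙 X' = h ≫ 𝟙 X' := rfl
  have key : ∀ q ≤ n, IsIso (st.map (EtBC.bcQ (𝟙 X') (𝟙 X') h h w q G)) := fun q hq =>
    (EtBCQ.isIso_stalk_bcQ_iff (𝟙 X') (𝟙 X') h h w G q x' R x' R (RingHom.id R)
      (by simp) (Hens2.specOf X' x' R) (𝟙 _) (IsPullback.id_vert (Hens2.specOf X' x' R)) a m HX m HX.w.symm
      (by simp)).2 (hm q hq)
  refine ⟨?_, fun q hq => ?_⟩
  · have h' := EtBC.bcQ_zero_compat (𝟙 X') (𝟙 X') h h w G
    haveI := key 0 (Nat.zero_le n)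
    let A := EtCoh.baseChange0 (𝟙 X') (𝟙 X') h h w G
    haveI : IsIso (st.map A) := by
      have h3 : st.map A ≫ st.map ((EtCoh.push h).toRightDerivedZero.app ((EtCoh.pull h).obj G)) =
          st.map ((EtCoh.pull (𝟙 X')).map ((EtCoh.push (𝟙 X')).toRightDerivedZero.app G)) ≫
            st.map (EtBC.bcQ (𝟙 X') (𝟙 X') h h w 0 G) := by
        rw [← st.map_comp, ← st.map_comp]
        exact congrArg st.map h'.symm
      haveI : IsIso (st.map A ≫ st.map ((EtCoh.push h).toRightDerivedZero.app ((EtCoh.pull h).obj G))) := by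
        rw [h3]; infer_instance
      exact IsIso.of_isIso_comp_right (st.map A) (st.map ((EtCoh.push h).toRightDerivedZero.app ((EtCoh.pull h).obj G)))
    let adj := EtCoh.pullPushAdj (𝟙 X')
    let η := (EtCoh.pullPushAdj h).unit.app G
    haveI := isIso_counit_id G
    let t : (EtCoh.push (𝟙 X')).obj ((EtCoh.push h).obj ((EtCoh.pull h).obj G)) ⟶
        (EtCoh.push (𝟙 X')).obj ((EtCoh.push h).obj ((EtCoh.pull h).obj G)) :=
      (EtCoh.pushComp (𝟙 X') h).hom.app _ ≫ (EtCoh.pushCongr w).hom.app _ ≫ (EtCoh.pushComp (𝟙 X') h).inv.app _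
    haveI : IsIso t := inferInstance
    haveI := isIso_counit_id ((EtCoh.push h).obj ((EtCoh.pull h).obj G))
    haveI := isIso_counit_id ((EtCoh.pull h ⋙ EtCoh.push h).obj G)
    haveI : IsIso (st.map (adj.counit.app ((EtCoh.pull h ⋙ EtCoh.push h).obj G))) := inferInstance
    have hA : A = (EtCoh.pull (𝟙 X')).map ((EtCoh.push (𝟙 X')).map η) ≫
        (EtCoh.pull (𝟙 X')).map t ≫ adj.counit.app _ := by
      show (adj.homEquiv _ _).symm _ = _
      rw [Adjunction.homEquiv_counit]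
      simp only [t, η, adj, Functor.map_comp, Category.assoc]
    have hA' : IsIso (st.map ((EtCoh.pull (𝟙 X')).map ((EtCoh.push (𝟙 X')).map η))) := by
      haveI : IsIso (st.map ((EtCoh.pull (𝟙 X')).map ((EtCoh.push (𝟙 X')).map η)) ≫
          st.map ((EtCoh.pull (𝟙 X')).map t ≫ adj.counit.app _)) := by
        rw [← Functor.map_comp, ← hA]; infer_instance
      exact IsIso.of_isIso_comp_right _ (st.map ((EtCoh.pull (𝟙 X')).map t ≫ adj.counit.app _))
    have hn : st.map ((EtCoh.pull (𝟙 X')).map ((EtCoh.push (𝟙 X')).map η)) ≫ st.map (adj.counit.app _) =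
        st.map (adj.counit.app G) ≫ st.map η := by
      rw [← Functor.map_comp, ← Functor.map_comp]
      exact congrArg st.map (adj.counit.naturality η)
    haveI : IsIso (st.map (adj.counit.app G) ≫ st.map η) := by rw [← hn]; infer_instance
    exact IsIso.of_isIso_comp_left (st.map (adj.counit.app G)) (st.map η)
  · haveI := subsingleton_stalk_rpush_id G x' R q
    haveI h1 : Subsingleton ((EtCoh.stalk (Hens2.geomPt X' x' R ≫ 𝟙 X')).obj ((EtCoh.Rpush (𝟙 X') (q + 1)).obj G)) := by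
      rw [Category.comp_id]; assumption
    haveI h2 : Subsingleton (st.obj ((EtCoh.pull (𝟙 X')).obj ((EtCoh.Rpush (𝟙 X') (q + 1)).obj G))) :=
      ((EtStalk.stalkPullIso (𝟙 X') (Hens2.geomPt X' x' R)).symm.app
        ((EtCoh.Rpush (𝟙 X') (q + 1)).obj G)).addCommGroupIsoToAddEquiv.toEquiv.subsingleton
    exact ((ConcreteCategory.isIso_iff_bijective _).1 (key (q + 1) hq)).2.subsingleton

end Closed

/-- from stalks along a closed subscheme to the inverse image -/
theorem pull_acyclic_of_covers {X' Xs Xt : Scheme.{u}} (h : Xt ⟶ X') (i : Xs ⟶ X') (G : EtCoh.Ab X')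
    (hcov : EtStalk.Covers (X := Xs) fun _ _ _ ξ =>
      IsIso ((EtCoh.stalk (ξ ≫ i)).map ((EtCoh.pullPushAdj h).unit.app G)) ∧
        ∀ q, Subsingleton ((EtCoh.stalk (ξ ≫ i)).obj ((EtCoh.Rpush h (q + 1)).obj ((EtCoh.pull h).obj G)))) :
    IsIso ((EtCoh.pull i).map ((EtCoh.pullPushAdj h).unit.app G)) ∧
      ∀ q : ℕ, 0 < q → IsZero ((EtCoh.pull i).obj ((EtCoh.Rpush h q).obj ((EtCoh.pull h).obj G))) := by
  let η := (EtCoh.pullPushAdj h).unit.app G
  refine ⟨?_, fun q hq => ?_⟩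
  · let a := (EtCoh.pull i).map η
    have hst : EtStalk.Covers (X := Xs) fun Ω _ _ ξ => Function.Bijective ((EtCoh.stalk ξ).map a) := by
      intro y
      obtain ⟨K, _, _, ξ, ⟨hξ, -⟩, hy⟩ := hcov y
      exact ⟨K, inferInstance, inferInstance, ξ, (ConcreteCategory.isIso_iff_bijective _).1
        ((NatIso.isIso_map_iff (EtStalk.stalkPullIso i ξ) η).1 hξ), hy⟩
    haveI : Presheaf.IsLocallyInjective Xs.smallEtaleTopology a.hom :=
      EtStalk.isLocallyInjective_of_covers _ hst fun _ _ _ _ h' => h'.1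
    haveI : Sheaf.IsLocallySurjective a :=
      EtStalk.isLocallySurjective_of_covers _ hst fun _ _ _ _ h' => h'.2
    haveI : Mono a := Sheaf.mono_of_isLocallyInjective a
    haveI : Epi a := Sheaf.epi_of_isLocallySurjective a
    exact isIso_of_mono_of_epi a
  · obtain ⟨q, rfl⟩ : ∃ k, q = k + 1 := ⟨q - 1, by omega⟩
    let R' := (EtCoh.Rpush h (q + 1)).obj ((EtCoh.pull h).obj G)
    let Z := (EtCoh.pull i).obj R'
    haveI : Presheaf.IsLocallyInjective Xs.smallEtaleTopology (0 : Z ⟶ Z).hom :=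
      EtStalk.isLocallyInjective_of_covers _ hcov fun K _ _ ξ hξ x y _ => by
        haveI : Subsingleton ((EtCoh.stalk (ξ ≫ i)).obj R') := hξ.2 q
        haveI h2 : Subsingleton ((EtCoh.stalk ξ).obj Z) :=
          ((EtStalk.stalkPullIso i ξ).symm.app R').addCommGroupIsoToAddEquiv.toEquiv.subsingleton
        exact h2.elim x y
    haveI : Mono (0 : Z ⟶ Z) := Sheaf.mono_of_isLocallyInjective _
    exact IsZero.of_mono_zero Z Z

/-- transport of the comparison to the strict localisation upstairs -/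
theorem bijective_HpullVia_over {X X' W : Scheme.{u}} {R : CommRingCat.{u}} (m : W ⟶ Spec R)
    [PreservesFiniteLimits (EtCoh.pull m)] (v : Spec R ⟶ X') (p : X' ⟶ X) (t : Spec R ⟶ X) (hvp : v ≫ p = t)
    (c : W ⟶ X') (w : m ≫ v = c) (F : EtCoh.Ab X) (q : ℕ)
    (hF : Function.Bijective (EtCore.Hpull m ((EtCoh.pull t).obj F) q)) :
    Function.Bijective (EtCore.HpullVia m v c w ((EtCoh.pull p).obj F) q) := by
  obtain ⟨k⟩ := EtCons.nonempty_pull_pull v p t hvp
  haveI := isIso_ψh m v c w ((EtCoh.pull p).obj F)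
  exact (bijective_comp_iso (EtLimit.ψh m v c w ((EtCoh.pull p).obj F)) q).comp
    (bijective_Hpull_of_iso m (k.app F) hF)

/-- vanishing cycles vanish on the closed fibre -/
theorem laRel_closed_fibre {X S : Scheme.{u}} (f : X ⟶ S) (F : EtCoh.Ab X) (hla : SGA4h.IsLARel f F) {s : S}
    (QS : EtBCQ.SH S s) {X' : Scheme.{u}} (f' : X' ⟶ Spec (CommRingCat.of QS.R)) (p : X' ⟶ X)
    (cX : IsPullback p f' f QS.spec) (Ω : Type u) [Field Ω] [IsSepClosed Ω] (τ : QS.R →+* Ω) {Xt : Scheme.{u}}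
    (h : Xt ⟶ X') (ft : Xt ⟶ Spec (CommRingCat.of Ω)) (ct : IsPullback h ft f' (Spec.map (CommRingCat.ofHom τ)))
    {Xs : Scheme.{u}} (i : Xs ⟶ X') (fs : Xs ⟶ Spec (CommRingCat.of (ResidueField QS.R)))
    (cs : IsPullback i fs f' (Spec.map (CommRingCat.ofHom (residue QS.R)))) :
    IsIso ((EtCoh.pull i).map ((EtCoh.pullPushAdj h).unit.app ((EtCoh.pull p).obj F))) ∧
      ∀ q : ℕ, 0 < q → IsZero ((EtCoh.pull i).obj
        ((EtCoh.Rpush h q).obj ((EtCoh.pull h).obj ((EtCoh.pull p).obj F)))) := by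
  haveI : IsClosedImmersion (Spec.map (CommRingCat.ofHom (residue QS.R))) :=
    IsClosedImmersion.spec_of_surjective (CommRingCat.ofHom (residue QS.R)) residue_surjective
  haveI : IsClosedImmersion i := MorphismProperty.of_isPullback (P := @IsClosedImmersion) cs.flip inferInstance
  haveI : IsAffineHom h := MorphismProperty.of_isPullback (P := @IsAffineHom) ct.flip inferInstance
  haveI := EtCohDesc.pull_preservesFiniteLimits h
  let G := (EtCoh.pull p).obj F
  let η := (EtCoh.pullPushAdj h).unit.app G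
  have hcov : EtStalk.Covers (X := Xs) fun Ω _ _ ξ => IsIso ((EtCoh.stalk (ξ ≫ i)).map η) ∧
      ∀ q, Subsingleton ((EtCoh.stalk (ξ ≫ i)).obj ((EtCoh.Rpush h (q + 1)).obj ((EtCoh.pull h).obj G))) := by
    intro y
    have hy : f' (i y) = closedPoint QS.R := by
      rw [← Scheme.Hom.comp_apply, cs.w, Scheme.Hom.comp_apply,
        Subsingleton.elim (α := Spec (CommRingCat.of (ResidueField QS.R))) (fs y) (closedPoint (ResidueField QS.R))]
      exact EtBCQ.Spec_closedPoint' (residue QS.R)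
    obtain ⟨QX, ψ, v, hψl, _, _, hsh, hψ, hvp, hvf, hv⟩ := exists_strict_over f QS p f' cX (i y) hy
    haveI := hψl
    haveI := hsh
    have hfx : s = f.base (p (i y)) := by
      rw [← Scheme.Hom.comp_apply, cX.w, Scheme.Hom.comp_apply, hy, QS.spec_closed]
    subst hfx
    letI : Algebra QS.R QX.R := ψ.toAlgebra
    haveI : IsLocalHom (algebraMap QS.R QX.R) := hψl
    letI : Algebra QS.R Ω := τ.toAlgebra
    let m : Spec (CommRingCat.of (QX.R ⊗[QS.R] Ω)) ⟶ Spec (CommRingCat.of QX.R) :=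
      Spec.map (CommRingCat.ofHom (algebraMap QX.R (QX.R ⊗[QS.R] Ω)))
    haveI := EtCohDesc.pull_preservesFiniteLimits m
    have hsq : IsPullback (vcProj QS.R QX.R Ω) m (Spec.map (CommRingCat.ofHom τ)) (Spec.map (CommRingCat.ofHom ψ)) :=
      (isPullback_SpecMap_of_isPushout _ _ _ _ (CommRingCat.isPushout_tensorProduct QS.R QX.R Ω)).flip
    let a := ct.lift (m ≫ v) (vcProj QS.R QX.R Ω) (by rw [Category.assoc, hvf]; exact hsq.w.symm)
    have HX : IsPullback a m h (Hens2.specOf X' (i y) QX.R) := by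
      rw [hv]
      refine IsPullback.of_right ?_ (ct.lift_fst _ _ _) ct.flip
      rw [ct.lift_snd, hvf]
      exact hsq
    have hm : ∀ q, Function.Bijective
        (EtCore.HpullVia m (Hens2.specOf X' (i y) QX.R) (a ≫ h) HX.w.symm G q) := fun q =>
      bijective_HpullVia_over m (Hens2.specOf X' (i y) QX.R) p QX.spec (by rw [hv, hvp]) (a ≫ h) HX.w.symm F q
        (hla (p (i y)) QS.R QX.R (EtBCQ.comp_alg_of_spec f QS QX ψ hψ) Ω q)
    let β := ResidueField.map ψ
    let ξ : Spec (CommRingCat.of (ResidueField QX.R)) ⟶ Xs := cs.lift (Hens2.geomPt X' (i y) QX.R)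
      (Spec.map (CommRingCat.ofHom β)) (by
        rw [show Hens2.geomPt X' (i y) QX.R = Spec.map (CommRingCat.ofHom (residue QX.R)) ≫
          Hens2.specOf X' (i y) QX.R from rfl, hv, Category.assoc, hvf, ← Spec.map_comp, ← Spec.map_comp]
        rfl)
    have hξ : ξ ≫ i = Hens2.geomPt X' (i y) QX.R := cs.lift_fst _ _ _
    haveI : HenselianLocalRing QX.R := QX.sh.henselian
    haveI : IsSepClosed (ResidueField QX.R) := QX.sh.isSepClosure.1
    refine ⟨ResidueField QX.R, inferInstance, inferInstance, ξ, ?_, i.isClosedEmbedding.injective ?_⟩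
    · have H := fun n => stalk_acyclic h G (i y) QX.R a m HX (n := n) fun q _ => hm q
      show IsIso ((EtCoh.stalk (ξ ≫ i)).map η) ∧ ∀ q, Subsingleton ((EtCoh.stalk (ξ ≫ i)).obj
        ((EtCoh.Rpush h (q + 1)).obj ((EtCoh.pull h).obj G)))
      rw [hξ]
      exact ⟨(H 0).1, fun q => (H (q + 1)).2 q (Nat.lt_succ_self q)⟩
    · rw [← Scheme.Hom.comp_apply, hξ, EtBCQ.geomPt_apply]
  exact pull_acyclic_of_covers h i G hcov

end Groth.Agent.EtAcycX
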