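import Groth.Agent.EtBCQ.StrictSys
import Groth.Prelude.Def_EtAcyc
import Mathlib

/-! Local acyclicity of composites. -/

set_option autoImplicit false
set_option backward.isDefEq.respectTransparency false
set_option backward.isDefEq.respectTransparency.types false
set_option linter.style.haveILetI false
set_option linter.overlappingInstances false
set_option maxHeartbeats 1000000

universe u

open CategoryTheory CategoryTheory.Limits AlgebraicGeometry Opposite IsLocalRing

noncomputable section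

namespace Groth.Agent.EtAcycX

open EtBCQ (SH mkSH exists_strict_hom existsUnique_strict comp_alg_of_spec spec_comp_spec)

variable {X Y Z : Scheme.{u}}

theorem spec_of_comp_alg (f : X ⟶ Y) {x : X} (QS : SH Y (f.base x)) (QX : SH X x) (ψ : QS.R →+* QX.R)
    (h : ψ.comp (algebraMap (Y.presheaf.stalk (f.base x)) QS.R) =
      (algebraMap (X.presheaf.stalk x) QX.R).comp (f.stalkMap x).hom) :
    Spec.map (CommRingCat.ofHom ψ) ≫ QS.spec = QX.spec ≫ f := by
  rw [spec_comp_spec, h, SH.spec, Hens2.specOf, Category.assoc, ← Scheme.SpecMap_stalkMap_fromSpecStalk,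
    ← Category.assoc, ← Spec.map_comp]
  rfl

variable {P : ∀ ⦃X' Y' : Scheme.{u}⦄, (X' ⟶ Y') → Prop}

theorem apply_onStrict {f : X ⟶ Y} (hf : EtAcyc.OnStrictLocalizations f P) {x : X} (QS : SH Y (f.base x))
    (QX : SH X x) (ψ : QS.R →+* QX.R) [IsLocalHom ψ]
    (h : Spec.map (CommRingCat.ofHom ψ) ≫ QS.spec = QX.spec ≫ f) : P (Spec.map (CommRingCat.ofHom ψ)) := by
  letI := ψ.toAlgebra
  haveI : IsLocalHom (algebraMap QS.R QX.R) := ‹IsLocalHom ψ›
  exact hf x QS.R QX.R (comp_alg_of_spec f QS QX ψ h)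

theorem onStrict_comp_iff (g : X ⟶ Y) (h : Y ⟶ Z)
    (hP : ∀ ⦃A B C : Scheme.{u}⦄ (a : A ⟶ B) (b : B ⟶ C), P a → (P b ↔ P (a ≫ b)))
    (hs : Function.Surjective g.base) (hg : EtAcyc.OnStrictLocalizations g P) :
    EtAcyc.OnStrictLocalizations h P ↔ EtAcyc.OnStrictLocalizations (g ≫ h) P := by
  constructor
  · intro hh x RZ RX _ _ _ _ _ _ _ _ _ _ _ _ hc
    let QX : SH X x := { R := RX }
    let QZ : SH Z ((g ≫ h).base x) := { R := RZ }
    let φ : QZ.R →+* QX.R := algebraMap RZ RX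
    haveI : IsLocalHom φ := ‹IsLocalHom (algebraMap RZ RX)›
    haveI : HenselianLocalRing QX.R := QX.sh.henselian
    haveI : IsSepClosed (ResidueField QX.R) := QX.sh.isSepClosure.1
    have hφ := spec_of_comp_alg (g ≫ h) QZ QX φ hc
    let QY := mkSH Y (g.base x)
    obtain ⟨ψ, hψ, hψs⟩ := exists_strict_hom QY (B := QX.R) (QX.spec ≫ g)
      (by rw [Scheme.Hom.comp_apply, QX.spec_closed])
    obtain ⟨θ, ⟨hθs, hθc⟩, -⟩ := existsUnique_strict QZ (B := QY.R) (QY.spec ≫ h) φ ψ
      (by rw [← Category.assoc, hψs, hφ, Category.assoc])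
    haveI : IsLocalHom θ := by
      haveI : IsLocalHom (ψ.comp θ) := hθc ▸ ‹IsLocalHom φ›
      exact isLocalHom_of_comp θ ψ
    have h₁ := apply_onStrict hg QY QX ψ hψs
    have h₂ := apply_onStrict (f := h) hh (x := g.base x) QZ QY θ hθs
    have h₃ := (hP _ _ h₁).1 h₂
    rw [← Spec.map_comp, ← CommRingCat.ofHom_comp, hθc] at h₃
    exact h₃
  · intro hgh y RZ RY _ _ _ _ _ _ _ _ _ _ _ _ hc
    obtain ⟨x, rfl⟩ := hs y
    let QY : SH Y (g.base x) := { R := RY }
    let QZ : SH Z (h.base (g.base x)) := { R := RZ }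
    let QZ' : SH Z ((g ≫ h).base x) := QZ
    let θ : QZ.R →+* QY.R := algebraMap RZ RY
    haveI : IsLocalHom θ := ‹IsLocalHom (algebraMap RZ RY)›
    have hθ := spec_of_comp_alg h QZ QY θ hc
    let QX := mkSH X x
    obtain ⟨ψ, hψ, hψs⟩ := exists_strict_hom QY (B := QX.R) (QX.spec ≫ g)
      (by rw [Scheme.Hom.comp_apply, QX.spec_closed])
    haveI : IsLocalHom (ψ.comp θ) := RingHom.isLocalHom_comp _ _
    have h₁ := apply_onStrict hg QY QX ψ hψs
    have hsp : Spec.map (CommRingCat.ofHom (ψ.comp θ)) ≫ QZ.spec = QX.spec ≫ g ≫ h := by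
      rw [CommRingCat.ofHom_comp, Spec.map_comp, Category.assoc, hθ, ← Category.assoc, hψs, Category.assoc]
    have h₂ := apply_onStrict (f := g ≫ h) hgh QZ' QX (ψ.comp θ) hsp
    rw [CommRingCat.ofHom_comp, Spec.map_comp] at h₂
    exact (hP _ _ h₁).2 h₂

end Groth.Agent.EtAcycX
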