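import Groth.Agent.EtStalk.Applications
import Groth.Agent.EtStalk.Conservative
import Groth.Prelude.Def_EtAcyc
import Groth.Prelude.Def_SGA4b
import Mathlib

/-! `(-1)`-acyclicity and surjectivity. -/

set_option autoImplicit false
set_option backward.isDefEq.respectTransparency false
set_option backward.isDefEq.respectTransparency.types false
set_option maxHeartbeats 1000000
set_option linter.style.haveILetI false

universe u

open CategoryTheory CategoryTheory.Limits AlgebraicGeometry Opposite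

noncomputable section

namespace Groth.Agent.EtAcycX

variable {X Y : Scheme.{u}}

theorem isMinusOneAcyclic_of_surjective (g : X ⟶ Y) (hg : Function.Surjective g.base) :
    EtAcyc.IsMinusOneAcyclic g := by
  haveI : Surjective g := ⟨hg⟩
  intro V F
  haveI : Surjective (EtAcyc.prj g V) := MorphismProperty.pullback_fst _ _ inferInstance
  haveI := EtStalk.faithful_pullSh (EtAcyc.prj g V)
  infer_instance

/-- A ring map whose spectrum misses the prime `p` misses `V(p) ∩ D(a)` for some `a ∉ p`. -/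
theorem exists_notMem_of_not_mem_range {A B : Type*} [CommRing A] [CommRing B] (φ : A →+* B) (p : PrimeSpectrum A)
    (h : p ∉ Set.range (PrimeSpectrum.comap φ)) :
    ∃ a ∉ p.asIdeal, ∀ q : PrimeSpectrum B, p.asIdeal ≤ q.asIdeal.comap φ → φ a ∈ q.asIdeal := by
  by_contra hc
  push_neg at hc
  have hI : (p.asIdeal.map φ).comap φ = p.asIdeal := by
    refine le_antisymm (fun a ha => ?_) Ideal.le_comap_map
    by_contra hap
    obtain ⟨q, hpq, haq⟩ := hc a hap
    exact haq (Ideal.map_le_iff_le_comap.2 hpq ha)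
  obtain ⟨q, hq, -, he⟩ := Ideal.exists_comap_eq_of_mem_minimalPrimes (I := p.asIdeal.map φ) φ p.asIdeal
    (by rw [hI, Ideal.minimalPrimes_eq_subsingleton_self]; rfl)
  exact h ⟨⟨q, hq⟩, PrimeSpectrum.ext he⟩

/-- A point outside the image of a quasi-compact morphism has a neighbourhood in which its closure
misses the image. -/
theorem exists_opens_disjoint_range (g : X ⟶ Y) [QuasiCompact g] (y : Y) (hy : y ∉ Set.range g.base) :
    ∃ U : Y.Opens, y ∈ U ∧ ∀ x : X, g.base x ∈ U → ¬ y ⤳ g.base x := by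
  obtain ⟨_, ⟨V, hV, rfl⟩, hyV, -⟩ :=
    Y.isBasis_affineOpens.exists_subset_of_mem_open (Set.mem_univ y) isOpen_univ
  obtain ⟨s, hs, e⟩ := (isCompact_and_isOpen_iff_finite_and_eq_biUnion_affineOpens (X := X) (U := g.base ⁻¹' (V : Set Y))).1
    ⟨g.isCompact_preimage hV.isCompact, V.2.preimage g.continuous⟩
  have key : ∀ W ∈ s, ∃ U : Y.Opens, y ∈ U ∧ ∀ x ∈ W.1, g.base x ∈ U → ¬ y ⤳ g.base x := by
    intro W hW
    have hWV : W.1 ≤ g ⁻¹ᵁ V := fun x hx => by
      show x ∈ g.base ⁻¹' (V : Set Y)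
      rw [e]; exact Set.mem_biUnion hW hx
    have hsq := hV.SpecMap_appLE_fromSpec g W.2 hWV
    set φ := g.appLE V W.1 hWV with hφ
    have hp : hV.primeIdealOf ⟨y, hyV⟩ ∉ Set.range (PrimeSpectrum.comap φ.hom) := by
      rintro ⟨q, hq⟩
      refine hy ⟨W.2.fromSpec.base q, ?_⟩
      rw [← Scheme.Hom.comp_apply, ← hsq, Scheme.Hom.comp_apply]
      have hqe : (Spec.map φ).base q = hV.primeIdealOf ⟨y, hyV⟩ := hq
      exact (congrArg (fun t => hV.fromSpec.base t) hqe).trans (hV.fromSpec_primeIdealOf ⟨y, hyV⟩)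
    obtain ⟨a, ha, ha'⟩ := exists_notMem_of_not_mem_range φ.hom _ hp
    have hmem : ∀ (z : PrimeSpectrum Γ(Y, V)), hV.fromSpec.base z ∈ Y.basicOpen a ↔ a ∉ z.asIdeal := fun z => by
      show z ∈ hV.fromSpec ⁻¹ᵁ Y.basicOpen a ↔ _
      rw [hV.fromSpec_preimage_basicOpen]
      rfl
    refine ⟨Y.basicOpen a, ?_, fun x hx hxU hsp => ?_⟩
    · have h' := (hmem (hV.primeIdealOf ⟨y, hyV⟩)).2 ha
      erw [hV.fromSpec_primeIdealOf ⟨y, hyV⟩] at h'
      exact h'
    · let q := W.2.primeIdealOf ⟨x, hx⟩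
      have hqx : hV.fromSpec.base ((Spec.map φ).base q) = g.base x := by
        rw [← Scheme.Hom.comp_apply, hsq, Scheme.Hom.comp_apply]
        exact congrArg g.base (W.2.fromSpec_primeIdealOf ⟨x, hx⟩)
      have hsp' : hV.primeIdealOf ⟨y, hyV⟩ ⤳ (Spec.map φ).base q := by
        rw [← hV.fromSpec.isOpenEmbedding.isInducing.specializes_iff]
        show hV.fromSpec.base _ ⤳ hV.fromSpec.base _
        rw [hqx]
        erw [hV.fromSpec_primeIdealOf ⟨y, hyV⟩]
        exact hsp
      have hle : (hV.primeIdealOf ⟨y, hyV⟩).asIdeal ≤ q.asIdeal.comap φ.hom :=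
        (PrimeSpectrum.le_iff_specializes _ _).2 hsp'
      have := ha' q hle
      rw [← hqx] at hxU
      exact (hmem _).1 hxU this
  choose U hyU hU using key
  obtain ⟨U₀, hU₀, hU₀y⟩ : ∃ U₀ : Y.Opens, (∀ W (hW : W ∈ s), U₀ ≤ U W hW) ∧ y ∈ U₀ := by
    haveI := hs.to_subtype
    exact ⟨⟨⋂ W : s, (U W.1 W.2 : Set Y), isOpen_iInter_of_finite fun W => (U W.1 W.2).2⟩,
      fun W hW => Set.iInter_subset (fun W : s => (U W.1 W.2 : Set Y)) ⟨W, hW⟩,
      Set.mem_iInter.2 fun W => hyU W.1 W.2⟩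
  refine ⟨V ⊓ U₀, ⟨hyV, hU₀y⟩, fun x hx hsp => ?_⟩
  have hxV : x ∈ g.base ⁻¹' (V : Set Y) := hx.1
  rw [e] at hxV
  obtain ⟨W, hW, hxW⟩ := Set.mem_iUnion₂.1 hxV
  exact hU W hW x hxW (hU₀ W hW hx.2) hsp

section Stalk

variable {S : Scheme.{u}}

/-- the skyscraper sheaf of a two-element set at a geometric point -/
def twoSky {Ω : Type u} [Field Ω] [IsSepClosed Ω] (ξ : Spec (CommRingCat.of Ω) ⟶ S) : EtDesc.Sh S :=
  (Scheme.pointSmallEtale ξ).skyscraperSheafFunctor.obj (ULift.{u + 1} Bool : Type (u + 1))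

theorem subsingleton_stalk_twoSky {Ω Ω' : Type u} [Field Ω] [IsSepClosed Ω] [Field Ω'] [IsSepClosed Ω']
    (ξ : Spec (CommRingCat.of Ω) ⟶ S) (η : Spec (CommRingCat.of Ω') ⟶ S)
    (h : ¬ ξ.base default ⤳ η.base default) :
    Subsingleton (ToType ((Scheme.pointSmallEtale η).sheafFiber.obj (twoSky ξ))) := by
  let W : S.Opens := ⟨(closure {ξ.base default})ᶜ, isClosed_closure.isOpen_compl⟩
  have hηW : Set.range η.base ⊆ Set.range W.ι.base := by
    rintro - ⟨t, rfl⟩
    rw [Scheme.Opens.range_ι]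
    intro hm
    refine h (specializes_iff_mem_closure.2 ?_)
    rwa [Subsingleton.elim (default : Spec (CommRingCat.of Ω')) t]
  let W0 : S.Etale := MorphismProperty.Over.mk ⊤ W.ι (inferInstanceAs (Etale W.ι))
  let w0 : (Scheme.pointSmallEtale η).fiber.obj W0 :=
    (Over.homMk (IsOpenImmersion.lift W.ι η hηW) (IsOpenImmersion.lift_fac _ _ _) :
      Over.mk η ⟶ (Scheme.Etale.forget S).obj W0)
  have hempty : IsEmpty ((Scheme.pointSmallEtale ξ).fiber.obj W0) := ⟨fun z => by
    let z' : Over.mk ξ ⟶ (Scheme.Etale.forget S).obj W0 := z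
    let l : Spec (CommRingCat.of Ω) ⟶ (W : Scheme.{u}) := z'.left
    have hl : l ≫ W.ι = ξ := Over.w z'
    have hm : W.ι.base (l.base default) ∈ (W : Set S) := (l.base default).2
    rw [← Scheme.Hom.comp_apply, hl] at hm
    exact hm (subset_closure rfl)⟩
  refine ⟨fun p q => ?_⟩
  obtain ⟨U, x, s, rfl⟩ := (Scheme.pointSmallEtale η).toPresheafFiber_jointly_surjective (P := (twoSky ξ).obj) p
  obtain ⟨U', x', s', rfl⟩ := (Scheme.pointSmallEtale η).toPresheafFiber_jointly_surjective (P := (twoSky ξ).obj) q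
  obtain ⟨W₁, a, b, -⟩ := IsCofilteredOrEmpty.cone_objs
    (Functor.elementsMk (Scheme.pointSmallEtale η).fiber U x)
    (Functor.elementsMk (Scheme.pointSmallEtale η).fiber U' x')
  obtain ⟨W₂, c, d, -⟩ := IsCofilteredOrEmpty.cone_objs W₁
    (Functor.elementsMk (Scheme.pointSmallEtale η).fiber W0 w0)
  haveI : IsEmpty ((Scheme.pointSmallEtale ξ).fiber.obj W₂.1) := Function.isEmpty ((Scheme.pointSmallEtale ξ).fiber.map d.1)
  haveI : Subsingleton ((twoSky ξ).obj.obj (op W₂.1)) :=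
    (Types.productIso.{u, u + 1} fun _ : (Scheme.pointSmallEtale ξ).fiber.obj W₂.1 =>
      (ULift.{u + 1} Bool : Type (u + 1))).toEquiv.subsingleton
  let Φ := (Scheme.pointSmallEtale η)
  have ha : Φ.fiber.map (c.1 ≫ a.1) W₂.2 = x := by
    rw [Functor.map_comp]; exact (congrArg (Φ.fiber.map a.1) c.2).trans a.2
  have hb : Φ.fiber.map (c.1 ≫ b.1) W₂.2 = x' := by
    rw [Functor.map_comp]; exact (congrArg (Φ.fiber.map b.1) c.2).trans b.2
  rw [← ha, ← hb]
  exact (GrothendieckTopology.Point.toPresheafFiber_w_apply Φ (c.1 ≫ a.1) W₂.2 (twoSky ξ).obj s).symm.trans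
    ((congrArg _ (Subsingleton.elim _ _)).trans
      (GrothendieckTopology.Point.toPresheafFiber_w_apply Φ (c.1 ≫ b.1) W₂.2 (twoSky ξ).obj s'))

theorem exists_two_sections {Ω : Type u} [Field Ω] [IsSepClosed Ω] (ξ : Spec (CommRingCat.of Ω) ⟶ S) :
    ∃ a b : (twoSky ξ).obj.obj (op (EtCoh.top S)), a ≠ b := by
  let x : (Scheme.pointSmallEtale ξ).fiber.obj (EtCoh.top S) :=
    (Over.homMk ξ (Category.comp_id _) : Over.mk ξ ⟶ (Scheme.Etale.forget S).obj (EtCoh.top S))
  let e := (Types.productIso.{u, u + 1} fun _ : (Scheme.pointSmallEtale ξ).fiber.obj (EtCoh.top S) =>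
      (ULift.{u + 1} Bool : Type (u + 1))).toEquiv
  refine ⟨e.symm fun _ => ⟨true⟩, e.symm fun _ => ⟨false⟩, fun h => ?_⟩
  exact Bool.noConfusion (congrArg ULift.down (congrFun (e.symm.injective h) x))

theorem subsingleton_sections_of_stalks (G : EtDesc.Sh S)
    (h : ∀ (Ω : Type u) [Field Ω] [IsSepClosed Ω] (η : Spec (CommRingCat.of Ω) ⟶ S),
      Subsingleton (ToType ((Scheme.pointSmallEtale η).sheafFiber.obj G))) (U : S.Etale) :
    Subsingleton (G.obj.obj (op U)) := by
  refine ⟨fun a b => ?_⟩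
  have hG := (isSheaf_iff_isSheaf_of_type _ _).mp G.property
  let T : Sieve U := Presheaf.equalizerSieve (F := G.obj) (X := op U) a b
  have hT : T ∈ S.smallEtaleTopology U := by
    refine EtStalk.mem_of_covers EtStalk.covers_all _ fun Ω _ _ η _ x => ?_
    haveI : Subsingleton (ToType ((Scheme.pointSmallEtale η).presheafFiber.obj G.obj)) := h Ω η
    obtain ⟨W, g, y, hy, hg⟩ := ((Scheme.pointSmallEtale η).toPresheafFiber_eq_iff' (P := G.obj) U x a b).mp (Subsingleton.elim _ _)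
    exact ⟨W, g, hg, y, hy⟩
  exact (hG T hT).isSeparatedFor.ext fun W g hg => hg

end Stalk

theorem surjective_of_isMinusOneAcyclic (g : X ⟶ Y) [QuasiCompact g] (hg : EtAcyc.IsMinusOneAcyclic g) :
    Function.Surjective g.base := by
  intro y
  by_contra hy
  obtain ⟨U, hyU, hU⟩ := exists_opens_disjoint_range g y hy
  let V : Y.Etale := MorphismProperty.Over.mk ⊤ U.ι (inferInstanceAs (Etale U.ι))
  obtain ⟨Ω, _, _, ξ, -, hξ⟩ := EtStalk.covers_all (X := (U : Scheme.{u})) ⟨y, hyU⟩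
  let F : EtDesc.Sh V.left := twoSky ξ
  let p := EtAcyc.prj g V
  haveI : Mono ((EtDesc.adjSh p).unit.app F) := hg V F
  obtain ⟨a, b, hab⟩ := exists_two_sections ξ
  have hsub : ∀ W, Subsingleton (((EtDesc.pullSh p).obj F).obj.obj (op W)) := by
    refine fun W => subsingleton_sections_of_stalks _ (fun Ω' _ _ ζ => ?_) W
    haveI : Subsingleton (ToType ((Scheme.pointSmallEtale (ζ ≫ p)).sheafFiber.obj F)) := by
      refine subsingleton_stalk_twoSky ξ (ζ ≫ p) fun hsp => ?_
      let t := ζ.base default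
      have h1 : ξ.base default = ⟨y, hyU⟩ := hξ
      have h2 := hsp.map U.ι.continuous
      rw [h1, Scheme.Hom.comp_apply] at h2
      have h3 : U.ι.base (p.base t) = g.base ((pullback.snd V.hom g).base t) := by
        show (p ≫ V.hom).base t = ((pullback.snd V.hom g) ≫ g).base t
        rw [pullback.condition]
        rfl
      change y ⤳ U.ι.base (p.base t) at h2
      rw [h3] at h2
      refine hU _ ?_ h2
      rw [← h3]
      exact (p.base t).2
    exact ((EtStalk.stalkPullShIso p ζ).app F).toEquiv.symm.subsingleton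
  have hsub' : Subsingleton (((EtDesc.pushSh p).obj ((EtDesc.pullSh p).obj F)).obj.obj (op (EtCoh.top V.left))) :=
    hsub ((EtCoh.bc p).obj (EtCoh.top V.left))
  haveI : Mono (((EtDesc.adjSh p).unit.app F).hom.app (op (EtCoh.top V.left))) := by
    haveI : Mono ((EtDesc.adjSh p).unit.app F).hom := (sheafToPresheaf _ _).map_mono _
    infer_instance
  exact hab ((mono_iff_injective (((EtDesc.adjSh p).unit.app F).hom.app (op (EtCoh.top V.left)))).1 this
    (@Subsingleton.elim _ hsub' _ _))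

end Groth.Agent.EtAcycX
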