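import Groth.Agent.EtAcycX.ConstPt
import Groth.Agent.EtAcycX.Killed
import Groth.Agent.EtMV.HenselVanish
import Groth.Agent.EtMV.ConstOpen
import Groth.Agent.EtHens.Basic
import Groth.Agent.EtStalk.Sheaf
import Groth.Agent.EtCons.ExtZeroConst
import Groth.Agent.EtCohDesc.Retract
import Mathlib

/-! Cohomology of finite sheaves on a separably closed point pulled back to an acyclic scheme. -/

set_option autoImplicit false
set_option backward.isDefEq.respectTransparency false
set_option backward.isDefEq.respectTransparency.types false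
set_option linter.unusedSectionVars false
set_option linter.auxLemma false
set_option linter.overlappingInstances false
set_option linter.style.haveILetI false
set_option maxHeartbeats 1000000

universe u

open CategoryTheory CategoryTheory.Limits CategoryTheory.Abelian AlgebraicGeometry Opposite

noncomputable section

namespace Groth.Agent.EtAcycX

open EtMV (cst valAt valAt_res valAt_cst exists_cst valAt_eq)

attribute [local instance 100000] EtCoh.H._proof_1 Groth.Agent.EtMV.hext
attribute [local instance 200000] Groth.Agent.EtMV.hextAb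
attribute [local instance 300000] CategoryTheory.Preadditive.preadditiveHasZeroMorphisms
  CategoryTheory.Abelian.toPreadditive

section Connected

variable {W : Scheme.{u}} {M : Type} [AddCommGroup M]

/-- sections of a constant sheaf on a connected scheme are constant -/
theorem cst_top_surjective [ConnectedSpace W] :
    Function.Surjective (fun m : M => cst (EtCoh.top W) m) := by
  intro s
  haveI : ConnectedSpace (EtCoh.top W).left := ‹ConnectedSpace W›
  have hop : ∀ m : M, IsOpen {w : (EtCoh.top W).left | valAt s w = m} := by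
    intro m
    rw [isOpen_iff_forall_mem_open]
    intro w hw
    obtain ⟨Z, h, z, m', hz, he⟩ := exists_cst s w
    haveI : Etale h.left := EtSect.etale_left h
    refine ⟨Set.range h.left, ?_, h.left.isOpenMap.isOpen_range, z, hz⟩
    rintro _ ⟨z', rfl⟩
    show valAt s (h.left z') = m
    rw [valAt_eq z' he, ← valAt_eq z he, hz]
    exact hw
  haveI : Nonempty (EtCoh.top W).left := ConnectedSpace.toNonempty
  let w₀ : (EtCoh.top W).left := Classical.arbitrary _
  have hcl : IsClosed {w : (EtCoh.top W).left | valAt s w = valAt s w₀} := by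
    refine ⟨?_⟩
    rw [show {w : (EtCoh.top W).left | valAt s w = valAt s w₀}ᶜ =
      ⋃ m ∈ {m : M | m ≠ valAt s w₀}, {w | valAt s w = m} from by ext w; simp]
    exact isOpen_biUnion fun m _ => hop m
  have huniv := IsClopen.eq_univ ⟨hcl, hop _⟩ ⟨w₀, rfl⟩
  refine ⟨valAt s w₀, EtMV.ext_valAt_all fun η => ?_⟩
  rw [valAt_cst]
  exact (huniv.ge (Set.mem_univ η)).symm

theorem card_sect_const [ConnectedSpace W] :
    Nat.card (EtCoh.sect (EtCoh.const W M) (EtCoh.top W)) = Nat.card M :=
  haveI : Nonempty (EtCoh.top W).left := (inferInstance : Nonempty W)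
  (Nat.card_eq_of_bijective _ ⟨fun m m' h =>
    EtMV.cst_inj (Classical.arbitrary (EtCoh.top W).left) h, cst_top_surjective⟩).symm

end Connected

section ExactCard

/-- cardinality bound in an exact sequence of groups -/
theorem card_le_of_exact {A B C : Type*} [AddCommGroup A] [AddCommGroup B] [AddCommGroup C] [Finite A] [Finite C]
    (f : A →+ B) (g : B →+ C) (h : ∀ b, g b = 0 → ∃ a, f a = b) :
    Finite B ∧ Nat.card B ≤ Nat.card A * Nat.card C := by
  have hsec : ∀ c : g.range, ∃ b, g b = c := fun c => c.2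
  choose σ hσ using hsec
  let φ : A × g.range → B := fun p => f p.1 + σ p.2
  have hφ : Function.Surjective φ := fun b => by
    obtain ⟨a, ha⟩ := h (b - σ ⟨g b, b, rfl⟩) (by rw [map_sub, hσ, sub_self])
    exact ⟨(a, ⟨g b, b, rfl⟩), by show f a + _ = b; rw [ha, sub_add_cancel]⟩
  refine ⟨Finite.of_surjective φ hφ, (Nat.card_le_card_of_surjective φ hφ).trans ?_⟩
  rw [Nat.card_prod]
  exact Nat.mul_le_mul_left _ (Nat.card_le_card_of_injective _ Subtype.val_injective)

end ExactCard

section Point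

variable (R : Type u) [CommRing R] [HenselianLocalRing R] [IsSepClosed (IsLocalRing.ResidueField R)]

theorem covers_pt (hR : IsField R) {Q : ∀ (Ω : Type u) [Field Ω] [IsSepClosed Ω],
    (Spec (CommRingCat.of Ω) ⟶ Spec (CommRingCat.of R)) → Prop}
    (h : Q (IsLocalRing.ResidueField R) (EtHens.pt R)) : EtStalk.Covers Q := fun s =>
  ⟨IsLocalRing.ResidueField R, inferInstance, inferInstance, EtHens.pt R, h, by
    letI := hR.toField
    exact Subsingleton.elim (α := PrimeSpectrum R) _ _⟩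

theorem mono_of_stalk_pt (hR : IsField R) {F G : EtCoh.Ab (Spec (CommRingCat.of R))} (a : F ⟶ G)
    (h : Function.Injective ((EtCoh.stalk (EtHens.pt R)).map a)) : Mono a :=
  haveI : Presheaf.IsLocallyInjective (Spec (CommRingCat.of R)).smallEtaleTopology a.hom :=
    EtStalk.isLocallyInjective_of_covers _
      (covers_pt R hR (Q := fun Ω _ _ ξ => Function.Injective ((EtCoh.stalk ξ).map a)) h) fun _ _ _ _ hξ => hξ
  Sheaf.mono_of_isLocallyInjective a

theorem isZero_of_stalk_pt (hR : IsField R) {F : EtCoh.Ab (Spec (CommRingCat.of R))}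
    [Subsingleton ((EtCoh.stalk (EtHens.pt R)).obj F)] : IsZero F := by
  haveI := mono_of_stalk_pt R hR (0 : F ⟶ F) fun a b _ => Subsingleton.elim a b
  exact IsZero.of_mono_zero F F

theorem subsingleton_H_henselian (F : EtCoh.Ab (Spec (CommRingCat.of R))) (q : ℕ) :
    Subsingleton (EtCoh.H (Spec (CommRingCat.of R)) F (q + 1)) := by
  haveI : Projective (AddCommGrpCat.of (ULift.{u + 1} ℤ)) := ⟨fun {E X} f e he => by
    obtain ⟨y, hy⟩ := (AddCommGrpCat.epi_iff_surjective e).mp he (f ⟨1⟩)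
    refine ⟨AddCommGrpCat.ofHom ((zmultiplesHom E y).comp AddEquiv.ulift.toAddMonoidHom), ?_⟩
    ext ⟨n⟩
    change e (n • y) = f ⟨n⟩
    rw [map_zsmul, hy, ← map_zsmul]
    congr 1
    ext
    simp⟩
  haveI := Groth.Agent.EtHens.projective_const R (AddCommGrpCat.of (ULift.{u + 1} ℤ))
  exact subsingleton_of_forall_eq 0 fun x => x.eq_zero_of_projective

theorem card_H_zero_henselian (F : EtCoh.Ab (Spec (CommRingCat.of R))) :
    Nat.card (EtCoh.H (Spec (CommRingCat.of R)) F 0) = Nat.card ((EtCoh.stalk (EtHens.pt R)).obj F) :=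
  (card_H_zero F).trans (Nat.card_eq_of_bijective _ (EtHens.bijective_germ R F))

/-- a finite nonzero stalk contains a copy of some `ℤ/ℓ` -/
theorem exists_const_mono (hR : IsField R) {m : ℕ} {F : EtCoh.Ab (Spec (CommRingCat.of R))} (hF : Kd m F)
    [Finite ((EtCoh.stalk (EtHens.pt R)).obj F)] [Nontrivial ((EtCoh.stalk (EtHens.pt R)).obj F)] :
    ∃ (ℓ : ℕ) (φ : EtCoh.const (Spec (CommRingCat.of R)) (ZMod ℓ) ⟶ F), ℓ.Prime ∧ ℓ ∣ m ∧ Mono φ := by
  let St := (EtCoh.stalk (EtHens.pt R)).obj F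
  letI := Fintype.ofFinite St
  obtain ⟨ℓ, hℓ, hdvd⟩ := Nat.exists_prime_and_dvd (n := Fintype.card St) Fintype.one_lt_card.ne'
  haveI := Fact.mk hℓ
  obtain ⟨t, ht⟩ := exists_prime_addOrderOf_dvd_card (G := St) ℓ hdvd
  have hm : m • t = 0 := by
    have h0 : Kd m F := hF
    obtain ⟨s, rfl⟩ := (EtHens.bijective_germ R F).2 t
    let γ := ((Scheme.pointSmallEtale (EtHens.pt R)).toPresheafFiber (EtCoh.top (Spec (CommRingCat.of R)))
      (EtHens.pt₀ R) F.obj).hom
    refine (map_nsmul γ m s).symm.trans ?_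
    rw [← nsmulId_app F _ s m, h0]
    exact map_zero γ
  obtain ⟨s, hs⟩ := (EtHens.bijective_germ R F).2 t
  have hs0 : ℓ • s = 0 := (EtHens.bijective_germ R F).1 (by
    rw [map_nsmul, hs, map_zero, ← ht, addOrderOf_nsmul_eq_zero])
  let A := AddCommGrpCat.of (ULift.{u + 1} (ZMod ℓ))
  let ψ₀ : ZMod ℓ →+ EtCoh.sect F (EtCoh.top (Spec (CommRingCat.of R))) :=
    ZMod.lift ℓ ⟨zmultiplesHom _ s, by
      show ((ℓ : ℤ) • s) = 0
      rw [natCast_zsmul, hs0]⟩
  let α := (EtCore.constAdj (Spec (CommRingCat.of R))).homEquiv A F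
  let φ : EtCoh.const (Spec (CommRingCat.of R)) (ZMod ℓ) ⟶ F :=
    α.symm (AddCommGrpCat.ofHom (ψ₀.comp AddEquiv.ulift.toAddMonoidHom))
  refine ⟨ℓ, φ, hℓ, by rw [← ht]; exact addOrderOf_dvd_of_nsmul_eq_zero hm, mono_of_stalk_pt R hR φ ?_⟩
  let f : ((EtCoh.stalk (EtHens.pt R)).obj (EtCoh.const (Spec (CommRingCat.of R)) (ZMod ℓ))) →+ St :=
    ((EtCoh.stalk (EtHens.pt R)).map φ).hom
  have hcard : Nat.card ((EtCoh.stalk (EtHens.pt R)).obj (EtCoh.const (Spec (CommRingCat.of R)) (ZMod ℓ))) = ℓ :=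
    (card_stalk_const _).trans (Nat.card_zmod ℓ)
  let u₀ := ((EtCore.constAdj (Spec (CommRingCat.of R))).unit.app A).hom ⟨1⟩
  let g₀ := (Scheme.pointSmallEtale (EtHens.pt R)).toPresheafFiber _ (EtHens.pt₀ R)
    (EtCoh.const (Spec (CommRingCat.of R)) (ZMod ℓ)).obj u₀
  have hval : f g₀ = t := by
    show ((EtCoh.stalk (EtHens.pt R)).map φ).hom g₀ = t
    refine (GrothendieckTopology.Point.toPresheafFiber_naturality_apply (Scheme.pointSmallEtale (EtHens.pt R))
      φ.hom _ (EtHens.pt₀ R) u₀).trans (Eq.trans ?_ hs)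
    refine congrArg _ ?_
    show ((α φ).hom) ⟨1⟩ = s
    rw [Equiv.apply_symm_apply]
    show ψ₀ 1 = s
    rw [show (1 : ZMod ℓ) = ((1 : ℤ) : ZMod ℓ) from Int.cast_one.symm, ZMod.lift_coe]
    exact one_zsmul s
  haveI : Finite ((EtCoh.stalk (EtHens.pt R)).obj (EtCoh.const (Spec (CommRingCat.of R)) (ZMod ℓ))) :=
    Nat.finite_of_card_ne_zero (by rw [hcard]; exact hℓ.ne_zero)
  show Function.Injective f
  rw [← AddMonoidHom.ker_eq_bot_iff]
  have hk := AddSubgroup.card_addSubgroup_dvd_card f.ker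
  rw [hcard, Nat.dvd_prime hℓ] at hk
  rcases hk with hk | hk
  · exact AddSubgroup.eq_bot_of_card_eq _ hk
  · have := AddSubgroup.eq_top_of_card_eq f.ker (hk.trans hcard.symm)
    have h0 : f g₀ = 0 := AddMonoidHom.mem_ker.1 (this ▸ AddSubgroup.mem_top g₀)
    exact absurd (ht.symm.trans (AddMonoid.addOrderOf_eq_one_iff.2 (hval.symm.trans h0))) hℓ.one_lt.ne'

variable {W : Scheme.{u}} (b : W ⟶ Spec (CommRingCat.of R)) [PreservesFiniteLimits (EtCoh.pull b)]
  {L : Set ℕ} {n : ℕ}

theorem acyclic_finite (hR : IsField R) (hW : EtAcyc.IsAcyclicSchemeN L n W) {m : ℕ} (hm : EtAcyc.PrimesIn L m) :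
    ∀ (c : ℕ) (F : EtCoh.Ab (Spec (CommRingCat.of R))), Kd m F →
      Finite ((EtCoh.stalk (EtHens.pt R)).obj F) → Nat.card ((EtCoh.stalk (EtHens.pt R)).obj F) ≤ c →
      (∀ q : ℕ, q < n → Subsingleton (EtCoh.H W ((EtCoh.pull b).obj F) (q + 1))) ∧
        Finite (EtCoh.H W ((EtCoh.pull b).obj F) 0) ∧
        Nat.card (EtCoh.H W ((EtCoh.pull b).obj F) 0) ≤ Nat.card ((EtCoh.stalk (EtHens.pt R)).obj F) := by
  intro c
  induction c with
  | zero =>
    intro F _ hfin hc
    exact absurd hc (Nat.not_le.2 Nat.card_pos)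
  | succ c ih =>
    intro F hF hfin hc
    by_cases hsub : Subsingleton ((EtCoh.stalk (EtHens.pt R)).obj F)
    · have hz : IsZero ((EtCoh.pull b).obj F) := (EtCoh.pull b).map_isZero (isZero_of_stalk_pt R hR)
      have h0 : ∀ q, Subsingleton (EtCoh.H W ((EtCoh.pull b).obj F) q) := fun q =>
        subsingleton_of_forall_eq 0 fun x => by
          rw [← Ext.comp_mk₀_id x, hz.eq_of_src (𝟙 _) 0, Ext.mk₀_zero, Ext.comp_zero]
      haveI := h0 0
      exact ⟨fun q _ => h0 (q + 1), inferInstance,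
        (Finite.card_le_one_iff_subsingleton.2 (h0 0)).trans Nat.card_pos⟩
    haveI : Nontrivial ((EtCoh.stalk (EtHens.pt R)).obj F) := not_subsingleton_iff_nontrivial.1 hsub
    obtain ⟨ℓ, φ, hℓ, hdvd, hφ⟩ := exists_const_mono R hR hF
    have hℓL : ℓ ∈ L := hm.2 ℓ hℓ hdvd
    let S : ShortComplex (EtCoh.Ab (Spec (CommRingCat.of R))) :=
      ShortComplex.mk φ (cokernel.π φ) (cokernel.condition φ)
    have hS : S.ShortExact := { exact := ShortComplex.exact_of_g_is_cokernel _ (cokernelIsCokernel _) }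
    let st := EtCoh.stalk (EtHens.pt R)
    haveI : PreservesFiniteLimits st := inferInstance
    haveI : PreservesFiniteColimits st := inferInstance
    haveI : st.Additive := Functor.additive_of_preserves_binary_products _
    have hst := hS.map_of_exact st
    haveI : Epi ((st.map S.g)) := hst.epi_g
    have hsurj := (AddCommGrpCat.epi_iff_surjective (st.map S.g)).1 inferInstance
    haveI : Finite (st.obj S.X₃) := Finite.of_surjective _ hsurj
    haveI : Finite (st.obj S.X₁) := Nat.finite_of_card_ne_zero (by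
      show Nat.card (st.obj (EtCoh.const _ (ZMod ℓ))) ≠ 0
      rw [card_stalk_const, Nat.card_zmod]; exact hℓ.ne_zero)
    have hcard : Nat.card (st.obj F) = ℓ * Nat.card (st.obj S.X₃) := by
      let g' : st.obj F →+ st.obj S.X₃ := (st.map S.g).hom
      rw [AddSubgroup.card_eq_card_quotient_mul_card_addSubgroup g'.ker,
        Nat.card_congr (QuotientAddGroup.quotientKerEquivOfSurjective g' hsurj).toEquiv, mul_comm]
      congr 1
      have hi := (AddCommGrpCat.mono_iff_injective (st.map S.f)).1 hst.mono_f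
      have hr : g'.ker = (st.map S.f).hom.range := (ShortComplex.ab_exact_iff_range_eq_ker.1 hst.exact).symm
      rw [hr, ← Nat.card_congr (AddMonoidHom.ofInjective hi).toEquiv]
      exact (card_stalk_const _).trans (Nat.card_zmod ℓ)
    have hlt : Nat.card (st.obj S.X₃) ≤ c := by
      have h2 : 2 * Nat.card (st.obj S.X₃) ≤ c + 1 :=
        (Nat.mul_le_mul_right _ hℓ.two_le).trans (hcard.ge.trans hc)
      have := Nat.card_pos (α := st.obj S.X₃)
      omega
    obtain ⟨hq, hf0, hle⟩ := ih S.X₃ (hF.of_epi (cokernel.π φ)) inferInstance hlt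
    have hb := hS.map_of_exact (EtCoh.pull b)
    let e := EtCons.pullConstM b (ZMod ℓ)
    have h1 : ∀ q : ℕ, q < n → Subsingleton (EtCoh.H W ((EtCoh.pull b).obj S.X₁) (q + 1)) := fun q hqn => by
      haveI : Subsingleton ((EtCoh.HF W (q + 1)).obj (EtCoh.const W (ZMod ℓ))) :=
        hW.2.2 ℓ hℓ hℓL (q + 1) (Nat.succ_pos q) hqn
      exact (((EtCoh.HF W (q + 1)).mapIso e).addCommGroupIsoToAddEquiv.toEquiv).subsingleton
    haveI := hW.2.1
    have hcardW : Nat.card (EtCoh.H W ((EtCoh.pull b).obj S.X₁) 0) = ℓ :=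
      ((Nat.card_congr ((EtCoh.HF W 0).mapIso e).addCommGroupIsoToAddEquiv.toEquiv).trans
        ((card_H_zero _).trans card_sect_const)).trans (Nat.card_zmod ℓ)
    refine ⟨fun q hqn => subsingleton_of_forall_eq 0 fun x => ?_, ?_⟩
    · obtain ⟨x₁, rfl⟩ := Ext.covariant_sequence_exact₂ (EtCoh.const W ℤ) hb x
        (@Subsingleton.elim _ (hq q hqn) _ _)
      rw [@Subsingleton.elim _ (h1 q hqn) x₁ 0, Ext.zero_comp]
    · haveI : Finite (EtCoh.H W ((EtCoh.pull b).obj S.X₁) 0) := Nat.finite_of_card_ne_zero (hcardW ▸ hℓ.ne_zero)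
      haveI := hf0
      haveI : Finite ((EtCoh.HF W 0).obj (S.map (EtCoh.pull b)).X₁) :=
        ‹Finite (EtCoh.H W ((EtCoh.pull b).obj S.X₁) 0)›
      haveI : Finite ((EtCoh.HF W 0).obj (S.map (EtCoh.pull b)).X₃) := hf0
      obtain ⟨hfinF, hleF⟩ := card_le_of_exact
        ((EtCoh.HF W 0).map ((S.map (EtCoh.pull b)).f)).hom ((EtCoh.HF W 0).map ((S.map (EtCoh.pull b)).g)).hom
        (fun x hx => Ext.covariant_sequence_exact₂ (EtCoh.const W ℤ) hb x hx)
      refine ⟨hfinF, hleF.trans ?_⟩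
      show Nat.card (EtCoh.H W ((EtCoh.pull b).obj S.X₁) 0) * Nat.card (EtCoh.H W ((EtCoh.pull b).obj S.X₃) 0) ≤ _
      rw [hcardW, hcard]
      exact Nat.mul_le_mul_left _ hle

end Point

end Groth.Agent.EtAcycX
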