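import Groth.Agent.EtAcycX.EtRestLA
import Groth.Agent.EtMV.LocIsoHens
import Groth.Agent.EtIntegral.Push
import Groth.Agent.EtBCQ.DegZero
import Mathlib

/-! Base change of constant sheaves at a geometric point along a locally acyclic morphism. -/

set_option autoImplicit false
set_option backward.isDefEq.respectTransparency false
set_option backward.isDefEq.respectTransparency.types false
set_option linter.unusedSectionVars false
set_option linter.auxLemma false
set_option linter.overlappingInstances false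
set_option linter.style.haveILetI false
set_option maxHeartbeats 1000000

universe u

open CategoryTheory CategoryTheory.Limits AlgebraicGeometry Opposite IsLocalRing
open scoped TensorProduct

noncomputable section

namespace Groth.Agent.EtAcycX

section Field

variable (Ω : Type u) [Field Ω] [IsSepClosed Ω]

theorem locIso_field : EtMV.LocIso (Spec (CommRingCat.of Ω)) := by
  refine EtMV.locIso_of_strictlyHenselian fun x => ?_
  have hf := (zdim_spec (CommRingCat.of Ω) fun a => absFlat_of_isField (Field.toIsField Ω) a) x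
  letI := hf.toField
  refine ⟨Field.henselian _, ?_⟩
  let A := (Spec (CommRingCat.of Ω)).presheaf.stalk x
  have hb : Function.Bijective (algebraMap Ω (Localization.AtPrime x.asIdeal)) := by
    refine IsField.localization_map_bijective (M := x.asIdeal.primeCompl) ?_ (Field.toIsField Ω)
    exact fun h => h x.asIdeal.zero_mem
  let φ : Ω →+* A := (StructureSheaf.stalkIso Ω x).toRingEquiv.toRingHom.comp
    (algebraMap Ω (Localization.AtPrime x.asIdeal))
  have hs : Function.Surjective φ := (StructureSheaf.stalkIso Ω x).surjective.comp hb.2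
  exact Hensel.isSepClosed_of_ringEquiv (RingEquiv.ofBijective ((residue A).comp φ)
    ⟨RingHom.injective _, residue_surjective.comp hs⟩)

theorem zflq_field (F : EtCoh.Ab (Spec (CommRingCat.of Ω))) : EtMV.ZFlq F := by
  intro U V g hg s
  haveI := hg
  have hdisc : ∀ w : U.left, IsOpen ({w} : Set U.left) := fun w => by
    obtain ⟨O, hw, hO⟩ := locIso_field Ω U w
    have he : ({w} : Set U.left) = (O : Set U.left) := by
      refine Set.eq_of_subset_of_subset (Set.singleton_subset_iff.2 hw) fun v hv => ?_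
      exact congrArg Subtype.val ((O.ι ≫ U.hom).isOpenEmbedding.injective (a₁ := (⟨v, hv⟩ : O.toScheme))
        (a₂ := (⟨w, hw⟩ : O.toScheme)) (Subsingleton.elim (α := PrimeSpectrum Ω) _ _))
    rw [he]; exact O.2
  let C : U.left.Opens := ⟨(Set.range g.left)ᶜ, by
    rw [show (Set.range g.left)ᶜ = ⋃ w ∈ (Set.range g.left)ᶜ, {w} from (Set.biUnion_of_singleton _).symm]
    exact isOpen_biUnion fun w _ => hdisc w⟩
  let Z : ULift.{u} Bool → (Spec (CommRingCat.of Ω)).Etale := fun b => cond b.down V (EtMV.sub U C)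
  let π : ∀ b, Z b ⟶ U := fun b => match b with
    | ⟨true⟩ => g
    | ⟨false⟩ => EtMV.subι U C
  haveI : ∀ b, Mono (π b).left := fun b => match b with
    | ⟨true⟩ => (inferInstance : Mono g.left)
    | ⟨false⟩ => inferInstanceAs (Mono C.ι)
  let t : ∀ b, EtCoh.sect F (Z b) := fun b => match b with
    | ⟨true⟩ => s
    | ⟨false⟩ => 0
  obtain ⟨r, hr⟩ := EtIntegral.exists_amalg_disjoint F Z π (fun i j hij x y h => by
      match i, j, x, y, h with
      | ⟨true⟩, ⟨true⟩, _, _, _ => exact hij rfl
      | ⟨false⟩, ⟨false⟩, _, _, _ => exact hij rfl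
      | ⟨true⟩, ⟨false⟩, x, y, h =>
        let y' : C.toScheme := y
        exact y'.2 ⟨x, h⟩
      | ⟨false⟩, ⟨true⟩, x, y, h =>
        let x' : C.toScheme := x
        exact x'.2 ⟨y, h.symm⟩)
    (fun p => by
      by_cases hp : p ∈ Set.range g.left
      · exact ⟨⟨true⟩, hp⟩
      · exact ⟨⟨false⟩, (⟨p, hp⟩ : C.toScheme), rfl⟩) t
  exact ⟨r, hr ⟨true⟩⟩

theorem isZero_rpush_field {S : Scheme.{u}} (t : Spec (CommRingCat.of Ω) ⟶ S) (F : EtCoh.Ab (Spec (CommRingCat.of Ω)))
    (q : ℕ) : IsZero ((EtCoh.Rpush t (q + 1)).obj F) :=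
  EtMV.isZero_Rpush_of_zflq (locIso_field Ω) t q F (zflq_field Ω F)

end Field

/-- base change from a geometric point along a locally acyclic morphism -/
theorem isIso_bcQ_geomPt {X S : Scheme.{u}} (f : X ⟶ S) (hf : EtRest.IsLocallyAcyclic f) {n : ℕ} (hn : 0 < n)
    (hnx : ∀ x : X, (n : X.residueField x) ≠ 0) {Ω : Type u} [Field Ω] [IsSepClosed Ω]
    (t : Spec (CommRingCat.of Ω) ⟶ S) [QuasiSeparated t] [QuasiCompact t]
    [PreservesFiniteLimits (EtCoh.pull (pullback.snd f t))] (q : ℕ) :
    IsIso (EtBC.bcQ t f (pullback.fst f t) (pullback.snd f t) pullback.condition.symm q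
      (EtCoh.const (Spec (CommRingCat.of Ω)) (ZMod n))) := by
  have c : IsPullback (pullback.snd f t) (pullback.fst f t) t f := (IsPullback.of_hasPullback f t).flip
  refine (EtBCQ.isIso_bcQ_iff_restr f t (pullback.fst f t) (pullback.snd f t) c
    (EtCoh.const (Spec (CommRingCat.of Ω)) (ZMod n)) q).1 ?_
  intro x RS _ _ _ _ hRS RX _ _ _ _ hRX ψ _ hψ PS PX aS bS HS aX bX HX m w wb _
  haveI := hRS
  haveI := hRX
  have hspec := EtBCQ.specOf_comp f x RS RX ψ hψ
  have sqm : IsPullback m bX bS (Spec.map (CommRingCat.ofHom ψ)) := by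
    refine IsPullback.of_right (h₁₂ := aS) (v₁₃ := t) (h₂₂ := Hens2.specOf S (f.base x) RS) ?_ wb HS
    rw [w, ← hspec]
    exact HX
  letI := ψ.toAlgebra
  haveI : IsLocalHom (algebraMap RS RX) := ‹IsLocalHom ψ›
  haveI : WeaklyEtale (Hens2.specOf S (f.base x) RS) := weaklyEtale_specOf (f.base x) RS
  haveI : WeaklyEtale aS := MorphismProperty.of_isPullback (P := @WeaklyEtale) HS.flip ‹_›
  haveI : QuasiCompact bS := MorphismProperty.of_isPullback (P := @QuasiCompact) HS ‹_›
  haveI : QuasiSeparated bS := MorphismProperty.of_isPullback (P := @QuasiSeparated) HS ‹_›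
  haveI : CompactSpace PS := QuasiCompact.compactSpace_of_compactSpace bS
  haveI : QuasiSeparatedSpace PS := quasiSeparatedSpace_of_quasiSeparated bS
  haveI : QuasiCompact m := MorphismProperty.of_isPullback (P := @QuasiCompact) sqm.flip inferInstance
  haveI : QuasiSeparated m := MorphismProperty.of_isPullback (P := @QuasiSeparated) sqm.flip inferInstance
  have hP : EtAcyc.GeomFibresAcyclicN {ℓ | ℓ.Prime ∧ ℓ ∣ n} q m := by
    intro z K _ _ _ _
    let g := EtAcyc.geomPt PS z K
    obtain ⟨τ, hτ⟩ := Spec.map_surjective (g ≫ bS)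
    letI : Algebra RS K := τ.hom.toAlgebra
    have e : Spec.map (CommRingCat.ofHom (algebraMap RS K)) = g ≫ bS := hτ
    have sq' := (IsPullback.of_hasPullback m g).paste_horiz sqm.flip
    obtain ⟨n₀, hn₀, hn₀x⟩ : ∃ n₀ : ℕ, 1 < n₀ ∧ (n₀ : X.residueField x) ≠ 0 := by
      by_cases h2 : ((2 : ℕ) : X.residueField x) = 0
      · refine ⟨3, by omega, fun h3 => one_ne_zero (α := X.residueField x) ?_⟩
        calc (1 : X.residueField x) = ((3 : ℕ) : X.residueField x) - ((2 : ℕ) : X.residueField x) := by norm_num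
          _ = 0 := by rw [h3, h2, sub_zero]
      · exact ⟨2, by omega, h2⟩
    obtain ⟨h1, h2⟩ := nonempty_connected_of_H_zero hn₀ (hf x RS RX hψ K n₀ hn₀x).2
    refine isAcyclicSchemeN_of_iso ((pullbackSpecIso RS RX K).symm ≪≫ pullback.congrHom rfl e ≪≫
      sq'.isoPullback.symm) ⟨h1, h2, fun ℓ _ hℓ j hj _ => (hf x RS RX hψ K ℓ fun h0 => ?_).1 j hj⟩
    obtain ⟨d, rfl⟩ := hℓ.2
    exact hnx x (by rw [Nat.cast_mul, h0, zero_mul])
  exact bijective_HpullVia_of_compN m aS aX w (compN_of_zdim (zdim_of_weaklyEtale aS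
    (zdim_spec (CommRingCat.of Ω) fun a => absFlat_of_isField (Field.toIsField Ω) a)) m hP)
    (isLTorsion_const_zmod hn) le_rfl

end Groth.Agent.EtAcycX
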