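import Groth.Agent.EtAcycX.Descend
import Groth.Agent.EtMV.Etale
import Groth.Agent.EtInvariance.Site
import Mathlib

/-! Restriction of pullback on cohomology to étale schemes over the base. -/

set_option autoImplicit false
set_option backward.isDefEq.respectTransparency false
set_option backward.isDefEq.respectTransparency.types false
set_option linter.unusedSectionVars false
set_option linter.auxLemma false
set_option linter.overlappingInstances false
set_option linter.style.haveILetI false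
set_option maxHeartbeats 1000000

universe u v w

open CategoryTheory CategoryTheory.Limits CategoryTheory.Abelian AlgebraicGeometry Opposite

noncomputable section

namespace Groth.Agent.EtAcycX

open EtMV (T cc κ κ_bijective κ_comp κ_cc κ_cc_map κ_pullConst P σ uel σ_eq δd δtop)
open EtLimit (fstE)

attribute [local instance 100000] EtCoh.H._proof_1 Groth.Agent.EtMV.hext
attribute [local instance 200000] Groth.Agent.EtMV.hextAb
attribute [local instance 300000] CategoryTheory.Preadditive.preadditiveHasZeroMorphisms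
  CategoryTheory.Abelian.toPreadditive

section Iso

variable {A B : Scheme.{u}} (θ : A ⟶ B) [IsIso θ]

theorem pull_iso_isEquivalence : (EtCoh.pull θ).IsEquivalence := EtInvariance.pull_isEquivalence θ

theorem Hpull_bijective_of_isIso [PreservesFiniteLimits (EtCoh.pull θ)] (G : EtCoh.Ab B) (q : ℕ) :
    Function.Bijective (EtCore.Hpull θ G q) := by
  haveI := pull_iso_isEquivalence θ
  haveI := EtMV.pull_etale_preservesInjective θ
  refine EtMV.T_bijective (EtCoh.pull θ) (EtCore.pullConst θ ℤ).inv (fun G => ⟨fun a b hab => ?_, fun y => ?_⟩) q G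
  · exact (EtCoh.pull θ).map_injective ((cancel_epi (EtCore.pullConst θ ℤ).inv).1 hab)
  · exact ⟨(EtCoh.pull θ).preimage ((EtCore.pullConst θ ℤ).hom ≫ y), by
      show (EtCore.pullConst θ ℤ).inv ≫ (EtCoh.pull θ).map ((EtCoh.pull θ).preimage _) = y
      rw [Functor.map_preimage, Iso.inv_hom_id_assoc]⟩

end Iso

theorem bijective_comp_iso {C : Type w} [Category.{v} C] [Abelian C] [HasExt.{v} C] {X A B : C} (i : A ⟶ B) [IsIso i]
    (n : ℕ) : Function.Bijective (fun e : Ext X A n => e.comp (Ext.mk₀ i) (add_zero n)) :=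
  Function.bijective_iff_has_inverse.2 ⟨fun e => e.comp (Ext.mk₀ (inv i)) (add_zero n),
    fun e => by
      simp only [Ext.comp_assoc_of_second_deg_zero, Ext.mk₀_comp_mk₀, IsIso.hom_inv_id, Ext.comp_mk₀_id],
    fun e => by
      simp only [Ext.comp_assoc_of_second_deg_zero, Ext.mk₀_comp_mk₀, IsIso.inv_hom_id, Ext.comp_mk₀_id]⟩

theorem isIso_ψh {W V S : Scheme.{u}} (p : W ⟶ V) (q : V ⟶ S) (k : W ⟶ S) (e : p ≫ q = k) (G : EtCoh.Ab S) :
    IsIso (EtLimit.ψh p q k e G) :=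
  inferInstanceAs (IsIso ((EtMV.ψ p q k e).hom.app G))

theorem compN_congr {A B S : Scheme.{u}} (θ : A ⟶ B) [IsIso θ] (f : B ⟶ S) {L : Set ℕ} {n : ℕ}
    (h : EtAcyc.CompN f L n) : EtAcyc.CompN (θ ≫ f) L n := by
  intro F hF _
  haveI := EtCohDesc.pull_preservesFiniteLimits f
  haveI := EtCohDesc.pull_preservesFiniteLimits θ
  have hv : ∀ q, Function.Bijective (EtCore.HpullVia θ f (θ ≫ f) rfl F q) := fun q => by
    haveI := isIso_ψh θ f (θ ≫ f) rfl F
    exact (bijective_comp_iso (EtLimit.ψh θ f (θ ≫ f) rfl F) q).comp (Hpull_bijective_of_isIso θ _ q)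
  have e : ∀ q, ⇑(EtCore.Hpull (θ ≫ f) F q) = ⇑(EtCore.HpullVia θ f (θ ≫ f) rfl F q) ∘ ⇑(EtCore.Hpull f F q) :=
    fun q => funext fun x => (Hpull_HpullVia θ f (θ ≫ f) rfl F q x).symm
  refine ⟨fun q hq => ?_, ?_⟩
  · rw [e]; exact (hv q).comp ((h F hF).1 q hq)
  · rw [e]; exact (hv (n + 1)).1.comp (h F hF).2

section Prj

variable {X Y : Scheme.{u}} (g : X ⟶ Y)

/-- an étale scheme over an étale scheme -/
abbrev compEt (V : Y.Etale) (W : V.left.Etale) : Y.Etale :=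
  haveI := V.prop
  haveI := W.prop
  Scheme.Etale.mk (W.hom ≫ V.hom)

theorem compN_fstE (V : Y.Etale) (W : V.left.Etale) {L : Set ℕ} {n : ℕ} (h : EtAcyc.IsAcyclicN g L n) :
    EtAcyc.CompN (fstE (EtAcyc.prj g V) W) L n := by
  have e := pullbackRightPullbackFstIso_hom_fst V.hom g W.hom
  rw [show fstE (EtAcyc.prj g V) W = (pullbackRightPullbackFstIso V.hom g W.hom).hom ≫
    EtAcyc.prj g (compEt V W) from e.symm]
  exact compN_congr _ _ (h (compEt V W))

end Prj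

section Theta

variable {Z X : Scheme.{u}} (g' : Z ⟶ X) (W : X.Etale)

/-- the inverse image of a free sheaf -/
def cW : (P Z).obj ((EtCoh.bc g').obj W) ⟶ (EtCoh.pull g').obj ((P X).obj W) :=
  σ.symm (EtMV.r g' (𝟙 _) _ (uel W))

theorem σ_cW : σ (cW g' W) = EtMV.r g' (𝟙 _) _ (uel W) := σ.apply_symm_apply _

variable [PreservesFiniteLimits (EtCoh.pull g')]

/-- pullback of classes over an étale object -/
abbrev Θ (G : EtCoh.Ab X) (k : ℕ) :
    Ext ((P X).obj W) G k →+ Ext ((P Z).obj ((EtCoh.bc g').obj W)) ((EtCoh.pull g').obj G) k :=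
  T (EtCoh.pull g') (cW g' W) G k

theorem Θ_bijective_aux {C : Type w} [Category.{v} C] [Abelian C] [HasExt.{v} C] {R A A' M : C} {n : ℕ}
    {α β γ : Type v} (a : α → Ext R A n) (b : β → Ext R A' n) (Θ₀ : γ → β) (Φ : γ → α) (i : A ⟶ M) (j : A' ⟶ M)
    [IsIso i] [IsIso j]
    (e : ∀ x, (a (Φ x)).comp (Ext.mk₀ i) (add_zero n) = (b (Θ₀ x)).comp (Ext.mk₀ j) (add_zero n))
    (ha : Function.Injective a) (hΦ : Function.Bijective Φ) (hb : Function.Bijective b) :
    Function.Injective Θ₀ ∧ (Function.Surjective a → Function.Surjective Θ₀) := by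
  refine ⟨fun x y hxy => hΦ.1 (ha ((bijective_comp_iso i n).1 ?_)), fun has z => ?_⟩
  · show (a (Φ x)).comp (Ext.mk₀ i) (add_zero n) = (a (Φ y)).comp (Ext.mk₀ i) (add_zero n)
    rw [e, e, hxy]
  · obtain ⟨y, hy⟩ := (bijective_comp_iso i n).2 ((b z).comp (Ext.mk₀ j) (add_zero n))
    obtain ⟨y', rfl⟩ := has y
    obtain ⟨x, rfl⟩ := hΦ.2 y'
    exact ⟨x, hb.1 ((bijective_comp_iso j n).1 ((e x).symm.trans hy))⟩

section Gen

variable {V V' : Scheme.{u}} (h : V ⟶ X) (q : V' ⟶ V) (h' : V' ⟶ Z) (k₀ : V' ⟶ X) (e₁ : q ≫ h = k₀)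
  (e₂ : h' ≫ g' = k₀) {o : X.Etale} (δ : EtCoh.top V ⟶ (EtCoh.bc h).obj o)
  (δ' : EtCoh.top V' ⟶ (EtCoh.bc h').obj ((EtCoh.bc g').obj o)) (d : EtCoh.top V' ⟶ (EtCoh.bc k₀).obj o)

theorem pullConst_cc
    (hd : (δtop q).left ≫ fstE q (EtCoh.top V) ≫ δ.left ≫ fstE h o = d.left ≫ fstE k₀ o) :
    (EtCore.pullConst q ℤ).inv ≫ (EtCoh.pull q).map (cc h δ) ≫ (EtMV.ψ q h k₀ e₁).hom.app ((P X).obj o) =
      cc k₀ d := by
  refine (κ_bijective _).1 ?_
  rw [κ_cc, κ_comp, κ_pullConst q (δtop q), EtLimit.comp_app_apply, EtMV.r_natural]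
  have hone : (cc h δ).hom.app (op (EtCoh.top V)) (EtMV.one V) = EtMV.r h δ _ (uel o) := κ_cc _ _
  erw [hone]
  exact EtLimit.r_comp' q h k₀ e₁ δ (δtop q) d hd _ _

theorem cc_cW (hd : δ'.left ≫ fstE h' ((EtCoh.bc g').obj o) ≫ fstE g' o = d.left ≫ fstE k₀ o) :
    cc h' δ' ≫ (EtCoh.pull h').map (cW g' o) ≫ (EtMV.ψ h' g' k₀ e₂).hom.app ((P X).obj o) = cc k₀ d := by
  refine (κ_bijective _).1 ?_
  rw [κ_cc, ← Category.assoc, κ_comp, κ_cc_map, σ_cW]
  exact EtLimit.r_comp' h' g' k₀ e₂ (𝟙 _) δ' d (by rw [EtLimit.id_left_comp]; exact hd) _ _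

theorem square_gen (hd₁ : (δtop q).left ≫ fstE q (EtCoh.top V) ≫ δ.left ≫ fstE h o = d.left ≫ fstE k₀ o)
    (hd₂ : δ'.left ≫ fstE h' ((EtCoh.bc g').obj o) ≫ fstE g' o = d.left ≫ fstE k₀ o)
    [PreservesFiniteLimits (EtCoh.pull h)] [PreservesFiniteLimits (EtCoh.pull q)]
    [PreservesFiniteLimits (EtCoh.pull h')] [PreservesFiniteLimits (EtCoh.pull k₀)]
    (G : EtCoh.Ab X) (k : ℕ) (x : Ext ((P X).obj o) G k) :
    (T (EtCoh.pull q) (EtCore.pullConst q ℤ).inv _ k (T (EtCoh.pull h) (cc h δ) G k x)).comp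
        (Ext.mk₀ (EtLimit.ψh q h k₀ e₁ G)) (add_zero k) =
      (T (EtCoh.pull h') (cc h' δ') _ k (Θ g' o G k x)).comp (Ext.mk₀ (EtLimit.ψh h' g' k₀ e₂ G)) (add_zero k) :=
  (EtMV.T_T (EtCoh.pull h) (EtCoh.pull q) (EtCoh.pull k₀) (EtMV.ψ q h k₀ e₁) _ _ _
      (pullConst_cc h q k₀ e₁ δ d hd₁) k G x).trans
    (EtMV.T_T (EtCoh.pull g') (EtCoh.pull h') (EtCoh.pull k₀) (EtMV.ψ h' g' k₀ e₂) _ _ _
      (cc_cW g' h' k₀ e₂ δ' d hd₂) k G x).symm

end Gen

theorem δd_fst {A B : Scheme.{u}} (h : A ⟶ B) [Etale h] :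
    (δd h).left ≫ fstE h (Scheme.Etale.mk h) = 𝟙 A := pullback.lift_fst _ _ _

theorem hd₁_aux {A B : Scheme.{u}} (q : A ⟶ B) {C : Scheme.{u}} {a : B ⟶ C} :
    (δtop q).left ≫ fstE q (EtCoh.top B) ≫ a = q ≫ a := by
  rw [← Category.assoc, EtBCQ.δtop_fst]

theorem Θ_bijective_of_compN {L : Set ℕ} {n : ℕ} (hq : EtAcyc.CompN (fstE g' W) L n) (G : EtCoh.Ab X)
    (hG : EtAcyc.IsLTorsion L G) :
    (∀ k : ℕ, k ≤ n → Function.Bijective (Θ g' W G k)) ∧ Function.Injective (Θ g' W G (n + 1)) := by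
  haveI := EtCohDesc.pull_preservesFiniteLimits (fstE g' W)
  haveI := EtCohDesc.pull_preservesFiniteLimits W.hom
  haveI := EtCohDesc.pull_preservesFiniteLimits ((EtCoh.bc g').obj W).hom
  haveI := EtCohDesc.pull_preservesFiniteLimits (fstE g' W ≫ W.hom)
  haveI := W.prop
  haveI := ((EtCoh.bc g').obj W).prop
  haveI := isIso_ψh (fstE g' W) W.hom (fstE g' W ≫ W.hom) rfl G
  haveI := isIso_ψh ((EtCoh.bc g').obj W).hom g' (fstE g' W ≫ W.hom) pullback.condition.symm G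
  haveI : Etale W.hom := W.prop
  let q := fstE g' W
  let W' := (EtCoh.bc g').obj W
  let d : EtCoh.top W'.left ⟶ (EtCoh.bc (q ≫ W.hom)).obj W :=
    EtLimit.hm (q ≫ W.hom) W (EtCoh.top W'.left) q (Category.id_comp _).symm
  have hd : d.left ≫ fstE (q ≫ W.hom) W = q := EtLimit.hm_fst _ _ _ _ _
  have hd₁ : (δtop q).left ≫ fstE q (EtCoh.top W.left) ≫ (δd W.hom).left ≫ fstE W.hom W =
      d.left ≫ fstE (q ≫ W.hom) W := by
    refine (hd₁_aux q).trans ?_
    exact (congrArg (q ≫ ·) (δd_fst W.hom)).trans ((Category.comp_id q).trans hd.symm)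
  have hd₂ : (δd W'.hom).left ≫ fstE W'.hom W' ≫ fstE g' W = d.left ≫ fstE (q ≫ W.hom) W := by
    refine (Category.assoc _ _ _).symm.trans ?_
    exact (congrArg (· ≫ fstE g' W) (δd_fst W'.hom)).trans ((Category.id_comp _).trans hd.symm)
  have key : ∀ k, Function.Injective (EtCore.Hpull q ((EtCoh.pull W.hom).obj G) k) →
      Function.Injective (Θ g' W G k) ∧ (Function.Surjective (EtCore.Hpull q ((EtCoh.pull W.hom).obj G) k) →
        Function.Surjective (Θ g' W G k)) := fun k hi =>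
    Θ_bijective_aux _ _ (Θ g' W G k) (T (EtCoh.pull W.hom) (cc W.hom (δd W.hom)) G k) _ _
      (fun x => square_gen g' W.hom q W'.hom (q ≫ W.hom) rfl pullback.condition.symm (δd W.hom) (δd W'.hom) d
        hd₁ hd₂ G k x) hi (EtMV.Tcc_etale_bijective W.hom G k)
      (EtMV.Tcc_etale_bijective W'.hom _ k)
  obtain ⟨hb, hi⟩ := hq ((EtCoh.pull W.hom).obj G) (isLTorsion_pull W.hom hG)
  exact ⟨fun k hk => ⟨(key k (hb k hk).1).1, (key k (hb k hk).1).2 (hb k hk).2⟩, (key (n + 1) hi).1⟩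

end Theta

end Groth.Agent.EtAcycX
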